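import Cfsg.Agent.Lib.Spor.MTwentyThreeOrder.SylowTwentyThree
import Cfsg.Agent.Lib.Char.BSW.Eqs

/-!
Characters of the principal block of a Sylow subgroup of order twenty-three at elements of prime order
centralising it: the nontrivial eigenvalues occur in multiples of twenty-three.
-/

set_option autoImplicit false
set_option linter.unusedSectionVars false
set_option linter.style.haveILetI false
set_option maxHeartbeats 1000000

namespace Cfsg.Agent.MTwentyFour.ByOrder

open Cfsg Cfsg.Agent.Char Cfsg.Agent.Small.Order459648 Cfsg.Agent.Char.PrimeSylowCount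
open Cfsg.Agent.MTwelve.OrderFront (val_one mult_nat)
open Cfsg.Agent.MTwentyThree.ByOrder (Blk)

universe u

variable {G : Type u} [Group G] [Fintype G] [IsSimpleGroup G] [Fact (Nat.Prime 23)]
variable {P : Sylow 23 G} {e : ℕ} {M : Ideal AlgInt} {X Y : Finset (IrrCharacter G)}
  {a : IrrCharacter G → ℤ} {δ : ℤ}

/-- A nontrivial twisted sum at an element centralising the Sylow subgroup. -/
theorem twisted_sum (B : Blk P e M X Y a δ) (hP : Nat.card P = 23) {χ : IrrCharacter G}
    (hχ : χ ∈ X ∨ χ ∈ Y) {y : G} (hy : y ∈ (P : Subgroup G)) (hy1 : y ≠ 1) {q : ℕ} (hq : q.Prime)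
    (hq23 : q ≠ 23) {v : G} (hv : v ^ q = 1) (hc : v * y = y * v) {η : ℂ} (hη : η ^ q = 1) (hη1 : η ≠ 1) :
    ∃ m : ℕ, ∑ j ∈ Finset.range q, η ^ j * (χ : G → ℂ) (v ^ j) = (q : ℂ) * ((23 * m : ℕ) : ℂ) := by
  classical
  have hcy : Commute y v := hc.symm
  have hy23 : y ^ 23 = 1 := by
    rw [← hP]; exact congrArg Subtype.val (pow_card_eq_one' (x := (⟨y, hy⟩ : ↥(P : Subgroup G))))
  have hoy : orderOf y = 23 := orderOf_eq_prime hy23 hy1
  have hconst : ∀ i j : ℕ, i < 23 → i ≠ 0 → (χ : G → ℂ) (y ^ i * v ^ j) = (χ : G → ℂ) (y ^ i) := by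
    intro i j hi hi0
    have hyi : y ^ i ≠ 1 := fun h => by
      have := Nat.le_of_dvd (by omega) (hoy ▸ orderOf_dvd_of_pow_eq_one h)
      omega
    have hm : v ^ j ∈ Subgroup.centralizer ({y ^ i} : Set G) :=
      Subgroup.mem_centralizer_singleton_iff.2 (hcy.symm.pow_pow j i).eq
    refine B.frob.principal_const B.modular ((B.pp.mem_iff χ).2 hχ) (y := ⟨y ^ i, pow_mem hy i⟩) hyi
      ⟨v ^ j, hm⟩ ?_
    rw [Subgroup.orderOf_mk]
    intro h23
    have h2 : orderOf (v ^ j) ∣ q := orderOf_dvd_of_pow_eq_one (by rw [← pow_mul, mul_comm, pow_mul, hv, one_pow])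
    exact hq23 ((Nat.prime_dvd_prime_iff_eq (by norm_num) hq).1 (h23.trans h2)).symm
  have hco : Nat.Coprime 23 q := (Nat.coprime_primes (by norm_num) hq).2 (Ne.symm hq23)
  have hg : (y * v) ^ (23 * q) = 1 := by
    rw [hcy.mul_pow, pow_mul, hy23, one_pow, one_mul, mul_comm 23, pow_mul, hv, one_pow]
  obtain ⟨T, hT⟩ := mult_nat (irr_isCharacter χ.2) (n := 23 * q) (Nat.mul_ne_zero (by norm_num) hq.ne_zero)
    hg (ζ := η) (by rw [mul_comm, pow_mul, hη, one_pow])
  have hinj : Set.InjOn (fun i : ℕ => (i % 23, i % q)) (Finset.range (23 * q) : Set ℕ) := by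
    intro i hi j hj hij
    simp only [Finset.coe_range, Set.mem_Iio, Prod.mk.injEq] at hi hj hij
    exact ((Nat.modEq_and_modEq_iff_modEq_mul hco).1 hij).eq_of_lt_of_lt hi hj
  have himg : (Finset.range (23 * q)).image (fun i : ℕ => (i % 23, i % q)) = Finset.range 23 ×ˢ Finset.range q := by
    refine Finset.eq_of_subset_of_card_le (fun x hx => ?_) ?_
    · obtain ⟨i, -, rfl⟩ := Finset.mem_image.1 hx
      exact Finset.mem_product.2 ⟨Finset.mem_range.2 (Nat.mod_lt _ (by norm_num)),
        Finset.mem_range.2 (Nat.mod_lt _ hq.pos)⟩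
    · rw [Finset.card_image_of_injOn hinj]; simp
  have hsum : ∑ i ∈ Finset.range (23 * q), η ^ i * (χ : G → ℂ) ((y * v) ^ i) =
      ∑ a ∈ Finset.range 23, ∑ b ∈ Finset.range q, η ^ b * (χ : G → ℂ) (y ^ a * v ^ b) := by
    rw [← Finset.sum_product', ← himg, Finset.sum_image hinj]
    refine Finset.sum_congr rfl fun i _ => ?_
    rw [hcy.mul_pow, pow_eq_pow_mod i hy23, pow_eq_pow_mod i hv, pow_eq_pow_mod i hη]
  have hgeo : ∑ b ∈ Finset.range q, η ^ b = 0 := by
    rw [geom_sum_eq hη1, hη, sub_self, zero_div]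
  rw [hsum, show (23 : ℕ) = 22 + 1 from rfl, Finset.sum_range_succ'] at hT
  rw [Finset.sum_congr rfl fun i hi => Finset.sum_congr rfl fun j _ => by
    rw [hconst (i + 1) j (by have := Finset.mem_range.1 hi; omega) (by omega)]] at hT
  simp only [← Finset.sum_mul, hgeo, zero_mul, Finset.sum_const_zero, zero_add, pow_zero, one_mul] at hT
  exact ⟨T, by rw [hT]; push_cast; ring⟩

/-- A character whose degree has the full `q`-part is not in the block, if `q` divides the centraliser. -/
theorem not_full (B : Blk P e M X Y a δ) (hP : Nat.card P = 23) {χ : IrrCharacter G} (hχ : χ ∈ X ∨ χ ∈ Y)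
    {y : G} (hy : y ∈ (P : Subgroup G)) (hy1 : y ≠ 1) {q : ℕ} (hq : q.Prime) (hq23 : q ≠ 23) {v : G}
    (hv : orderOf v = q) (hc : v * y = y * v)
    (hd : q ^ (Nat.card G).factorization q ∣ charDegree (χ : G → ℂ)) (h23 : ¬ 23 ∣ charDegree (χ : G → ℂ)) :
    False := by
  classical
  have hω : IsPrimitiveRoot (Complex.exp (2 * Real.pi * Complex.I / q)) q :=
    Complex.isPrimitiveRoot_exp q hq.ne_zero
  obtain ⟨m, hm⟩ := twisted_sum B hP hχ hy hy1 hq hq23 (by rw [← hv]; exact pow_orderOf_eq_one v) hc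
    hω.pow_eq_one (hω.ne_one hq.one_lt)
  rw [Finset.sum_eq_single 0 (fun j hj hj0 => ?_) (fun h => absurd (Finset.mem_range.2 hq.pos) h)] at hm
  · rw [pow_zero, pow_zero, one_mul, val_one] at hm
    have : charDegree (χ : G → ℂ) = q * (23 * m) := by exact_mod_cast hm
    exact h23 (this ▸ dvd_mul_of_dvd_right (dvd_mul_right 23 m) q)
  · rw [BSW.defect_zero_vanish hq (by rw [← charDegree_eq_deg]; exact hd) (g := v ^ j) ?_, mul_zero]
    have hnd : ¬ q ∣ j := fun h => by
      have := Nat.le_of_dvd (Nat.pos_of_ne_zero hj0) h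
      have := Finset.mem_range.1 hj
      omega
    rw [orderOf_pow, hv, ((hq.coprime_iff_not_dvd).2 hnd).gcd_eq_one, Nat.div_one]

/-- No nontrivial element centralising the Sylow subgroup, given a character of small degree. -/
theorem not_small (B : Blk P e M X Y a δ) (hP : Nat.card P = 23) (hna : ¬ IsMulCommutative G)
    {χ : IrrCharacter G} (hne : χ ≠ oneChar) (hχ : χ ∈ X ∨ χ ∈ Y)
    {y : G} (hy : y ∈ (P : Subgroup G)) (hy1 : y ≠ 1) {q : ℕ} (hq : q.Prime) (hq23 : q ≠ 23) {v : G}
    (hv : orderOf v = q) (hc : v * y = y * v) (hd : charDegree (χ : G → ℂ) < 46) : False := by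
  classical
  obtain ⟨d, ρ, -, hχe⟩ := χ.2
  obtain ⟨μ, hμ, htr, hdet⟩ := exists_eigenvalues ρ v
  have hdeg : charDegree (χ : G → ℂ) = Module.finrank ℂ (Fin d → ℂ) := by
    have h := val_one χ
    rw [← hχe, Representation.char_one] at h
    rw [← hχe]
    exact_mod_cast h.symm
  have hμq : ∀ i, μ i ^ q = 1 := fun i => hv ▸ hμ i
  have hcount : ∀ c : ℂ, c ≠ 1 → c ^ q = 1 → 23 ∣ (Finset.univ.filter fun i => μ i = c).card := by
    intro c hc1 hcq
    have hc0 : c ≠ 0 := fun h => by rw [h, zero_pow hq.ne_zero] at hcq; exact zero_ne_one hcq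
    obtain ⟨m, hm⟩ := twisted_sum B hP hχ hy hy1 hq hq23 (by rw [← hv]; exact pow_orderOf_eq_one v) hc
      (η := c⁻¹) (by rw [inv_pow, hcq, inv_one]) (fun h => hc1 (inv_eq_one.1 h))
    have key : ∀ i, ∑ j ∈ Finset.range q, (c⁻¹ * μ i) ^ j = if μ i = c then (q : ℂ) else 0 := by
      intro i
      split
      · rename_i h1; simp [h1, inv_mul_cancel₀ hc0]
      · rename_i h1
        have h2 : c⁻¹ * μ i ≠ 1 := fun h => h1 ((inv_mul_eq_one₀ hc0).1 h).symm
        rw [geom_sum_eq h2, mul_pow, inv_pow, hcq, hμq i, inv_one, one_mul, sub_self, zero_div]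
    rw [← hχe] at hm
    simp only [htr, Finset.mul_sum, ← mul_pow] at hm
    rw [Finset.sum_comm, Finset.sum_congr rfl fun i _ => key i, ← Finset.sum_filter, Finset.sum_const,
      nsmul_eq_mul, mul_comm] at hm
    have := mul_left_cancel₀ (Nat.cast_ne_zero.2 hq.ne_zero) hm
    exact ⟨m, by exact_mod_cast this⟩
  have hv1 : v ≠ 1 := fun h => by rw [h, orderOf_one] at hv; exact hq.ne_one hv.symm
  obtain ⟨i, hi⟩ : ∃ i, μ i ≠ 1 := by
    by_contra hall
    push Not at hall
    refine SmallOrderGraph.norm_ne_deg hna hne hv1 ?_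
    rw [hdeg, ← hχe, ← pow_one v, htr 1]
    simp [hall]
  have hge : ∀ j, μ j ≠ 1 → 23 ≤ (Finset.univ.filter fun k => μ k = μ j).card := fun j hj =>
    Nat.le_of_dvd (Finset.card_pos.2 ⟨j, by simp⟩) (hcount _ hj (hμq j))
  have htwo : ∀ j, μ j ≠ 1 → μ j = μ i := by
    intro j hj
    by_contra hne'
    have hdisj : Disjoint (Finset.univ.filter fun k => μ k = μ j) (Finset.univ.filter fun k => μ k = μ i) :=
      Finset.disjoint_filter.2 fun k _ h1 h2 => hne' (h1.symm.trans h2)
    have h := Finset.card_le_univ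
      ((Finset.univ.filter fun k => μ k = μ j) ∪ (Finset.univ.filter fun k => μ k = μ i))
    rw [Finset.card_union_of_disjoint hdisj, Fintype.card_fin] at h
    have := hge i hi
    have := hge j hj
    omega
  have h23c : (Finset.univ.filter fun k => μ k = μ i).card = 23 := by
    obtain ⟨m, hm⟩ := hcount _ hi (hμq i)
    have := hge i hi
    have h := Finset.card_le_univ (Finset.univ.filter fun k => μ k = μ i)
    rw [Fintype.card_fin] at h
    omega
  have hd1 : LinearMap.det (ρ v) = 1 := by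
    let f : G →* ℂˣ := (LinearMap.det.comp ρ).toHomUnits
    have hle : commutator G ≤ f.ker := Abelianization.commutator_subset_ker f
    rw [Small.Order459648.perfect hna] at hle
    exact congrArg Units.val (MonoidHom.mem_ker.1 (hle (Subgroup.mem_top v)))
  have h1 := hdet 1
  rw [pow_one, hd1] at h1
  simp only [pow_one] at h1
  rw [← Finset.prod_filter_mul_prod_filter_not Finset.univ (fun k => μ k = μ i), Finset.prod_congr rfl
    (fun k hk => (Finset.mem_filter.1 hk).2), Finset.prod_const, h23c,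
    Finset.prod_eq_one (fun k hk => ?_), mul_one] at h1
  · exact hi (by
      have := pow_gcd_eq_one.2 ⟨h1.symm, hμq i⟩
      rwa [((Nat.coprime_primes (by norm_num) hq).2 (Ne.symm hq23)).gcd_eq_one, pow_one] at this)
  · by_contra hk1
    exact (Finset.mem_filter.1 hk).2 (htwo k hk1)

end Cfsg.Agent.MTwentyFour.ByOrder
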