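import Cfsg.Agent.Lib.Spor.MTwentyFourOrder.SylowArith
import Cfsg.Agent.Lib.Spor.MTwentyFourOrder.SylowTools

/-!
A simple group of the order of the Mathieu group of degree twenty-four has a self-centralising Sylow subgroup
of order twenty-three, with automiser of order eleven.
-/

set_option autoImplicit false
set_option linter.unusedSectionVars false
set_option linter.style.haveILetI false
set_option maxHeartbeats 1000000

namespace Cfsg.Agent.MTwentyFour.ByOrder

open Cfsg Cfsg.Agent.Char Cfsg.Agent.Small.Order459648 Cfsg.Agent.Char.PrimeSylowCount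
open Cfsg.Agent.MTwelve.OrderFront (val_one one_add_sq_le)
open Cfsg.Agent.MTwentyThree.ByOrder (Blk fix_class_dvd cent_regular exists_fixed)

universe u

variable {G : Type u} [Group G] [Fintype G] [IsSimpleGroup G]

theorem na (hG : Nat.card G = 244823040) : ¬ IsMulCommutative G :=
  Lead.BlockDeg.not_comm (p := 23) (m := 10644480) (by norm_num) (by rw [hG]) (by norm_num)

theorem deg_mem (hG : Nat.card G = 244823040) {χ : IrrCharacter G} (hne : χ ≠ oneChar)
    (h23 : ¬ 23 ∣ charDegree (χ : G → ℂ)) : charDegree (χ : G → ℂ) ∈ dEven := by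
  have hd : charDegree (χ : G → ℂ) ∣ 23 * 10644480 := by
    rw [show 23 * 10644480 = Nat.card G from hG.symm]; exact deg_dvd_card χ.2
  have hd' : charDegree (χ : G → ℂ) ∣ 10644480 :=
    (((show Nat.Prime 23 by norm_num).coprime_iff_not_dvd.2 h23).symm).dvd_of_dvd_mul_left hd
  have h1 := one_lt_degree (na hG) hne
  have h := one_add_sq_le (g := (1 : G)) hne (val_one χ)
  have hC : Nat.card (Subgroup.centralizer ({1} : Set G)) ≤ 244823040 := hG ▸ Subgroup.card_le_card_group _
  refine List.mem_filter.2 ⟨mem_divList hd', ?_⟩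
  have h2 : charDegree (χ : G → ℂ) ≤ 15646 := by
    by_contra hb
    have : (15647 : ℤ) * 15647 ≤ (charDegree (χ : G → ℂ) : ℤ) * (charDegree (χ : G → ℂ) : ℤ) :=
      mul_le_mul (by omega) (by omega) (by norm_num) (by omega)
    omega
  simp [h2]
  omega

local instance fact_twentyThree : Fact (Nat.Prime 23) := ⟨by norm_num⟩

/-- An element of prime order of the centraliser. -/
theorem exists_prime_elem (P : Sylow 23 G) {k q : ℕ} (hq : q.Prime) (hqk : q ∣ k)
    (hC : Nat.card (Subgroup.centralizer ((P : Subgroup G) : Set G)) = 23 * k) :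
    ∃ v ∈ Subgroup.centralizer ((P : Subgroup G) : Set G), orderOf v = q := by
  haveI : Fact q.Prime := ⟨hq⟩
  obtain ⟨v, hv⟩ := exists_prime_orderOf_dvd_card' (G := Subgroup.centralizer ((P : Subgroup G) : Set G)) q
    (hC ▸ dvd_mul_of_dvd_right hqk 23)
  exact ⟨v, v.2, by rw [Subgroup.orderOf_coe, hv]⟩

/-- The Sylow subgroup of order twenty-three. -/
theorem exists_twentythree (hG : Nat.card G = 244823040) :
    ∃ P : Sylow 23 G, Nat.card P = 23 ∧ Nat.card (Subgroup.centralizer ((P : Subgroup G) : Set G)) = 23 ∧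
      (Subgroup.centralizer ((P : Subgroup G) : Set G)).relIndex
        (Subgroup.normalizer ((P : Subgroup G) : Set G)) = 11 := by
  classical
  obtain ⟨P, n, e, k, hP, hn, hk, hnek, hn1, hne1, he22, he1, he⟩ :=
    data (G := G) (p := 23) (m := 10644480) (by rw [hG]) (by norm_num) (by norm_num)
  have hC : Nat.card (Subgroup.centralizer ((P : Subgroup G) : Set G)) = 23 * k := hk
  have hk0 : k ≠ 0 := by rintro rfl; simp at hnek
  have hel : e = 2 ∨ e = 11 ∨ e = 22 := by
    have : e ≤ 22 := Nat.le_of_dvd (by norm_num) he22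
    interval_cases e <;> simp_all
  rcases sylow_options (n := n) (by omega) (by omega) hel hnek with ⟨rfl, rfl⟩ | rfl | hcase
  · exact ⟨P, hP, by rw [hC]; omega, he⟩
  · exfalso
    have h : centCard 23 P ≤ 23 := cent_regular P hP hn
    rw [show centCard 23 P = 23 * k from hk] at h
    have hk1 : k = 1 := by omega
    subst hk1
    omega
  exfalso
  obtain ⟨y0, hy0⟩ := SmallOrderGraph.nonOne_nonempty P hP
  set y : G := (y0 : G)
  have hy : y ∈ (P : Subgroup G) := y0.2
  have hy1 : y ≠ 1 := mem_nonOne.1 hy0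
  obtain ⟨t, ht, het⟩ : ∃ t, 0 < t ∧ e * t + 1 = 23 := by
    rcases hel with rfl | rfl | rfl
    exacts [⟨11, by norm_num⟩, ⟨2, by norm_num⟩, ⟨1, by norm_num⟩]
  obtain ⟨M, hM⟩ := exists_pModular (show Nat.Prime 23 by norm_num)
  obtain ⟨X, Y, a, δ, h, h1X, hone, hYc⟩ := Solv.BReyn.exists_principal_one_mem hM hP he (by omega) ht het
  have B : Blk P e M X Y a δ := ⟨hM, he ▸ frobSylow_of_prime hP, h⟩
  have hdX : ∀ χ ∈ X, charDegree (χ : G → ℂ) % 23 = 1 ∨ charDegree (χ : G → ℂ) % 23 = 22 := fun χ hχ => by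
    have h2 := (h.a_congr χ hχ).eq
    rcases h.a_sign χ hχ with e' | e' <;> rw [e'] at h2 <;> omega
  have hdY : ∀ θ ∈ Y, ¬ 23 ∣ charDegree (θ : G → ℂ) ∧
      (e ≠ 2 → charDegree (θ : G → ℂ) % 23 ∈ [1, 22, 11, 12]) := fun θ hθ => by
    have h2 := (h.congrY θ hθ).eq
    rcases h.sign with e' | e' <;> rw [e'] at h2 <;> rcases hel with rfl | rfl | rfl <;>
      refine ⟨by omega, fun he2 => ?_⟩ <;>
        simp only [List.mem_cons, List.not_mem_nil, or_false] <;> omega
  have hYne : ∀ θ ∈ Y, θ ≠ oneChar := fun θ hθ e1 => Finset.disjoint_left.1 h.disj h1X (by subst e1; exact hθ)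
  obtain ⟨θ, hθ⟩ : Y.Nonempty := Finset.card_pos.1 (by omega)
  have hrel : δ * (charDegree (θ : G → ℂ) : ℤ) = 1 + ∑ χ ∈ X.erase oneChar, a χ * (charDegree (χ : G → ℂ) : ℤ) := by
    have h2 := h.rel θ hθ 1 (by simp)
    rw [← Finset.add_sum_erase X _ h1X, hone] at h2
    simp only [val_one] at h2
    have h3 : ((δ * (charDegree (θ : G → ℂ) : ℤ) : ℤ) : ℂ) =
        ((1 + ∑ χ ∈ X.erase oneChar, a χ * (charDegree (χ : G → ℂ) : ℤ) : ℤ) : ℂ) := by
      push_cast at h2 ⊢
      simp only [oneChar, charDegree] at h2 ⊢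
      simpa using h2
    exact_mod_cast h3
  have hXd : ∀ χ ∈ X.erase oneChar, charDegree (χ : G → ℂ) ∈ dEven := fun χ hχ =>
    deg_mem hG (Finset.mem_erase.1 hχ).1 fun h23 => by
      have := hdX χ (Finset.mem_erase.1 hχ).2
      omega
  have hyC : ∀ v ∈ Subgroup.centralizer ((P : Subgroup G) : Set G), v * y = y * v := fun v hv =>
    (Subgroup.mem_centralizer_iff.1 hv y hy).symm
  have hk23 : ∀ q : ℕ, q.Prime → q ∣ k → q ≠ 23 := fun q _ hqk e' => by
    subst e'
    have : 23 ∣ 10644480 := hqk.trans ⟨n * e, by rw [← hnek]; ring⟩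
    norm_num at this
  -- a character of degree less than forty-six is impossible when the centraliser is larger
  have hsmall : k ≠ 1 → ∀ χ : IrrCharacter G, χ ≠ oneChar → (χ ∈ X ∨ χ ∈ Y) →
      charDegree (χ : G → ℂ) < 46 → False := by
    intro hk1 χ hne hmem hlt
    obtain ⟨q, hq, hqk⟩ := Nat.exists_prime_and_dvd hk1
    obtain ⟨v, hvC, hv⟩ := exists_prime_elem P hq hqk hC
    exact not_small B hP (na hG) hne hmem hy hy1 hq (hk23 q hq hqk) hv (hyC v hvC) hlt
  rcases hcase with ⟨rfl, hk1⟩ | ⟨he11, hklist⟩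
  · -- automiser of order two
    obtain ⟨χ, hsing⟩ : ∃ χ, X.erase oneChar = {χ} :=
      Finset.card_eq_one.1 ((Finset.card_erase_of_mem h1X).trans (by rw [h.cardX]))
    obtain ⟨hne, hχX⟩ := Finset.mem_erase.1 (show χ ∈ X.erase oneChar by rw [hsing]; simp)
    rw [hsing, Finset.sum_singleton] at hrel
    have hd : charDegree (χ : G → ℂ) = 22 ∨ charDegree (χ : G → ℂ) = 45 := by
      refine two_degree _ (hXd χ (by rw [hsing]; simp)) (a χ) ?_ ?_ _ (deg_mem hG (hYne θ hθ) (hdY θ hθ).1) δ ?_ ?_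
        hrel
      · rcases h.a_sign χ hχX with h' | h' <;> simp [h']
      · exact Int.emod_eq_zero_of_dvd (Int.modEq_iff_dvd.1 (h.a_congr χ hχX).symm)
      · rcases h.sign with h' | h' <;> simp [h']
      · exact Int.emod_eq_zero_of_dvd (Int.modEq_iff_dvd.1 (h.congrY θ hθ).symm)
    exact hsmall hk1 χ hne (Or.inl hχX) (by omega)
  -- automiser of order eleven or twenty-two: all degrees of the block are even
  suffices heven : ∀ χ : IrrCharacter G, χ ≠ oneChar → (χ ∈ X ∨ χ ∈ Y) → charDegree (χ : G → ℂ) % 2 = 0 by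
    have h1 : (2 : ℤ) ∣ δ * (charDegree (θ : G → ℂ) : ℤ) :=
      Dvd.dvd.mul_left (Int.natCast_dvd_natCast.2 (Nat.dvd_of_mod_eq_zero (heven θ (hYne θ hθ) (Or.inr hθ)))) _
    have h2 : (2 : ℤ) ∣ ∑ χ ∈ X.erase oneChar, a χ * (charDegree (χ : G → ℂ) : ℤ) :=
      Finset.dvd_sum fun χ hχ => Dvd.dvd.mul_left (Int.natCast_dvd_natCast.2 (Nat.dvd_of_mod_eq_zero
        (heven χ (Finset.mem_erase.1 hχ).1 (Or.inl (Finset.mem_erase.1 hχ).2)))) _
    omega
  intro χ hne hmem
  by_contra hodd
  have he2 : e ≠ 2 := by rcases he11 with rfl | rfl <;> norm_num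
  have hd23 : ¬ 23 ∣ charDegree (χ : G → ℂ) := by
    rcases hmem with hX | hY
    · have := hdX χ hX; omega
    · exact (hdY χ hY).1
  have hdl : charDegree (χ : G → ℂ) ∈ [11, 35, 45, 231, 495, 10395] := by
    refine odd_degree _ (deg_mem hG hne hd23) ?_ (by omega)
    rcases hmem with hX | hY
    · rcases hdX χ hX with e' | e' <;> rw [e'] <;> simp
    · exact (hdY χ hY).2 he2
  simp only [List.mem_cons, List.not_mem_nil, or_false] at hdl
  have hfull : ∀ q r : ℕ, q.Prime → q ∣ k → q ^ r ∣ charDegree (χ : G → ℂ) → ¬ q ^ (r + 1) ∣ 244823040 → False := by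
    intro q r hq hqk hqd hqn
    obtain ⟨v, hvC, hv⟩ := exists_prime_elem P hq hqk hC
    refine not_full B hP hmem hy hy1 hq (hk23 q hq hqk) hv (hyC v hvC) ?_ hd23
    refine (pow_dvd_pow q ?_).trans hqd
    by_contra hlt
    exact hqn (((pow_dvd_pow q (show r + 1 ≤ (Nat.card G).factorization q by omega)).trans
      (Nat.ordProj_dvd _ _)).trans (dvd_of_eq hG))
  have hk1 : k ≠ 1 := by
    rintro rfl
    rcases hklist with h' | h' <;> simp [kBig, kSmall] at h'
  rcases hklist with hbig | hsm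
  · -- five and seven divide the index
    have h57 : 5 ∣ k ∧ 7 ∣ k := by
      simp only [kBig, List.mem_cons, List.not_mem_nil, or_false] at hbig
      omega
    rcases hdl with e' | e' | e' | e' | e' | e'
    iterate 3 exact hsmall hk1 χ hne hmem (by omega)
    · exact hfull 7 1 (by norm_num) h57.2 (e' ▸ by norm_num) (by norm_num)
    · exact hfull 5 1 (by norm_num) h57.1 (e' ▸ by norm_num) (by norm_num)
    · exact hfull 5 1 (by norm_num) h57.1 (e' ▸ by norm_num) (by norm_num)
  have h23k : 3 ∣ k ∧ 2 ∣ k := by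
    simp only [kSmall, List.mem_cons, List.not_mem_nil, or_false] at hsm
    omega
  rcases hdl with e' | e' | e' | e' | e' | e'
  iterate 3 exact hsmall hk1 χ hne hmem (by omega)
  rotate_left 2
  · exact hfull 3 3 (by norm_num) h23k.1 (e' ▸ by norm_num) (by norm_num)
  all_goals
    have hfac : 2 ^ k.factorization 2 % 11 ≠ 1 := by
      have hl : 1 ≤ k.factorization 2 ∧ k.factorization 2 < 10 := by
        refine ⟨(Nat.prime_two.pow_dvd_iff_le_factorization hk0).1 (by simpa using h23k.2), ?_⟩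
        by_contra h10
        have h16 := (Nat.prime_two.pow_dvd_iff_le_factorization hk0).2 (not_lt.1 h10)
        simp only [kSmall, List.mem_cons, List.not_mem_nil, or_false] at hsm
        rcases hsm with rfl | rfl | rfl | rfl | rfl | rfl <;> norm_num at h16
      obtain ⟨h1, h10⟩ := hl
      generalize k.factorization 2 = j at h1 h10 ⊢
      interval_cases j <;> norm_num
    obtain ⟨v, f, hvC, hv, hf, hfv⟩ :=
      exists_fixed P hC he (by rcases he11 with rfl | rfl <;> norm_num) hfac hk0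
    obtain ⟨z, hz, h4, hlt⟩ := SmallOrderGraph.invol_value (na hG) hne hv
    obtain ⟨m, hm⟩ := twisted_sum B hP hmem hy hy1 Nat.prime_two (by norm_num)
      (v := v) (by rw [← hv]; exact pow_orderOf_eq_one v) (hyC v hvC) (η := -1) (by norm_num) (by norm_num)
    have h92 : ((charDegree (χ : G → ℂ) : ℤ) - z) % 92 = 0 := by
      simp only [Finset.sum_range_succ, Finset.sum_range_zero, pow_zero, pow_one, one_mul, val_one, hz] at hm
      have : (charDegree (χ : G → ℂ) : ℤ) - z = 2 * (23 * (m : ℤ)) := by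
        have h' : (((charDegree (χ : G → ℂ) : ℤ) - z : ℤ) : ℂ) = ((2 * (23 * (m : ℤ)) : ℤ) : ℂ) := by
          push_cast at hm ⊢; linear_combination hm
        exact_mod_cast h'
      omega
    refine odd_invol _ (by rw [e']; simp) z (mem_valRange hlt) hlt h92 ?_
    have hoy : orderOf y = 23 := by
      have h' := (P : Subgroup G).orderOf_dvd_natCard hy
      rw [show Nat.card (P : Subgroup G) = 23 from hP] at h'
      exact ((Nat.dvd_prime (by norm_num)).1 h').resolve_left fun h' => hy1 (orderOf_eq_one_iff.1 h')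
    have m1 : ∀ x : G, x * v = v * x → orderOf x ∣ Nat.card (Subgroup.centralizer ({v} : Set G)) := fun x hx =>
      (Subgroup.centralizer ({v} : Set G)).orderOf_dvd_natCard (Subgroup.mem_centralizer_singleton_iff.2 hx)
    have h253 : 253 ∣ Nat.card (Subgroup.centralizer ({v} : Set G)) :=
      Nat.Coprime.mul_dvd_of_dvd_of_dvd (by norm_num : Nat.Coprime 11 23) (hf ▸ m1 f hfv)
        (hoy ▸ m1 y (hyC v hvC).symm)
    have hcd := fix_class_dvd χ (q := 2) (S := (charDegree (χ : G → ℂ) : ℤ) + z) (by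
      simp only [Finset.sum_range_succ, Finset.sum_range_zero, pow_zero, pow_one, val_one, hz]
      push_cast; ring) h253
    rw [hG, show 244823040 / 253 = 967680 from rfl, mul_add] at hcd
    exact Int.emod_eq_zero_of_dvd ((dvd_add_right (dvd_mul_left _ _)).1 hcd)

end Cfsg.Agent.MTwentyFour.ByOrder
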