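import Mathlib

/-!
Numerical facts for the Sylow subgroup of order twenty-three of a group of the order of the Mathieu group of
degree twenty-four.
-/

set_option autoImplicit false
set_option maxRecDepth 100000

namespace Cfsg.Agent.MTwentyFour.ByOrder

/-- products of the prime powers of the index of the Sylow subgroup -/
def divList : List ℕ :=
  (List.range 11).flatMap fun a => (List.range 4).flatMap fun b => (List.range 2).flatMap fun c =>
    (List.range 2).flatMap fun d => (List.range 2).map fun e => 2 ^ a * 3 ^ b * 5 ^ c * 7 ^ d * 11 ^ e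

theorem mem_divList {n : ℕ} (h : n ∣ 10644480) : n ∈ divList := by
  rw [show (10644480 : ℕ) = 2 ^ 10 * 3 ^ 3 * 5 ^ 1 * 7 ^ 1 * 11 ^ 1 by norm_num] at h
  obtain ⟨x, e', hx, he, rfl⟩ := Nat.dvd_mul.1 h
  obtain ⟨y, d', hy, hd, rfl⟩ := Nat.dvd_mul.1 hx
  obtain ⟨z, c', hz, hc, rfl⟩ := Nat.dvd_mul.1 hy
  obtain ⟨a', b', ha, hb, rfl⟩ := Nat.dvd_mul.1 hz
  obtain ⟨a, ha1, rfl⟩ := (Nat.dvd_prime_pow (by norm_num)).1 ha
  obtain ⟨b, hb1, rfl⟩ := (Nat.dvd_prime_pow (by norm_num)).1 hb
  obtain ⟨c, hc1, rfl⟩ := (Nat.dvd_prime_pow (by norm_num)).1 hc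
  obtain ⟨d, hd1, rfl⟩ := (Nat.dvd_prime_pow (by norm_num)).1 hd
  obtain ⟨e, he1, rfl⟩ := (Nat.dvd_prime_pow (by norm_num)).1 he
  simp only [divList, List.mem_flatMap, List.mem_map, List.mem_range]
  exact ⟨a, by omega, b, by omega, c, by omega, d, by omega, e, by omega, rfl⟩

/-- the centraliser indices with a divisor five or seven -/
def kBig : List ℕ := [40320, 20160, 1680, 840, 70, 35]

/-- the centraliser indices of order composed of two and three -/
def kSmall : List ℕ := [13824, 6912, 576, 288, 24, 12]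

/-- the cases of the count of Sylow subgroups which are possible by arithmetic -/
def optOk (n e k : ℕ) : Bool :=
  n == 1 || (n == 967680 && e == 11) || n == 24 || (e == 2 && k != 1) ||
    ((e == 11 || e == 22) && (kBig.contains k || kSmall.contains k))

theorem sylow_table : ∀ n ∈ divList, n % 23 = 1 → ∀ e ∈ [2, 11, 22],
    10644480 % (n * e) = 0 → optOk n e (10644480 / (n * e)) = true := by
  decide +kernel

theorem sylow_options {n e k : ℕ} (hn : n ≠ 1) (hn23 : n % 23 = 1) (he : e = 2 ∨ e = 11 ∨ e = 22)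
    (h : n * e * k = 10644480) :
    (n = 967680 ∧ e = 11) ∨ n = 24 ∨ (e = 2 ∧ k ≠ 1) ∨ ((e = 11 ∨ e = 22) ∧ (k ∈ kBig ∨ k ∈ kSmall)) := by
  have hpos : 0 < n * e := Nat.pos_of_ne_zero fun e' => by rw [e', zero_mul] at h; omega
  have hq : 10644480 / (n * e) = k := by rw [← h, Nat.mul_div_cancel_left _ hpos]
  have hm : 10644480 % (n * e) = 0 := by rw [← h, Nat.mul_mod_right]
  have ht := sylow_table n (mem_divList ⟨e * k, by rw [← h, mul_assoc]⟩) hn23 e (by simpa using he) hm
  rw [hq] at ht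
  simp [optOk, hn] at ht
  tauto

/-- the possible degrees of the characters of degree prime to twenty-three -/
def dEven : List ℕ := divList.filter fun d => decide (2 ≤ d) && decide (d ≤ 15646)

theorem two_degree : ∀ d ∈ dEven, ∀ a ∈ ([1, -1] : List ℤ), ((d : ℤ) - a) % 23 = 0 →
    ∀ g ∈ dEven, ∀ δ ∈ ([1, -1] : List ℤ), ((g : ℤ) - δ * 2) % 23 = 0 → δ * g = 1 + a * d →
      d = 22 ∨ d = 45 := by
  decide +kernel

theorem odd_degree : ∀ d ∈ dEven, d % 23 ∈ [1, 22, 11, 12] → d % 2 = 1 → d ∈ [11, 35, 45, 231, 495, 10395] := by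
  decide +kernel

/-- the integers of absolute value less than the degree -/
def valRange (d : ℕ) : List ℤ := (List.range (2 * d)).map fun i : ℕ => (i : ℤ) - (d : ℤ)

theorem mem_valRange {d : ℕ} {z : ℤ} (h : z.natAbs < d) : z ∈ valRange d :=
  List.mem_map.2 ⟨(z + d).toNat, List.mem_range.2 (by omega), by omega⟩

theorem odd_invol : ∀ d ∈ [231, 495], ∀ z ∈ valRange d, z.natAbs < d → ((d : ℤ) - z) % 92 = 0 →
    (967680 * z) % (d : ℤ) ≠ 0 := by
  decide +kernel

end Cfsg.Agent.MTwentyFour.ByOrder
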