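import Cfsg.Agent.Lib.Char.DefectOneGalois
import Cfsg.Agent.Lib.Char.GaloisConj

/-!
# The block of a character of degree prime to `p`, for a Sylow subgroup of order `p`

The block has `e` ordinary characters and one class of `N = (p - 1) / e` exceptional ones, with the signs, the
degrees modulo `p` and the linear relation on the regular elements.
-/

set_option autoImplicit false
set_option linter.unusedSectionVars false
set_option linter.style.haveILetI false

namespace Cfsg.Agent.MTwentyFour.ByOrder.Cover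

open Cfsg Cfsg.Agent.Char Cfsg.Agent.Char.DefectOne

universe u

variable {G : Type u} [Group G] [Fintype G] {p : ℕ} [Fact p.Prime] {M : Ideal AlgInt}

/-- Conjugate Sylow subgroups have the same automiser order. -/
theorem relIndex_sylow_eq (P Q : Sylow p G) :
    (Subgroup.centralizer ((Q : Subgroup G) : Set G)).relIndex
        (Subgroup.normalizer ((Q : Subgroup G) : Set G)) =
      (Subgroup.centralizer ((P : Subgroup G) : Set G)).relIndex
        (Subgroup.normalizer ((P : Subgroup G) : Set G)) := by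
  obtain ⟨g, hg⟩ := MulAction.exists_smul_eq G P Q
  have hQ : (Q : Subgroup G) = (P : Subgroup G).map (MulAut.conj g).toMonoidHom := by
    rw [← hg]; rfl
  have hn : Subgroup.normalizer ((Q : Subgroup G) : Set G) =
      (Subgroup.normalizer ((P : Subgroup G) : Set G)).map (MulAut.conj g).toMonoidHom := by
    rw [hQ]; exact (Subgroup.map_equiv_normalizer_eq _ (MulAut.conj g)).symm
  have hc : Subgroup.centralizer ((Q : Subgroup G) : Set G) =
      (Subgroup.centralizer ((P : Subgroup G) : Set G)).map (MulAut.conj g).toMonoidHom := by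
    refine le_antisymm (fun x hx => ?_) ?_
    · refine Subgroup.mem_map.2 ⟨(MulAut.conj g).symm x, fun y hy => ?_, MulEquiv.apply_symm_apply _ _⟩
      have h := hx (MulAut.conj g y) (hQ ▸ Subgroup.mem_map_of_mem _ hy)
      apply (MulAut.conj g).injective
      rw [map_mul, map_mul, MulEquiv.apply_symm_apply]
      exact h
    · rw [hQ]
      exact Subgroup.map_centralizer_le_centralizer_image _ _
  rw [hn, hc, Subgroup.relIndex_map_map_of_injective _ _ (MulAut.conj g).injective]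

open scoped Classical in
/-- The shape of the block containing a character of degree prime to `p`. -/
theorem exists_cover (P : Sylow p G) (hP : Nat.card P = p) (hM : IsPModular p M) (χ0 : IrrCharacter G)
    (h0 : ¬ p ∣ charDegree (χ0 : G → ℂ)) :
    ∃ (e N : ℕ) (X Y : Finset (IrrCharacter G)) (δ : IrrCharacter G → ℤ) (r : ℤ),
      e * N = p - 1 ∧
      e ∣ (Subgroup.centralizer ((P : Subgroup G) : Set G)).relIndex
        (Subgroup.normalizer ((P : Subgroup G) : Set G)) ∧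
      X.card = e ∧ Y.card = N ∧ Disjoint X Y ∧ χ0 ∈ X ∪ Y ∧
      (∀ χ, χ ∈ X ∪ Y ↔ χ ∈ blockOf M (χ0 : G → ℂ)) ∧
      ¬ (p : ℤ) ∣ r ∧ (∀ χ, δ χ = 1 ∨ δ χ = -1) ∧
      (∀ χ ∈ X ∪ Y, ¬ p ∣ charDegree (χ : G → ℂ)) ∧
      (∀ χ ∈ X, δ χ * (charDegree (χ : G → ℂ) : ℤ) ≡ r [ZMOD p]) ∧
      (∀ y ∈ Y, δ y * (charDegree (y : G → ℂ) : ℤ) ≡ -((e : ℤ) * r) [ZMOD p]) ∧
      (∀ y ∈ Y, ∀ y' ∈ Y, δ y = δ y' ∧ charDegree (y : G → ℂ) = charDegree (y' : G → ℂ) ∧
        ∀ g : G, ¬ p ∣ orderOf g → (y : G → ℂ) g = (y' : G → ℂ) g) ∧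
      (∀ g : G, ¬ p ∣ orderOf g → ∀ y ∈ Y,
        ∑ χ ∈ X, (δ χ : ℂ) * (χ : G → ℂ) g + (δ y : ℂ) * (y : G → ℂ) g = 0) ∧
      ∀ χ ∈ X, ∀ χ' ∈ X, ∀ g : G, p ∣ orderOf g →
        (δ χ : ℂ) * (χ : G → ℂ) g = (δ χ' : ℂ) * (χ' : G → ℂ) g := by
  have hp : p.Prime := Fact.out
  have hMp := pmod_prime hM
  simp only [charDegree_eq_deg] at h0 ⊢
  have hcardP : Nat.card (P : Subgroup G) = p := hP
  have hsq : ¬ p ^ 2 ∣ Nat.card G := fun h => by
    have h1 : p ^ 2 ∣ Nat.card (P : Subgroup G) := by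
      rw [P.card_eq_multiplicity]
      exact pow_dvd_pow p ((hp.pow_dvd_iff_le_factorization Nat.card_pos.ne').mp h)
    rw [hcardP] at h1
    have := Nat.le_of_dvd hp.pos h1
    nlinarith [hp.two_le]
  have hdiv : p ∣ Nat.card G := hcardP ▸ Subgroup.card_subgroup_dvd_card _
  have hfac : (Nat.card G).factorization p = 1 := by
    refine le_antisymm (not_lt.mp fun h => hsq ((hp.pow_dvd_iff_le_factorization Nat.card_pos.ne').mpr h)) ?_
    exact (hp.dvd_iff_one_le_factorization Nat.card_pos.ne').mp hdiv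
  set B := blockOf M (χ0 : G → ℂ) with hBdef
  have hB : IsPBlock M B := isPBlock_blockOf M χ0
  have h0B : χ0 ∈ B := self_mem_blockOf hMp χ0
  have hdef1 : blockDefect p B = 1 := by
    have h1 := dmin_add_defect (p := p) (block_nonempty hMp hB)
    have h2 := dexp_eq_height_add (p := p) h0B
    have h3 : dexp p (χ0 : G → ℂ) = 0 := Nat.factorization_eq_zero_of_not_dvd h0
    omega
  obtain ⟨D, hD⟩ := exists_isDefectGroup hM hB
  have hcard : Nat.card D = p := by rw [card_defectGroup hM hB hD, hdef1, pow_one]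
  obtain ⟨b, hb⟩ := exists_pair_of_le_defect hM hB hD le_rfl
  have hmax := maximal_of_defect hM hD hb
  haveI := Fintype.ofFinite (Subgroup.centralizer (D : Set G))
  obtain ⟨θ, hθ, hθP⟩ := exists_trivial hM hmax hcard hsq
  obtain ⟨N, y, δ, δ₀, η, hN, hem, hy, hyB, hXcard, hδ, hδ₀, hη, hrel, hXd, hYd, hsing⟩ :=
    exists_degrees hM hmax hcard hsq hθ hθP rfl rfl
  generalize he : (Subgroup.centralizer (D : Set G)).relIndex (pairStab (pmod_prime hM) hmax.1.1.2) = e
    at hem hXcard hYd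
  generalize hd : (pairStab (pmod_prime hM) hmax.1.1.2).relIndex (Subgroup.normalizer (D : Set G)) *
    deg (θ : Subgroup.centralizer (D : Set G) → ℂ) = d at hXd hYd
  set X := Finset.univ.filter fun χ => χ ∈ B ∧ χ ∉ Set.range y with hX
  have hmX : ∀ χ, χ ∈ X ↔ χ ∈ B ∧ χ ∉ Set.range y := fun χ => by simp [hX]
  have hmY : ∀ χ, χ ∈ Finset.univ.image y ↔ χ ∈ Set.range y := fun χ => by simp
  let δ' : IrrCharacter G → ℤ := fun χ => if χ ∈ Set.range y then δ₀ else δ χ
  have hδX : ∀ χ ∈ X, δ' χ = δ χ := fun χ hχ => if_neg ((hmX χ).mp hχ).2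
  have hδY : ∀ i, δ' (y i) = δ₀ := fun i => if_pos ⟨i, rfl⟩
  have hdef : ∀ χ ∈ B, ¬ p ∣ deg (χ : G → ℂ) := by
    intro χ hχ hdvd
    haveI : Nontrivial D := Finite.one_lt_card_iff_nontrivial.mp (hcard.symm ▸ hp.one_lt)
    obtain ⟨v0, hv0⟩ := exists_ne (1 : D)
    have hord : orderOf (v0 : G) = p ^ 1 := by
      rw [Subgroup.orderOf_coe, pow_one]
      exact orderOf_eq_prime (pow_p hM hcard v0) hv0
    have hσ : Subgroup.zpowers (v0 : G) = D :=
      Subgroup.eq_of_le_of_card_ge (Subgroup.zpowers_le.mpr v0.2) (by rw [Nat.card_zpowers, hord, hcard, pow_one])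
    have h1 := (blockHeight_eq_zero_iff hχ).mp ((CyclicStructure.main hM hmax hσ le_rfl hord he).2.1 χ hχ)
    have h2 := dmin_add_defect (p := p) ⟨χ, hχ⟩
    rw [hdef1, hfac] at h2
    have h4 := (hp.dvd_iff_one_le_factorization (deg_pos χ.2).ne').mp hdvd
    have h5 : dexp p (χ : G → ℂ) = (deg (χ : G → ℂ)).factorization p := rfl
    omega
  have he0 : 0 < e := Nat.pos_of_ne_zero fun h => by
    rw [h, zero_mul] at hem; have := hp.two_le; omega
  obtain ⟨χ1, hχ1⟩ : X.Nonempty := Finset.card_pos.mp (by rw [hXcard]; exact he0)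
  have hunion : ∀ χ, χ ∈ X ∪ Finset.univ.image y ↔ χ ∈ B := fun χ => by
    rw [Finset.mem_union, hmX, hmY]
    refine ⟨fun h => h.elim (·.1) fun ⟨i, hi⟩ => hi ▸ hyB i, fun h => ?_⟩
    by_cases h' : χ ∈ Set.range y
    · exact Or.inr h'
    · exact Or.inl ⟨h, h'⟩
  refine ⟨e, N, X, Finset.univ.image y, δ', η * (d : ℤ), hem, ?_, hXcard,
    by rw [Finset.card_image_of_injective _ hy, Finset.card_univ, Fintype.card_fin],
    Finset.disjoint_left.mpr fun χ h h' => ((hmX χ).mp h).2 ((hmY χ).mp h'),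
    (hunion χ0).mpr h0B, hunion, ?_, ?_, fun χ hχ => hdef χ ((hunion χ).mp hχ), ?_, ?_, ?_, ?_, ?_⟩
  · have hfacD : (Nat.card D) = p ^ (Nat.card G).factorization p := by rw [hcard, hfac, pow_one]
    rw [← relIndex_sylow_eq P (Sylow.ofCard D hfacD), ← he]
    show _ ∣ (Subgroup.centralizer (D : Set G)).relIndex (Subgroup.normalizer (D : Set G))
    refine Dvd.intro _ (Subgroup.relIndex_mul_relIndex _ _ _ (fun c hc => (mem_pairStab _ _).mpr
        ⟨centralizer_le_norm D hc, stabilizesBlock_of_centralizer hM (IsPGroup.of_card (n := 1)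
          (by rw [hcard, pow_one])) hmax.1.1.2 hc⟩) ?_)
    exact fun x hx => ((mem_pairStab _ _).mp hx).1
  · intro h
    have h1 := (hXd χ1 ((hmX χ1).mp hχ1).1 ((hmX χ1).mp hχ1).2)
    have h2 : (p : ℤ) ∣ δ χ1 * (deg (χ1 : G → ℂ) : ℤ) :=
      Int.modEq_zero_iff_dvd.mp (h1.trans (Int.modEq_zero_iff_dvd.mpr h))
    refine hdef χ1 ((hmX χ1).mp hχ1).1 (Int.natCast_dvd_natCast.mp ?_)
    rcases hδ χ1 with h' | h' <;> rw [h'] at h2
    · simpa using h2
    · simpa using h2
  · intro χ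
    by_cases h : χ ∈ Set.range y
    · rw [show δ' χ = δ₀ from if_pos h]; exact hδ₀
    · rw [show δ' χ = δ χ from if_neg h]; exact hδ χ
  · intro χ hχ
    rw [hδX χ hχ]
    exact hXd χ ((hmX χ).mp hχ).1 ((hmX χ).mp hχ).2
  · intro χ hχ
    obtain ⟨i, rfl⟩ := (hmY χ).mp hχ
    rw [hδY i]
    refine (hYd i).trans ?_
    rw [show -(η * ((e * d : ℕ) : ℤ)) = -((e : ℤ) * (η * (d : ℤ))) by push_cast; ring]
  · intro χ hχ χ' hχ'
    obtain ⟨i, rfl⟩ := (hmY χ).mp hχ
    obtain ⟨j, rfl⟩ := (hmY χ').mp hχ'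
    have hreg : ∀ g : G, ¬ p ∣ orderOf g → (y i : G → ℂ) g = (y j : G → ℂ) g := fun g hg => by
      have h1 := hrel i g hg
      have h2 := hrel j g hg
      have hne : (δ₀ : ℂ) ≠ 0 := by rcases hδ₀ with h | h <;> simp [h]
      refine mul_left_cancel₀ hne ?_
      linear_combination h1 - h2
    refine ⟨by rw [hδY, hδY], ?_, hreg⟩
    have h1 := hreg 1 (by rw [orderOf_one]; exact hp.not_dvd_one)
    rw [char_one_eq_deg (irr_isCharacter (y i).2), char_one_eq_deg (irr_isCharacter (y j).2)] at h1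
    exact_mod_cast h1
  · intro g hg χ hχ
    obtain ⟨i, rfl⟩ := (hmY χ).mp hχ
    rw [hδY i, add_comm, Finset.sum_congr rfl fun χ hχ => by rw [hδX χ hχ]]
    exact hrel i g hg
  · intro χ hχ χ' hχ' g hg
    rw [hδX χ hχ, hδX χ' hχ']
    exact hsing χ ((hmX χ).mp hχ).1 ((hmX χ).mp hχ).2 χ' ((hmX χ').mp hχ').1 ((hmX χ').mp hχ').2 g hg

/-- A block which is not the principal one misses it. -/
theorem not_mem_principal (hM : IsPModular p M) {χ0 χ : IrrCharacter G}
    (h0 : χ0 ∉ principalBlock M G) (hχ : χ ∈ blockOf M (χ0 : G → ℂ)) : χ ∉ principalBlock M G := by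
  intro hpr
  have hMp := pmod_prime hM
  refine h0 ?_
  have h1 : SameBlock M (fun _ : G => (1 : ℂ)) (χ : G → ℂ) := hpr
  have h2 : SameBlock M (χ0 : G → ℂ) (χ : G → ℂ) := hχ
  exact sameBlock_trans hMp h1 (sameBlock_symm hMp h2)

end Cfsg.Agent.MTwentyFour.ByOrder.Cover
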