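import Cfsg.Agent.Lib.Spor.MTwentyFourOrder.FiveLocal
import Cfsg.Agent.Lib.Char.BrauerTuan.Pairs
import Cfsg.Agent.Lib.Char.BSW.Eqs

/-!
A simple group of the order of the Mathieu group of degree twenty-four: the column of the element of order five in
the cyclic group of order ten normalising a Sylow subgroup of order eleven.
-/

set_option autoImplicit false
set_option linter.unusedSectionVars false
set_option maxRecDepth 100000
set_option maxHeartbeats 1000000

namespace Cfsg.Agent.MTwentyFour.ByOrder.FiveColumn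

open Cfsg Cfsg.Agent.Char Cfsg.Agent.Small.Order459648 Cfsg.Agent.Char.PrimeSylowCount
open Cfsg.Agent.MTwelve.OrderFront (val_one)
open Cfsg.Agent.MTwentyFour.ByOrder.Ten
open Cfsg.Agent.MTwentyFour.ByOrder.FiveRow
open scoped ComplexConjugate
open scoped _root_.Classical

universe u

variable {G : Type u} [Group G] [Fintype G]

/-- The column of the element of order five, alongside that of the involution. The sums which count pairs in the
two blocks of eleven and twenty-three are given with their divisibility and sign. -/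
structure FCol (g : G) (z : IrrCharacter G → ℤ) (C k : ℕ) (c : Fin 4 → IrrCharacter G)
    (φ : IrrCharacter G → ℤ) : Prop where
  val : ∀ χ : IrrCharacter G, (χ : G → ℂ) (g ^ 2) = φ χ
  val_pow : ∀ (χ : IrrCharacter G) (i : ℕ), ¬ 5 ∣ i → (χ : G → ℂ) (g ^ (2 * i)) = φ χ
  card_cent : Nat.card (Subgroup.centralizer ({g ^ 2} : Set G)) = 5 * k
  one : φ oneChar = 1
  member : ∀ i, φ (c i) = if charDegree (c i : G → ℂ) % 5 = 1 then 1 else -1
  congr : ∀ χ : IrrCharacter G, (5 : ℤ) ∣ (charDegree (χ : G → ℂ) : ℤ) - φ χ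
  zero : ∀ χ : IrrCharacter G, 5 ∣ charDegree (χ : G → ℂ) → φ χ = 0
  ten : ∀ χ : IrrCharacter G, 5 ∣ charDegree (χ : G → ℂ) → (10 : ℤ) ∣ mEl (charDegree (χ : G → ℂ)) - z χ
  bound : ∀ χ : IrrCharacter G, (5 : ℤ) ∣ mEl (charDegree (χ : G → ℂ)) + 4 * φ χ ∧
    0 ≤ mEl (charDegree (χ : G → ℂ)) + 4 * φ χ ∧ φ χ ≤ mEl (charDegree (χ : G → ℂ))
  class_dvd : ∀ χ : IrrCharacter G, (charDegree (χ : G → ℂ) : ℤ) ∣ ((244823040 / (5 * k) : ℕ) : ℤ) * φ χ
  square : ∑ χ : IrrCharacter G, φ χ * φ χ = 5 * k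
  orth_one : ∑ χ : IrrCharacter G, (charDegree (χ : G → ℂ) : ℤ) * φ χ = 0
  orth_invol : ∑ χ : IrrCharacter G, φ χ * z χ = 0
  lin_eleven : ∑ χ : IrrCharacter G, w11 (charDegree (χ : G → ℂ)) * φ χ = 0
  lin_twentythree : ∑ χ : IrrCharacter G, w23 (charDegree (χ : G → ℂ)) * φ χ = 0
  quad_eleven : ∃ n : ℕ, ∑ χ : IrrCharacter G,
    (w11 (charDegree (χ : G → ℂ)) : ℂ) * (φ χ : ℂ) ^ 2 / (charDegree (χ : G → ℂ) : ℂ) =
      (5 * (k : ℂ)) ^ 2 * n / 244823040
  mixed_eleven : ∃ n : ℕ, ∑ χ : IrrCharacter G,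
    (w11 (charDegree (χ : G → ℂ)) : ℂ) * ((φ χ : ℂ) * (z χ : ℂ)) / (charDegree (χ : G → ℂ) : ℂ) =
      5 * (k : ℂ) * C * n / 244823040
  quad_twentythree : ∃ n : ℕ, ∑ χ : IrrCharacter G,
    (w23 (charDegree (χ : G → ℂ)) : ℂ) * (φ χ : ℂ) ^ 2 / (charDegree (χ : G → ℂ) : ℂ) =
      2 * (5 * (k : ℂ)) ^ 2 * n / 244823040
  mixed_twentythree : ∃ n : ℕ, ∑ χ : IrrCharacter G,
    (w23 (charDegree (χ : G → ℂ)) : ℂ) * ((φ χ : ℂ) * (z χ : ℂ)) / (charDegree (χ : G → ℂ) : ℂ) =
      2 * (5 * (k : ℂ) * C) * n / 244823040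

/-- Conjugate elements have equally large centralisers. -/
theorem cent_conj (a f : G) : Nat.card (Subgroup.centralizer ({a * f * a⁻¹} : Set G)) =
    Nat.card (Subgroup.centralizer ({f} : Set G)) := by
  refine (Nat.card_congr (Equiv.subtypeEquiv (MulAut.conj a).toEquiv fun x => ?_)).symm
  rw [Subgroup.mem_centralizer_singleton_iff, Subgroup.mem_centralizer_singleton_iff]
  simp only [MulEquiv.toEquiv_eq_coe, EquivLike.coe_coe, MulAut.conj_apply]
  rw [show a * x * a⁻¹ * (a * f * a⁻¹) = a * (x * f) * a⁻¹ by group,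
    show a * f * a⁻¹ * (a * x * a⁻¹) = a * (f * x) * a⁻¹ by group]
  exact ⟨fun h => by rw [h], fun h => mul_left_cancel (mul_right_cancel h)⟩

/-- Elements of different orders are not conjugate. -/
theorem not_conj {a b : G} (h : orderOf a ≠ orderOf b) : ¬ IsConj a b := fun hc => by
  obtain ⟨c, rfl⟩ := isConj_iff.1 hc
  exact h ((MulEquiv.orderOf_eq (MulAut.conj c) a).symm.trans (by rw [MulAut.conj_apply]))

/-- A Sylow subgroup of prime order whose automiser is as large as it can be: one class of nontrivial elements. -/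
theorem fuse {p : ℕ} [Fact p.Prime] (Q : Sylow p G) (hQ : Nat.card Q = p) {e : ℕ}
    (he : (Subgroup.centralizer ((Q : Subgroup G) : Set G)).relIndex
      (Subgroup.normalizer ((Q : Subgroup G) : Set G)) = e) (hep : e + 1 = p) {y x : G}
    (hy : y ∈ (Q : Subgroup G)) (hy1 : y ≠ 1) (hx : x ∈ (Q : Subgroup G)) (hx1 : x ≠ 1) : IsConj y x := by
  set N := Subgroup.normalizer ((Q : Subgroup G) : Set G)
  let f : N →* MulAut (Q : Subgroup G) := (Q : Subgroup G).normalizerMonoidHom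
  have hker : f.ker = (Subgroup.centralizer ((Q : Subgroup G) : Set G)).subgroupOf N :=
    Subgroup.normalizerMonoidHom_ker _
  have hrange : Nat.card f.range = e := by rw [← Subgroup.index_ker, hker]; exact he
  set y' : (Q : Subgroup G) := ⟨y, hy⟩
  have hy'1 : y' ≠ 1 := fun h => hy1 (congrArg Subtype.val h)
  have hinj : Function.Injective fun σ : f.range => (σ : MulAut (Q : Subgroup G)) y' := by
    intro σ τ h
    refine Subtype.ext (MulEquiv.ext fun w => ?_)
    obtain ⟨i, hi⟩ : ∃ i : ℤ, y ^ i = (w : G) :=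
      Subgroup.mem_zpowers_iff.1 (by rw [eq_zpowers_of_prime_sylow hQ hy hy1]; exact w.2)
    have hw : w = y' ^ i := Subtype.ext (by rw [Subgroup.coe_zpow]; exact hi.symm)
    rw [hw, map_zpow, map_zpow]
    exact congrArg (· ^ i) h
  have himg : Finset.univ.image (fun σ : f.range => (σ : MulAut (Q : Subgroup G)) y') =
      (Finset.univ : Finset (Q : Subgroup G)).erase 1 := by
    refine Finset.eq_of_subset_of_card_le (fun w hw => ?_) ?_
    · obtain ⟨σ, -, rfl⟩ := Finset.mem_image.1 hw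
      exact Finset.mem_erase.2 ⟨fun h => hy'1 ((map_eq_one_iff _ (MulEquiv.injective _)).1 h), Finset.mem_univ _⟩
    · rw [Finset.card_image_of_injective _ hinj, Finset.card_erase_of_mem (Finset.mem_univ _), Finset.card_univ,
        Finset.card_univ, ← Nat.card_eq_fintype_card, ← Nat.card_eq_fintype_card, hrange,
        show Nat.card (Q : Subgroup G) = p from hQ]
      omega
  have hxm : (⟨x, hx⟩ : (Q : Subgroup G)) ∈ Finset.univ.image (fun σ : f.range => (σ : MulAut (Q : Subgroup G)) y') := by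
    rw [himg]
    exact Finset.mem_erase.2 ⟨fun h => hx1 (congrArg Subtype.val h), Finset.mem_univ _⟩
  obtain ⟨⟨σ, n, rfl⟩, -, hn⟩ := Finset.mem_image.1 hxm
  exact isConj_iff.2 ⟨(n : G), congrArg Subtype.val hn⟩

/-- The count of pairs, as a sum over the characters. -/
theorem pairs_sum (a b y : G) : ∃ n : ℕ,
    (Nat.card G : ℂ) * ∑ χ : IrrCharacter G,
        conj ((χ : G → ℂ) y) * ((χ : G → ℂ) a * (χ : G → ℂ) b / (χ : G → ℂ) 1) =
      (Nat.card (Subgroup.centralizer ({a} : Set G)) : ℂ) * (Nat.card (Subgroup.centralizer ({b} : Set G)) : ℂ) * n := by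
  obtain ⟨n, hn⟩ := BrauerTuan.centralizers_dvd_pairs a b y
  refine ⟨n, ?_⟩
  rw [← BrauerTuan.pairs_formula_two a b y]
  exact_mod_cast hn

variable [IsSimpleGroup G]

local instance fact_fiveCol : Fact (Nat.Prime 5) := ⟨by norm_num⟩
local instance fact_elevenFiveCol : Fact (Nat.Prime 11) := ⟨by norm_num⟩
local instance fact_twentyThreeFiveCol : Fact (Nat.Prime 23) := ⟨by norm_num⟩

/-- An element of order twenty-three: twice its values against a function of two regular elements are the signed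
weights read from the degrees. -/
theorem exists_w23 (hG : Nat.card G = 244823040) :
    ∃ w : G, orderOf w = 23 ∧ ∀ a b : G, ¬ 23 ∣ orderOf a → ¬ 23 ∣ orderOf b →
      2 * ∑ χ : IrrCharacter G, conj ((χ : G → ℂ) w) * ((χ : G → ℂ) a * (χ : G → ℂ) b / (χ : G → ℂ) 1) =
        ∑ χ : IrrCharacter G,
          (w23 (charDegree (χ : G → ℂ)) : ℂ) * ((χ : G → ℂ) a * (χ : G → ℂ) b / (χ : G → ℂ) 1) := by
  obtain ⟨R, hR, hRC, heR⟩ := exists_twentythree hG
  obtain ⟨M, X, Y, α, δ, hM, h, -, -, hYc, hout⟩ :=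
    selfcent_data R hR hRC heR (t := 2) (by norm_num) (by norm_num) (by norm_num)
  obtain ⟨w, hw⟩ := exists_y R hR
  refine ⟨w, Sections.order_eq hR w.2 (mem_nonOne.1 hw), fun a b ha hb => ?_⟩
  obtain ⟨θ, hθm⟩ : ∃ θ, θ ∈ Y := Finset.card_pos.1 (by omega)
  set F : IrrCharacter G → ℂ := fun χ => (χ : G → ℂ) a * (χ : G → ℂ) b / (χ : G → ℂ) 1 with hF
  have hFY : ∀ χ ∈ Y, F χ = F θ := fun χ hχ => by
    simp only [hF]
    rw [h.regY χ hχ θ hθm a ha, h.regY χ hχ θ hθm b hb, h.regY χ hχ θ hθm 1 (by simp)]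
  have hsum := Solv.BReyn.sum_exc hM hR h ⟨θ, hθm⟩ hw
  change 2 * ∑ χ : IrrCharacter G, conj ((χ : G → ℂ) (w : G)) * F χ =
    ∑ χ : IrrCharacter G, (w23 (charDegree (χ : G → ℂ)) : ℂ) * F χ
  have hwX : ∀ χ ∈ X, w23 (charDegree (χ : G → ℂ)) = 2 * α χ := fun χ hχ => by
    have h2 := (h.a_congr χ hχ).eq
    rcases h.a_sign χ hχ with e' | e' <;> rw [e'] at h2 ⊢ <;> simp only [w23] <;> split_ifs <;> omega
  have hwY : ∀ χ ∈ Y, w23 (charDegree (χ : G → ℂ)) = -δ := fun χ hχ => by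
    have h2 := (h.congrY χ hχ).eq
    rcases h.sign with e' | e' <;> rw [e'] at h2 ⊢ <;> simp only [w23] <;> split_ifs <;> omega
  have h0 : ∀ χ ∈ (Finset.univ : Finset (IrrCharacter G)), χ ∉ X ∪ Y →
      (w23 (charDegree (χ : G → ℂ)) : ℂ) * F χ = 0 := fun χ _ hχ => by
    rw [Finset.mem_union, not_or] at hχ
    have := Nat.mod_eq_zero_of_dvd (hout χ hχ.1 hχ.2).2
    rw [show w23 (charDegree (χ : G → ℂ)) = 0 by simp only [w23]; split_ifs <;> omega]
    simp
  have h0' : ∀ χ ∈ (Finset.univ : Finset (IrrCharacter G)), χ ∉ X ∪ Y →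
      conj ((χ : G → ℂ) (w : G)) * F χ = 0 := fun χ _ hχ => by
    rw [Finset.mem_union, not_or] at hχ
    rw [(hout χ hχ.1 hχ.2).1 w hw, map_zero, zero_mul]
  rw [← Finset.sum_subset (Finset.subset_univ (X ∪ Y)) h0, ← Finset.sum_subset (Finset.subset_univ (X ∪ Y)) h0',
    Finset.sum_union h.disj, Finset.sum_union h.disj, mul_add]
  congr 1
  · rw [Finset.mul_sum]
    refine Finset.sum_congr rfl fun χ hχ => ?_
    rw [h.a_val χ hχ w hw, map_intCast, hwX χ hχ]
    push_cast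
    ring
  · rw [Finset.sum_congr rfl fun χ hχ => by rw [hFY χ hχ], ← Finset.sum_mul, ← map_sum, hsum,
      Finset.sum_congr rfl (g := fun _ => (-(δ : ℂ)) * F θ) fun χ hχ => by rw [hwY χ hχ, hFY χ hχ, Int.cast_neg],
      Finset.sum_const, hYc, map_neg, map_intCast, nsmul_eq_mul]
    push_cast
    ring

/-- The column exists. -/
theorem exists_fcol {P : Sylow 11 G} {g : G} {z : IrrCharacter G → ℤ} {C : ℕ} (T : TCol P g z C)
    {Q : Sylow 5 G} {k : ℕ} {M : Ideal AlgInt} {c : Fin 4 → IrrCharacter G} {r : List ℤ}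
    (D : FiveData g Q k M c r) : ∃ φ : IrrCharacter G → ℤ, FCol g z C k c φ := by
  have hf5 : orderOf (g ^ 2) = 5 := by rw [orderOf_pow, T.ord]; rfl
  have ht2 : orderOf (g ^ 5) = 2 := by rw [orderOf_pow, T.ord]; rfl
  obtain ⟨q, hq⟩ := D.fused
  have hq1 : q * g ^ 2 * q⁻¹ ≠ 1 := fun e => by
    rw [conj_eq_one_iff] at e; rw [e, orderOf_one] at hf5; norm_num at hf5
  have hcl : ∀ (χ : IrrCharacter G) (a b : G), (χ : G → ℂ) (a * b * a⁻¹) = (χ : G → ℂ) b := fun χ a b =>
    isClassFunction_character (irr_isCharacter χ.2) b a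
  -- the powers are conjugate
  have hpow : ∀ (χ : IrrCharacter G) (i : ℕ), ¬ 5 ∣ i → (χ : G → ℂ) (g ^ (2 * i)) = (χ : G → ℂ) (g ^ 2) := by
    intro χ i hi
    have hne : (q * g ^ 2 * q⁻¹) ^ i ≠ 1 := fun e => hi (by
      have := orderOf_dvd_of_pow_eq_one e
      rwa [Sections.order_eq D.card hq hq1] at this)
    obtain ⟨a, ha⟩ := isConj_iff.1 (fuse Q D.card D.index (by norm_num) hq hq1 (pow_mem hq i) hne)
    rw [conj_pow, ← pow_mul] at ha
    rw [← hcl χ q (g ^ (2 * i)), ← ha, hcl χ a, hcl χ q]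
  -- the integers
  have hint : ∀ χ : IrrCharacter G, ∃ v : ℤ, (χ : G → ℂ) (g ^ 2) = v ∧
      (5 : ℤ) ∣ (charDegree (χ : G → ℂ) : ℤ) - v := by
    intro χ
    obtain ⟨n, hn⟩ := TenTools.avg_int (irr_isCharacter χ.2) (Subgroup.zpowers (g ^ 2))
    rw [Nat.card_zpowers, hf5, ← Finset.add_sum_erase _ _ (Finset.mem_univ (1 : Subgroup.zpowers (g ^ 2))),
      OneMemClass.coe_one, val_one,
      Finset.sum_congr rfl (g := fun _ => (χ : G → ℂ) (g ^ 2)) fun x hx => ?_,
      Finset.sum_const, Finset.card_erase_of_mem (Finset.mem_univ _), Finset.card_univ, ← Nat.card_eq_fintype_card,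
      Nat.card_zpowers, hf5, nsmul_eq_mul] at hn
    · have hq' : (χ : G → ℂ) (g ^ 2) = (((5 * n - (charDegree (χ : G → ℂ) : ℤ) : ℤ) : ℚ) / 4 : ℚ) := by
        push_cast at hn ⊢
        linear_combination hn / 4
      obtain ⟨v, hv⟩ := isIntegral_rat_cast_imp (hq' ▸ char_isIntegral (irr_isCharacter χ.2) (g ^ 2))
      rw [← hv] at hq'
      refine ⟨v, by rw [hq']; norm_cast, ?_⟩
      have h4 : 4 * v = 5 * n - (charDegree (χ : G → ℂ) : ℤ) := by
        have : (4 : ℚ) * (v : ℚ) = ((5 * n - (charDegree (χ : G → ℂ) : ℤ) : ℤ) : ℚ) := by rw [hv]; ring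
        exact_mod_cast this
      exact ⟨n - v, by omega⟩
    · obtain ⟨i, hi, he⟩ := Finset.mem_image.1 ((mem_zpowers_iff_mem_range_orderOf).1 x.2)
      rw [← he, ← pow_mul]
      refine hpow χ i fun h5 => (Finset.mem_erase.1 hx).1 (Subtype.ext ?_)
      rw [Nat.eq_zero_of_dvd_of_lt h5 (hf5 ▸ Finset.mem_range.1 hi), pow_zero] at he
      exact he.symm
  choose φ hφ hcongr using hint
  have hG := T.order
  have hCf : Nat.card (Subgroup.centralizer ({g ^ 2} : Set G)) = 5 * k := by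
    rw [← cent_conj q (g ^ 2), Sections.cent_eq D.card hq hq1, D.cent]
  have hCt := T.card_cent
  have hzero : ∀ χ : IrrCharacter G, 5 ∣ charDegree (χ : G → ℂ) → ∀ w : G, 5 ∣ orderOf w →
      (χ : G → ℂ) w = 0 := by
    intro χ hd w hw
    refine BSW.defect_zero_vanish (p := 5) (by norm_num) ?_ hw
    rw [← charDegree_eq_deg, hG, show (244823040 : ℕ) = 5 * 48964608 from rfl,
      Nat.factorization_mul (by norm_num) (by norm_num), Finsupp.add_apply,
      (show Nat.Prime 5 by norm_num).factorization_self,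
      Nat.factorization_eq_zero_of_not_dvd (show ¬ 5 ∣ 48964608 by norm_num)]
    simpa using hd
  have hconj : ∀ χ : IrrCharacter G, conj ((χ : G → ℂ) (g ^ 2)) = (χ : G → ℂ) (g ^ 2) := fun χ => by
    rw [hφ χ]; exact map_intCast _ _
  obtain ⟨y, hy⟩ := exists_y P T.card
  have hy1 : (y : G) ≠ 1 := mem_nonOne.1 hy
  have hy11 : orderOf (y : G) = 11 := Sections.order_eq T.card y.2 hy1
  have hyval : ∀ χ : IrrCharacter G, conj ((χ : G → ℂ) (y : G)) = (w11 (charDegree (χ : G → ℂ)) : ℂ) := fun χ => by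
    rw [T.val_eleven χ _ y.2 hy1]; exact map_intCast _ _
  obtain ⟨w, hw23, hw⟩ := exists_w23 hG
  have hrf : ¬ 23 ∣ orderOf (g ^ 2) := by rw [hf5]; norm_num
  have hrt : ¬ 23 ∣ orderOf (g ^ 5) := by rw [ht2]; norm_num
  have hd0 : ∀ χ : IrrCharacter G, (charDegree (χ : G → ℂ) : ℂ) ≠ 0 := fun χ => by
    rw [charDegree_eq_deg]; exact Nat.cast_ne_zero.2 (deg_pos χ.2).ne'
  have hN : (244823040 : ℂ) ≠ 0 := by norm_num
  refine ⟨φ, hφ, fun χ i hi => (hpow χ i hi).trans (hφ χ), hCf, ?_, ?_, hcongr, ?_, ?_, ?_, ?_, ?_, ?_, ?_, ?_, ?_,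
    ?_, ?_, ?_, ?_⟩
  · have := hφ oneChar
    simp [oneChar] at this
    exact_mod_cast this.symm
  · intro i
    have h1 := D.val i ⟨_, hq⟩ (mem_nonOne.2 hq1)
    rw [hcl, hφ] at h1
    split_ifs at h1 ⊢ with h <;> exact_mod_cast h1
  · intro χ hd
    have := hzero χ hd (g ^ 2) (by rw [hf5])
    rw [hφ] at this
    exact_mod_cast this
  · intro χ hd
    refine (ten_values T χ (s := 0) fun i hi hi0 hi5 => ?_).1
    rw [Int.cast_zero]
    refine hzero χ hd _ ?_
    rw [orderOf_pow, T.ord]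
    interval_cases i <;> norm_num at *
  · intro χ
    obtain ⟨hm, -⟩ := sum_sylow P T.card χ (T.val_eleven χ)
    set d := charDegree (χ : G → ℂ)
    have hfree := free hG T.card T.cent T.ord
    obtain ⟨cK, sK⟩ := TenTools.sum_sup (f := (χ : G → ℂ)) (hcl χ) hf5 (pow_mem T.norm 2)
      fun j hj hj0 x hx hc => hfree (2 * j) (by omega) x hx (by rwa [pow_mul])
    obtain ⟨nK, hK⟩ := TenTools.avg_int (irr_isCharacter χ.2) ((P : Subgroup G) ⊔ Subgroup.zpowers (g ^ 2))
    obtain ⟨h0, h1⟩ := TenTools.fixed_mono (irr_isCharacter χ.2) le_sup_left hm hK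
    rw [sK, hm, cK, show Nat.card (P : Subgroup G) = 11 from T.card,
      Finset.sum_congr rfl (g := fun _ => (φ χ : ℂ)) fun i hi => by
        obtain ⟨hi0, hi⟩ := Finset.mem_erase.1 hi
        rw [← pow_mul, hpow χ i (fun h5 => hi0 (Nat.eq_zero_of_dvd_of_lt h5 (Finset.mem_range.1 hi))), hφ],
      Finset.sum_const, Finset.card_erase_of_mem (Finset.mem_range.2 (by norm_num)), Finset.card_range] at hK
    have eK : mEl d + 4 * φ χ = 5 * nK := by
      have : (((11 * (mEl d + 4 * φ χ) : ℤ)) : ℂ) = ((11 * (5 * nK) : ℤ) : ℂ) := by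
        push_cast at hK ⊢; linear_combination hK
      have h' : 11 * (mEl d + 4 * φ χ) = 11 * (5 * nK) := by exact_mod_cast this
      omega
    exact ⟨⟨nK, eK⟩, by omega, by omega⟩
  · intro χ
    exact MTwelve.OrderFront.class_dvd χ (hφ χ) hCf hG
  · have h := second_orth (G := G) (g ^ 2) (g ^ 2)
    rw [if_pos (IsConj.refl _)] at h
    simp only [hφ, map_intCast] at h
    have hcl' := card_conjClass_mul_centralizer (g ^ 2)
    rw [hCf] at hcl'
    have hne : (Nat.card {x : G // IsConj (g ^ 2) x} : ℂ) ≠ 0 := Nat.cast_ne_zero.2 (card_conjClass_ne_zero _)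
    rw [← hcl', Nat.cast_mul, mul_div_cancel_left₀ _ hne] at h
    exact_mod_cast h
  · have h := second_orth (G := G) 1 (g ^ 2)
    rw [if_neg (not_conj (by rw [orderOf_one, hf5]; norm_num))] at h
    simp only [hconj] at h
    simp only [hφ, val_one] at h
    exact_mod_cast h
  · have h := second_orth (G := G) (g ^ 2) (g ^ 5)
    rw [if_neg (not_conj (by rw [hf5, ht2]; norm_num))] at h
    simp only [hφ, T.val, map_intCast] at h
    exact_mod_cast h
  · have h := second_orth (G := G) (g ^ 2) (y : G)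
    rw [if_neg (not_conj (by rw [hf5, hy11]; norm_num)),
      Finset.sum_congr rfl fun χ _ => by rw [hyval χ, hφ χ, mul_comm]] at h
    exact_mod_cast h
  · have h := hw (g ^ 2) 1 hrf (by simp)
    have h' := second_orth (G := G) (g ^ 2) w
    rw [if_neg (not_conj (by rw [hf5, hw23]; norm_num))] at h'
    simp only [val_one, hφ, Int.cast_natCast] at h h'
    simp only [mul_div_cancel_right₀ _ (hd0 _)] at h
    simp only [mul_comm (φ _ : ℂ)] at h'
    rw [h', mul_zero] at h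
    exact_mod_cast h.symm
  · obtain ⟨n, hn⟩ := pairs_sum (g ^ 2) (g ^ 2) (y : G)
    refine ⟨n, ?_⟩
    rw [hCf, hG] at hn
    simp only [hyval, hφ, val_one, Int.cast_natCast] at hn
    push_cast at hn
    rw [eq_div_iff hN, Finset.sum_congr rfl fun χ _ => by rw [pow_two, mul_div_assoc]]
    linear_combination hn
  · obtain ⟨n, hn⟩ := pairs_sum (g ^ 2) (g ^ 5) (y : G)
    refine ⟨n, ?_⟩
    rw [hCf, hCt, hG] at hn
    simp only [hyval, hφ, T.val, val_one, Int.cast_natCast] at hn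
    push_cast at hn
    rw [eq_div_iff hN, Finset.sum_congr rfl fun χ _ => by rw [mul_div_assoc]]
    linear_combination hn
  · obtain ⟨n, hn⟩ := pairs_sum (g ^ 2) (g ^ 2) w
    refine ⟨n, ?_⟩
    have h := hw (g ^ 2) (g ^ 2) hrf hrf
    rw [hCf, hG] at hn
    simp only [hφ, val_one, Int.cast_natCast] at hn h
    push_cast at hn
    rw [eq_div_iff hN, Finset.sum_congr rfl fun χ _ => by rw [pow_two, mul_div_assoc]]
    linear_combination 2 * hn - (244823040 : ℂ) * h
  · obtain ⟨n, hn⟩ := pairs_sum (g ^ 2) (g ^ 5) w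
    refine ⟨n, ?_⟩
    have h := hw (g ^ 2) (g ^ 5) hrf hrt
    rw [hCf, hCt, hG] at hn
    simp only [hφ, T.val, val_one, Int.cast_natCast] at hn h
    push_cast at hn
    rw [eq_div_iff hN, Finset.sum_congr rfl fun χ _ => by rw [mul_div_assoc]]
    linear_combination 2 * hn - (244823040 : ℂ) * h

end Cfsg.Agent.MTwentyFour.ByOrder.FiveColumn
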