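import Cfsg.Agent.Lib.Spor.MTwentyFourOrder.FiveSideTable

/-!
The partners in blocks of five, for a centraliser of order five times 192.
-/

set_option autoImplicit false
set_option maxRecDepth 100000
set_option maxHeartbeats 4000000

namespace Cfsg.Agent.MTwentyFour.ByOrder.FiveSide

/-- The partners of these members. -/
theorem goodSelf_a : ∀ d ∈ [12, 22, 231, 252, 264],
    (selfsBig.filter fun x => x.1 == d).all (goodSelf 192 ctBig tblBig) = true := by
  decide +kernel

/-- The members in the block of twenty-three. -/
theorem selfs_table : selfs 192 = selfsBig := by
  decide +kernel

/-- All members are listed by absolute value. -/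
theorem ct_table : ctOk 192 ctBig = true := by
  decide +kernel

/-- The members left after shrinking. -/
theorem live_table : shrinkN tblBig 2 (selfs 192) = liveBig := by
  decide +kernel

end Cfsg.Agent.MTwentyFour.ByOrder.FiveSide
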