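import Cfsg.Agent.Lib.Spor.MTwentyFourOrder.FiveSideTable

/-!
The partners in blocks of five, for a centraliser of order five times 192.
-/

set_option autoImplicit false
set_option maxRecDepth 100000
set_option maxHeartbeats 4000000

namespace Cfsg.Agent.MTwentyFour.ByOrder.FiveSide

/-- The partners of these members. -/
theorem goodSelf_b : ∀ d ∈ [528, 1024, 2772, 3024],
    (selfsBig.filter fun x => x.1 == d).all (goodSelf 192 ctBig tblBig) = true := by
  decide +kernel

end Cfsg.Agent.MTwentyFour.ByOrder.FiveSide
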