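import Cfsg.Agent.Lib.Spor.MTwentyFourOrder.FiveSideTable

/-!
No list of the block of twenty-three is closed under the blocks of five.
-/

set_option autoImplicit false
set_option maxRecDepth 100000
set_option maxHeartbeats 4000000

namespace Cfsg.Agent.MTwentyFour.ByOrder.FiveSide

/-- No list is left. -/
theorem rows_table : ∀ g ∈ [12, 264, 2772, 3024, 495, 540, 770, 1760, 11880],
    rowsOk 192 tblBig liveBig ordBig xsBig g (fun _ => true) = true := by
  decide +kernel

end Cfsg.Agent.MTwentyFour.ByOrder.FiveSide
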