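import Cfsg.Agent.Lib.Spor.MTwentyFourOrder.FiveSideSound
import Cfsg.Agent.Lib.Spor.MTwentyFourOrder.FiveSideRunA
import Cfsg.Agent.Lib.Spor.MTwentyFourOrder.FiveSideRunB
import Cfsg.Agent.Lib.Spor.MTwentyFourOrder.FiveSideRunC
import Cfsg.Agent.Lib.Spor.MTwentyFourOrder.FiveSideRunD
import Cfsg.Agent.Lib.Spor.MTwentyFourOrder.BlockCover
import Cfsg.Agent.Lib.Spor.MTwentyFourOrder.FiveCol
import Cfsg.Agent.Lib.Spor.MTwentyFourOrder.ThreeCase.Split
import Cfsg.Agent.Lib.Char.DefectOneGalois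
import Cfsg.Agent.Lib.Char.Osima

/-!
A simple group of the order of the Mathieu group of degree twenty-four: the blocks of five on the element of order
five, and the exclusion of a centraliser of order five times one hundred and ninety-two.
-/

set_option autoImplicit false
set_option linter.unusedSectionVars false
set_option maxRecDepth 100000
set_option maxHeartbeats 2000000

namespace Cfsg.Agent.MTwentyFour.ByOrder.FiveSide

open Cfsg Cfsg.Agent.Char Cfsg.Agent.Small.Order459648 Cfsg.Agent.Char.PrimeSylowCount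
open Cfsg.Agent.MTwelve.OrderFront (val_one)
open Cfsg.Agent.MTwentyFour.ByOrder.Ten (TCol mEl w11 w23)
open Cfsg.Agent.MTwentyFour.ByOrder.FiveColumn (FCol)
open Cfsg.Agent.MTwentyFour.ByOrder.FiveRow (FiveData rowA rowB)
open Cfsg.Agent.MTwentyFour.ByOrder.ThreeCase (c23 wt nd ordM xl gl exists_split23 weighted_deg int_form deg_pos'
  w11_eq)
open scoped _root_.Classical

universe u

/-- The degrees, by their residues. -/
theorem deg_table : (List.range 15647).all (fun d =>
    !(decide (2 ≤ d) && decide (ordM % d = 0) && decide (d ≠ 11) && decide (d ≠ 23) &&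
      [0, 1, 22, 11, 12].contains (d % 23) && [0, 1, 10].contains (d % 11)) ||
    ((decide (d % 5 = 0) || dv5.contains d) &&
      (if (w23 d).natAbs = 2 then xl.contains d else if (w23 d).natAbs = 1 then gl.contains d
        else decide (d % 23 = 0)))) = true := by
  decide +kernel

theorem xl_weights : ∀ d ∈ xl, w23 d = 2 * c23 d ∧ wt d = 1 ∧ d % 23 ≠ 0 ∧ exc (d, 0) = false := by
  decide +kernel

theorem gl_weights : ∀ d ∈ gl, w23 d = c23 d ∧ wt d = 2 ∧ d % 23 ≠ 0 ∧ exc (d, 0) = true := by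
  decide +kernel

/-- Every member passes. -/
theorem goodSelf_table : ∀ x ∈ selfs 192, goodSelf 192 ctBig tblBig x = true := by
  intro x hx
  rw [selfs_table] at hx
  have hg : ∀ y ∈ selfsBig, y.1 ∈ [12, 22, 231, 252, 264] ∨ y.1 ∈ [528, 1024, 2772, 3024] ∨
      y.1 ∈ [5544, 6336, 9856, 12672] := by decide +kernel
  have hm : x ∈ selfsBig.filter fun y => y.1 == x.1 := List.mem_filter.2 ⟨hx, by simp⟩
  rcases hg x hx with h | h | h
  · exact List.all_eq_true.1 (goodSelf_a _ h) x hm
  · exact List.all_eq_true.1 (goodSelf_b _ h) x hm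
  · exact List.all_eq_true.1 (goodSelf_c _ h) x hm

/-- The degrees of the members left. -/
theorem live_degs : ∀ p ∈ liveBig, p.1 ∈ ordBig ∧
    (p.1 ∈ gl → p.1 ∈ [12, 264, 2772, 3024, 495, 540, 770, 1760, 11880]) ∧ (p.1 ∈ xl → p.1 ∈ xsBig) := by
  decide +kernel

variable {G : Type u} [Group G] [Fintype G] [IsSimpleGroup G]

local instance fact_fiveSide : Fact (Nat.Prime 5) := ⟨by norm_num⟩
local instance fact_elevenFiveSide : Fact (Nat.Prime 11) := ⟨by norm_num⟩

/-- The block of five of a character of degree prime to five, on the element of order five. -/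
theorem five_block {P : Sylow 11 G} {g : G} {z : IrrCharacter G → ℤ} {C : ℕ} (T : TCol P g z C)
    {Q : Sylow 5 G} {k : ℕ} {M : Ideal AlgInt} {c : Fin 4 → IrrCharacter G} {r : List ℤ}
    (D : FiveData g Q k M c r) {φ : IrrCharacter G → ℤ} (F : FCol g z C k c φ)
    {t : IrrCharacter G → Pr} (ht : ∀ χ, t χ = (charDegree (χ : G → ℂ), φ χ)) (χ0 : IrrCharacter G)
    (h0 : ¬ 5 ∣ charDegree (χ0 : G → ℂ)) :
    ∃ (e N : ℕ) (X Y : Finset (IrrCharacter G)) (y : IrrCharacter G), e * N = 4 ∧ X.card = e ∧ Y.card = N ∧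
      Disjoint X Y ∧ χ0 ∈ X ∪ Y ∧ y ∈ Y ∧
      (∀ χ ∈ X ∪ Y, ¬ 5 ∣ charDegree (χ : G → ℂ) ∧ χ ∈ blockOf M (χ0 : G → ℂ)) ∧
      (∀ y' ∈ Y, t y' = t y) ∧ (∀ χ ∈ X, (φ χ).natAbs = N * (φ y).natAbs) ∧
      ∑ χ ∈ X, xv (t χ) + xv (t y) = 0 ∧ ∑ χ ∈ X, av (t χ) + av (t y) = 0 := by
  have hM := D.modular
  have hMp := pmod_prime hM
  have hG := T.order
  have hsq : ¬ 5 ^ 2 ∣ Nat.card G := by rw [hG]; norm_num
  have hfac : (Nat.card G).factorization 5 = 1 := by
    have hp : Nat.Prime 5 := by norm_num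
    refine le_antisymm (not_lt.mp fun h => hsq ((hp.pow_dvd_iff_le_factorization Nat.card_pos.ne').mpr h)) ?_
    exact (hp.dvd_iff_one_le_factorization Nat.card_pos.ne').mp (by rw [hG]; norm_num)
  have h0' : ¬ 5 ∣ deg (χ0 : G → ℂ) := by rwa [← charDegree_eq_deg]
  set B := blockOf M (χ0 : G → ℂ) with hBdef
  have hB : IsPBlock M B := isPBlock_blockOf M χ0
  have h0B : χ0 ∈ B := self_mem_blockOf hMp χ0
  have hdef1 : blockDefect 5 B = 1 := by
    have h1 := dmin_add_defect (p := 5) (block_nonempty hMp hB)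
    have h2 := dexp_eq_height_add (p := 5) h0B
    have h3 : dexp 5 (χ0 : G → ℂ) = 0 := Nat.factorization_eq_zero_of_not_dvd h0'
    omega
  obtain ⟨D0, hD0⟩ := exists_isDefectGroup hM hB
  have hcard : Nat.card D0 = 5 := by rw [card_defectGroup hM hB hD0, hdef1, pow_one]
  obtain ⟨b, hb⟩ := exists_pair_of_le_defect hM hB hD0 le_rfl
  have hmax := maximal_of_defect hM hD0 hb
  haveI := Fintype.ofFinite (Subgroup.centralizer (D0 : Set G))
  obtain ⟨θ, hθ, hθP⟩ := DefectOne.exists_trivial hM hmax hcard hsq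
  let S : PConj.Setup G 5 := ⟨1, 48964608, by norm_num, by rw [hG]; norm_num, by norm_num⟩
  obtain ⟨N, Y, δ, hN, hem, hYB, hYc, hBc, horb, -, hδ, hsing, hrel⟩ :=
    DefectOne.galois_main_values S hM hmax hcard hsq hθ hθP rfl
  generalize he : (Subgroup.centralizer (D0 : Set G)).relIndex (pairStab (pmod_prime hM) hmax.1.1.2) = e
    at hem hBc
  set X := Finset.univ.filter fun χ => χ ∈ B ∧ χ ∉ Y with hX
  have hmX : ∀ χ, χ ∈ X ↔ χ ∈ B ∧ χ ∉ Y := fun χ => by simp [hX]
  have hdisj : Disjoint X Y := Finset.disjoint_left.2 fun χ h h' => ((hmX χ).1 h).2 h'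
  have hunion : ∀ χ, χ ∈ X ∪ Y ↔ χ ∈ B := fun χ => by
    rw [Finset.mem_union, hmX]
    exact ⟨fun h => h.elim (·.1) (hYB χ), fun h => if h' : χ ∈ Y then Or.inr h' else Or.inl ⟨h, h'⟩⟩
  have hXc : X.card = e := by
    have h1 : (X ∪ Y).card = Nat.card B := by
      rw [← Finset.card_map ⟨id, Function.injective_id⟩, Nat.card_eq_fintype_card]
      rw [Finset.card_map]
      exact (Fintype.card_of_subtype _ hunion).symm
    rw [Finset.card_union_of_disjoint hdisj, hYc, hBc] at h1
    omega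
  obtain ⟨y, hy⟩ : Y.Nonempty := Finset.card_pos.1 (by omega)
  obtain ⟨χ1, hχ1⟩ : X.Nonempty := Finset.card_pos.1 (by rw [hXc]; exact Nat.pos_of_ne_zero fun h => by simp [h] at hem)
  -- the values on the class
  have hgal : ∀ y' ∈ Y, t y' = t y := by
    intro y' hy'
    obtain ⟨u, -, hu⟩ := S.mem_orb.1 (show y' ∈ S.orb y by rw [horb y hy]; exact hy')
    have h1 : (y' : G → ℂ) 1 = (y : G → ℂ) 1 := S.deg_orb (show y' ∈ S.orb y by rw [horb y hy]; exact hy')
    simp only [val_one, Int.cast_natCast, Nat.cast_inj] at h1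
    haveI := S.neZero
    have h2 : ¬ 5 ∣ (u : ZMod (5 ^ S.a * S.m)).val := fun h => by
      have h3 : (u : ZMod (5 ^ S.a * S.m)).val.Coprime (5 ^ S.a * S.m) := ZMod.val_coe_unit_coprime u
      have h4 := Nat.Coprime.coprime_dvd_left h h3
      norm_num [S] at h4
    have h5 : (y' : G → ℂ) (g ^ 2) = (y : G → ℂ) (g ^ 2) := by
      rw [hu, gal, ← pow_mul, F.val_pow y _ h2, F.val]
    rw [F.val, F.val, Int.cast_inj] at h5
    rw [ht, ht, h1, h5]
  have hg2 : 5 ∣ orderOf (g ^ 2) := by rw [orderOf_pow, T.ord]; norm_num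
  set v : ℤ := δ χ1 * φ χ1 with hv
  have hXv : ∀ χ ∈ X, δ χ * φ χ = v := fun χ hχ => by
    obtain ⟨hχB, hχY⟩ := (hmX χ).1 hχ
    obtain ⟨h1B, h1Y⟩ := (hmX χ1).1 hχ1
    have h := hsing χ hχB hχY χ1 h1B h1Y (g ^ 2) hg2
    simp only [F.val] at h
    exact_mod_cast h
  have hfil : (Finset.univ.filter fun χ : IrrCharacter G => χ ∈ B ∧ χ ∉ Y) = X := rfl
  have hone : ∑ χ ∈ X, δ χ * (charDegree (χ : G → ℂ) : ℤ) + δ y * (charDegree (y : G → ℂ) : ℤ) = 0 := by
    have h := hrel 1 (by simp) y hy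
    simp only [hfil, val_one] at h
    exact_mod_cast h
  obtain ⟨w, hw⟩ := Ten.exists_y P T.card
  have hw1 : (w : G) ≠ 1 := mem_nonOne.1 hw
  have helv : ∑ χ ∈ X, δ χ * w11 (charDegree (χ : G → ℂ)) + δ y * w11 (charDegree (y : G → ℂ)) = 0 := by
    have h := hrel (w : G) (by rw [Sections.order_eq T.card w.2 hw1]; norm_num) y hy
    simp only [hfil, T.val_eleven _ _ w.2 hw1] at h
    exact_mod_cast h
  have hdy : (charDegree (y : G → ℂ) : ℤ) ≠ 0 := by exact_mod_cast (deg_pos' y).ne'
  have hweak : ∑ χ ∈ X, (charDegree (χ : G → ℂ) : ℤ) * φ χ +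
      (N : ℤ) * ((charDegree (y : G → ℂ) : ℤ) * φ y) = 0 := by
    have h := weak_orthogonality hM hB (x := (1 : G)) (y := g ^ 2) (by simp) hg2
    rw [finsum_mem_irr, show (Finset.univ.filter fun χ => χ ∈ B) = X ∪ Y by ext χ; simp [hunion χ],
      Finset.sum_union hdisj] at h
    simp only [val_one, F.val, map_intCast] at h
    rw [Finset.sum_congr rfl (s₁ := Y)
      (g := fun _ => ((charDegree (y : G → ℂ) : ℤ) : ℂ) * (φ y : ℂ)) fun y' hy' => by
        have h' := hgal y' hy'
        rw [ht, ht, Prod.mk.injEq] at h'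
        rw [h'.1, h'.2], Finset.sum_const, hYc, nsmul_eq_mul] at h
    exact_mod_cast h
  have hδsq : ∀ χ, δ χ * δ χ = 1 := fun χ => by rcases hδ χ with e' | e' <;> simp [e']
  have hNy : (N : ℤ) * φ y = v * δ y := by
    have h1 : ∑ χ ∈ X, (charDegree (χ : G → ℂ) : ℤ) * φ χ = v * ∑ χ ∈ X, δ χ * (charDegree (χ : G → ℂ) : ℤ) := by
      rw [Finset.mul_sum]
      refine Finset.sum_congr rfl fun χ hχ => ?_
      rw [← hXv χ hχ]
      linear_combination -((charDegree (χ : G → ℂ) : ℤ) * φ χ) * hδsq χ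
    rw [h1, eq_neg_of_add_eq_zero_left hone] at hweak
    refine sub_eq_zero.1 ((mul_eq_zero.1 (show (charDegree (y : G → ℂ) : ℤ) * ((N : ℤ) * φ y - v * δ y) = 0 by
      linear_combination hweak)).resolve_left hdy)
  have hφ0 : φ χ0 ≠ 0 := fun h => by
    have h1 := F.congr χ0
    rw [h, sub_zero] at h1
    exact h0 (by exact_mod_cast h1)
  have hv0 : v ≠ 0 := by
    intro h
    rcases Finset.mem_union.1 ((hunion χ0).2 h0B) with hm | hm
    · have := hXv χ0 hm
      rw [h, mul_eq_zero] at this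
      rcases this with e' | e'
      · rcases hδ χ0 with h' | h' <;> omega
      · exact hφ0 e'
    · have h' := hgal χ0 hm
      rw [ht, ht, Prod.mk.injEq] at h'
      rw [h, zero_mul, ← h'.2] at hNy
      exact hφ0 ((mul_eq_zero.1 hNy).resolve_left (by omega))
  set s : ℤ := if v < 0 then -1 else 1 with hs
  have hXs : ∀ χ ∈ X, φ χ ≠ 0 ∧ (φ χ).natAbs = v.natAbs ∧ xv (t χ) = s * (δ χ * (charDegree (χ : G → ℂ) : ℤ)) ∧
      av (t χ) = s * (δ χ * w11 (charDegree (χ : G → ℂ))) := by
    intro χ hχ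
    have h1 := hXv χ hχ
    simp only [xv, av, ht, w11_eq, hs]
    rcases hδ χ with e' | e' <;> rw [e'] at h1 ⊢ <;> refine ⟨by omega, by omega, ?_, ?_⟩ <;> split_ifs <;> omega
  have hyy : φ y ≠ 0 := fun h => by
    rw [h, mul_zero] at hNy
    rcases hδ y with e' | e' <;> rw [e'] at hNy <;> omega
  have hys : v.natAbs = N * (φ y).natAbs ∧ xv (t y) = s * (δ y * (charDegree (y : G → ℂ) : ℤ)) ∧
      av (t y) = s * (δ y * w11 (charDegree (y : G → ℂ))) := by
    have habs : ((N : ℤ) * φ y).natAbs = N * (φ y).natAbs := by rw [Int.natAbs_mul, Int.natAbs_natCast]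
    have hpos : 0 < φ y → 0 < (N : ℤ) * φ y := fun h => mul_pos (by omega) h
    have hneg : φ y < 0 → (N : ℤ) * φ y < 0 := fun h => mul_neg_of_pos_of_neg (by omega) h
    rw [hNy] at habs hpos hneg
    simp only [xv, av, ht, w11_eq, hs]
    rcases hδ y with e' | e' <;> rw [e'] at habs hpos hneg ⊢ <;> refine ⟨by omega, ?_, ?_⟩ <;> split_ifs <;> omega
  refine ⟨e, N, X, Y, y, hem, hXc, hYc, hdisj, (hunion χ0).2 h0B, hy, fun χ hχ => ⟨fun h5 => ?_, (hunion χ).1 hχ⟩,
    hgal, fun χ hχ => by rw [(hXs χ hχ).2.1, hys.1], ?_, ?_⟩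
  · have hz := F.zero χ h5
    rcases Finset.mem_union.1 hχ with hm | hm
    · exact (hXs χ hm).1 hz
    · have h' := hgal χ hm
      rw [ht, ht, Prod.mk.injEq] at h'
      exact hyy (h'.2 ▸ hz)
  · rw [Finset.sum_congr rfl fun χ hχ => (hXs χ hχ).2.2.1, hys.2.1, ← Finset.mul_sum, ← mul_add, hone, mul_zero]
  · rw [Finset.sum_congr rfl fun χ hχ => (hXs χ hχ).2.2.2, hys.2.2, ← Finset.mul_sum, ← mul_add, helv, mul_zero]

/-- Without a character of degree twenty-three the block of twenty-three, at the element of order five, is one of the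
lists left by a table of partners in blocks of five. -/
theorem exists_list {P : Sylow 11 G} {g : G} {z : IrrCharacter G → ℤ} {C : ℕ} (T : TCol P g z C)
    {Q : Sylow 5 G} {k : ℕ} {M : Ideal AlgInt} {c : Fin 4 → IrrCharacter G} {r : List ℤ}
    (hr : r = rowA ∨ r = rowB) (D : FiveData g Q k M c r) {φ : IrrCharacter G → ℤ} (F : FCol g z C k c φ)
    (hno : ∀ χ : IrrCharacter G, charDegree (χ : G → ℂ) ≠ 23) (hk : k ≤ 192) {ct : CTbl} (hct : ctOk k ct = true)
    {tb : Tbl} (htb : ∀ x ∈ selfs k, goodSelf k ct tb x = true) {live : List Pr} {m : ℕ}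
    (hlive : shrinkN tb m (selfs k) = live) {ord xs gs : List ℕ} (hord : ord.Nodup)
    (hdeg : ∀ p ∈ live, p.1 ∈ ord ∧ (p.1 ∈ gl → p.1 ∈ gs) ∧ (p.1 ∈ xl → p.1 ∈ xs))
    (hgs : ∀ d ∈ gl, d % 5 = 0 → d ∈ gs) {keep : List Pr → Bool}
    (hrows : ∀ d ∈ gs, rowsOk k tb live ord xs d keep = true) :
    ∃ (η η' : IrrCharacter G) (A : Finset (IrrCharacter G)) (L' : List Pr), η ≠ η' ∧ η ∉ A ∧ η' ∉ A ∧ A.card = 9 ∧
      (∀ χ, χ ∈ A ↔ (w23 (charDegree (χ : G → ℂ))).natAbs = 2 ∧ χ ≠ oneChar ∧ χ ≠ c 2) ∧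
      (∀ χ, χ = η ∨ χ = η' ↔ (w23 (charDegree (χ : G → ℂ))).natAbs = 1) ∧
      charDegree (η' : G → ℂ) = charDegree (η : G → ℂ) ∧ φ η' = φ η ∧
      L'.Perm ((((η :: A.toList).map fun χ : IrrCharacter G => ((charDegree (χ : G → ℂ), φ χ) : Pr)).filter
        fun y => y.1 % 5 != 0)) ∧ keep L' = false := by
  have hG := T.order
  obtain ⟨η, η', hne, hη, h11c, hreg⟩ := exists_split23 (G := G) hG
  let d : IrrCharacter G → ℕ := fun χ => charDegree (χ : G → ℂ)
  let t : IrrCharacter G → Pr := fun χ => (d χ, φ χ)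
  have ht : ∀ χ, t χ = (charDegree (χ : G → ℂ), φ χ) := fun _ => rfl
  -- the known members
  have hd1 : d oneChar = 1 := by simp [d, oneChar, charDegree]
  have hcd : ∀ i, (i ≠ 2 → d (c i) % 23 = 0) ∧ (i = 2 → d (c i) = 5544) ∧ (i = 3 → d (c i) = 5796) := by
    have h := D.row
    intro i
    rcases hr with rfl | rfl <;>
    · simp only [List.ofFn_succ, List.ofFn_zero, rowA, rowB, List.cons.injEq, and_true] at h
      obtain ⟨h1, h2, h3, h4⟩ := h
      fin_cases i <;> simp only [d] at * <;> simp at * <;> split_ifs at * <;> omega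
  have hd2 : d (c 2) = 5544 := (hcd 2).2.1 rfl
  have hd3 : d (c 3) = 5796 := (hcd 3).2.2 rfl
  have hf2 : φ (c 2) = -1 := by
    have h1 := F.member 2
    rw [show charDegree (c 2 : G → ℂ) = 5544 from hd2] at h1
    simpa using h1
  have hf3 : φ (c 3) = 1 := by
    have h1 := F.member 3
    rw [show charDegree (c 3 : G → ℂ) = 5796 from hd3] at h1
    simpa using h1
  have hpr : ∀ χ, χ ∉ principalBlock M G → χ ≠ oneChar ∧ χ ≠ c 2 ∧ χ ≠ c 3 := fun χ h =>
    ⟨fun e => h ((D.mem_iff χ).2 (Or.inl e)), fun e => h ((D.mem_iff χ).2 (Or.inr ⟨2, e.symm⟩)),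
      fun e => h ((D.mem_iff χ).2 (Or.inr ⟨3, e.symm⟩))⟩
  -- what is left of the sums
  obtain ⟨hN, -, -, h23d, -⟩ := weighted_deg (G := G) hG T
  have hrest : ∀ S : Finset (IrrCharacter G), (∀ χ ∈ S, χ ∉ principalBlock M G) →
      ∑ χ ∈ S, d χ * d χ ≤ room ∧ ∑ χ ∈ S, φ χ * φ χ ≤ 5 * (k : ℤ) - 5 := by
    intro S hS
    set K : Finset (IrrCharacter G) := {oneChar, c 2, c 3} with hK
    have h1 : oneChar ∉ ({c 2, c 3} : Finset (IrrCharacter G)) := by
      simp [(D.ne_one 2).symm, (D.ne_one 3).symm]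
    have h2 : c 2 ∉ ({c 3} : Finset (IrrCharacter G)) := by
      rw [Finset.mem_singleton]; exact fun e => absurd (D.inj e) (by decide)
    have hdisj : Disjoint K S := Finset.disjoint_left.2 fun χ hK' hS' => by
      obtain ⟨a, b, c'⟩ := hpr χ (hS χ hS')
      simp [hK, a, b, c'] at hK'
    constructor
    · have h := Finset.sum_le_sum_of_subset_of_nonneg (f := fun χ => (d χ : ℤ) * d χ) (Finset.subset_univ (K ∪ S))
        fun i _ _ => mul_self_nonneg _
      rw [Finset.sum_union hdisj, hK, Finset.sum_insert h1, Finset.sum_insert h2, Finset.sum_singleton, hd1, hd2,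
        hd3] at h
      simp only [d] at h hN ⊢
      rw [hN] at h
      rw [show room = 180493487 by decide +kernel]
      have h' : ((∑ χ ∈ S, charDegree (χ : G → ℂ) * charDegree (χ : G → ℂ) : ℕ) : ℤ) ≤ 180493487 := by
        push_cast at h ⊢
        linarith
      exact_mod_cast h'
    · have hsum : ∀ χ, χ ∉ K → 0 ≤ φ χ * φ χ := fun χ _ => mul_self_nonneg _
      have h := Finset.sum_le_sum_of_subset_of_nonneg (f := fun χ => φ χ * φ χ) (Finset.subset_univ (K ∪ S))
        fun i _ _ => mul_self_nonneg _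
      rw [F.square, Finset.sum_union hdisj, hK, Finset.sum_insert h1, Finset.sum_insert h2, Finset.sum_singleton,
        F.one, hf2, hf3] at h
      rcases S.eq_empty_or_nonempty with rfl | ⟨χ, hχ⟩
      · have hk1 : 0 < 5 * k := F.card_cent ▸ Nat.card_pos
        rw [Finset.sum_empty]
        omega
      · -- two further members of the principal block
        have h5 : ∀ i, 1 ≤ φ (c i) * φ (c i) := fun i => by rw [F.member]; split_ifs <;> norm_num
        set K' : Finset (IrrCharacter G) := insert oneChar (Finset.univ.image c) with hK'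
        have hdisj' : Disjoint K' S := Finset.disjoint_left.2 fun χ hK'' hS' => hS χ hS' ((D.mem_iff χ).2 (by
          simpa [hK'] using hK''))
        have h6 := Finset.sum_le_sum_of_subset_of_nonneg (f := fun χ => φ χ * φ χ) (Finset.subset_univ (K' ∪ S))
          fun i _ _ => mul_self_nonneg _
        rw [F.square, Finset.sum_union hdisj', hK', Finset.sum_insert (by simpa using fun i => D.ne_one i),
          Finset.sum_image D.inj.injOn, F.one, Fin.sum_univ_four] at h6
        linarith [h5 0, h5 1, h5 2, h5 3]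
  -- the degrees
  have hcls : ∀ χ, χ ≠ oneChar → ((d χ % 5 = 0 ∨ d χ ∈ dv5) ∧
      if (w23 (d χ)).natAbs = 2 then d χ ∈ xl else if (w23 (d χ)).natAbs = 1 then d χ ∈ gl else d χ % 23 = 0) := by
    intro χ hne1
    obtain ⟨h2, hoff⟩ := Eleven.deg_range hG hne1
    simp only [Eleven.off] at hoff
    have h := List.all_eq_true.1 deg_table (d χ) (List.mem_range.2 (by simp only [d]; omega))
    have h23 := Eleven.deg_res hG χ
    have h11 := deg_res_eleven hG χ
    simp only [Eleven.res, List.mem_cons, List.not_mem_nil, or_false] at h23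
    simp only [Five.resEleven, List.mem_cons, List.not_mem_nil, or_false] at h11
    have hne11 : charDegree (χ : G → ℂ) ≠ 11 := MathieuByGraph.deg_ne_eleven (na hG) (by rw [hG]; norm_num)
      (by rw [hG]; norm_num) (by rw [hG]; norm_num) hne1
    have hcond : (decide (2 ≤ d χ) && decide (ordM % d χ = 0) && decide (d χ ≠ 11) &&
        decide (d χ ≠ 23) && [0, 1, 22, 11, 12].contains (d χ % 23) &&
        [0, 1, 10].contains (d χ % 11)) = true := by
      simp only [Bool.and_eq_true, decide_eq_true_eq, List.contains_iff_mem, List.mem_cons, List.not_mem_nil,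
        or_false, d]
      refine ⟨⟨⟨⟨⟨h2, Nat.mod_eq_zero_of_dvd (ThreeCase.deg_dvd hG χ)⟩, hne11⟩, hno χ⟩, ?_⟩, h11⟩
      omega
    rw [hcond, Bool.not_true, Bool.false_or, Bool.and_eq_true, Bool.or_eq_true, decide_eq_true_eq,
      List.contains_iff_mem] at h
    refine ⟨h.1, ?_⟩
    have h' := h.2
    split_ifs at h' ⊢ <;> first | exact List.contains_iff_mem.1 h' | exact of_decide_eq_true h'
  have hitem : ∀ χ, χ ∉ principalBlock M G → d χ % 5 ≠ 0 → isItem k (t χ) = true := by
    intro χ hχ h5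
    obtain ⟨hsq, -⟩ := hrest {χ} (by simpa using hχ)
    have hsq' := (hrest {χ} (by simpa using hχ)).2
    rw [Finset.sum_singleton] at hsq'
    obtain ⟨b1, b2, b3⟩ := F.bound χ
    refine isItem_iff.2 ⟨(hcls χ (hpr χ hχ).1).1.resolve_left h5, ?_⟩
    have h1 := Int.emod_eq_zero_of_dvd (F.congr χ)
    have h2 := Int.emod_eq_zero_of_dvd (F.class_dvd χ)
    simp only [fok, t, d, Bool.and_eq_true]
    exact ⟨⟨⟨⟨decide_eq_true hsq', decide_eq_true h1⟩, decide_eq_true b3⟩, decide_eq_true b2⟩, decide_eq_true h2⟩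
  -- the block of twenty-three
  set A := Finset.univ.filter fun χ : IrrCharacter G => (w23 (d χ)).natAbs = 2 with hA
  set A9 := (A.erase oneChar).erase (c 2) with hA9
  have h1A : oneChar ∈ A := by
    rw [hA, Finset.mem_filter, hd1]; exact ⟨Finset.mem_univ _, by decide⟩
  have h2A : c 2 ∈ A.erase oneChar := by
    rw [Finset.mem_erase, hA, Finset.mem_filter, hd2]; exact ⟨D.ne_one 2, Finset.mem_univ _, by decide⟩
  have hA9c : A9.card = 9 := by
    rw [hA9, Finset.card_erase_of_mem h2A, Finset.card_erase_of_mem h1A, show A.card = 11 from h11c]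
  have hwη : ∀ χ ∈ ({η, η'} : Finset (IrrCharacter G)), (w23 (d χ)).natAbs = 1 := fun χ h =>
    (hη χ).2 (by simpa using h)
  set S := A9 ∪ {η, η'} with hS
  have hdisjη : Disjoint A9 {η, η'} := Finset.disjoint_left.2 fun χ h h' => by
    simp only [hA9, hA, Finset.mem_erase, Finset.mem_filter] at h
    have := hwη χ h'
    omega
  have hSnp : ∀ χ ∈ S, χ ∉ principalBlock M G := by
    intro χ hχ hp'
    have hwχ : (w23 (d χ)).natAbs = 1 ∨ (w23 (d χ)).natAbs = 2 ∧ χ ≠ oneChar ∧ χ ≠ c 2 := by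
      rcases Finset.mem_union.1 hχ with h | h
      · simp only [hA9, hA, Finset.mem_erase, Finset.mem_filter] at h
        exact Or.inr ⟨h.2.2.2, h.2.1, h.1⟩
      · exact Or.inl (hwη χ h)
    rcases (D.mem_iff χ).1 hp' with rfl | ⟨i, rfl⟩
    · rw [hd1] at hwχ; simp [w23] at hwχ
    · by_cases hi : i = 2
      · subst hi; rw [hd2] at hwχ; simp [w23] at hwχ
      · have h0 : (w23 (d (c i))).natAbs = 0 := by
          have := (hcd i).1 hi
          simp [w23, this]
        omega
  have hxl : ∀ χ ∈ A9, d χ ∈ xl := fun χ hχ => by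
    simp only [hA9, hA, Finset.mem_erase, Finset.mem_filter] at hχ
    have := (hcls χ hχ.2.1).2
    rwa [if_pos hχ.2.2.2] at this
  have hgl : ∀ χ ∈ ({η, η'} : Finset (IrrCharacter G)), d χ ∈ gl := fun χ hχ => by
    have hw := hwη χ hχ
    have hne1 : χ ≠ oneChar := fun e => by rw [e, hd1] at hw; simp [w23] at hw
    have := (hcls χ hne1).2
    rwa [if_neg (by omega), if_pos hw] at this
  have htη : t η' = t η := by
    have h1 := hreg 1 (by simp)
    have h2 := hreg (g ^ 2) (by rw [orderOf_pow, T.ord]; norm_num)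
    simp only [val_one, Int.cast_natCast, Nat.cast_inj] at h1
    simp only [F.val, Int.cast_inj] at h2
    simp [t, d, h1, h2]
  set L : List Pr := A9.toList.map t with hL
  have hE : ((expandP (t η :: L) : List Pr) : Multiset Pr) = S.val.map t := by
    have h1 : expandP L = L := by
      have : ∀ l : List Pr, (∀ x ∈ l, wt x.1 = 1) → expandP l = l := fun l hl => by
        induction l with
        | nil => rfl
        | cons a l ih =>
          rw [expandP, List.flatMap_cons, hl a (by simp)]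
          simp only [Int.toNat_one, List.replicate_one, List.singleton_append, List.cons.injEq, true_and]
          exact ih fun x hx => hl x (List.mem_cons_of_mem _ hx)
      refine this L fun x hx => ?_
      obtain ⟨χ, hχ, rfl⟩ := List.mem_map.1 hx
      exact (xl_weights _ (hxl χ (Finset.mem_toList.1 hχ))).2.1
    have h2 : expandP (t η :: L) = [t η, t η] ++ L := by
      conv_lhs => rw [expandP, List.flatMap_cons]
      rw [show wt (t η).1 = 2 from (gl_weights _ (hgl η (by simp))).2.1]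
      show [t η, t η] ++ expandP L = _
      rw [h1]
    rw [h2, ← Multiset.coe_add, hS, ← Finset.disjUnion_eq_union _ _ hdisjη, Finset.disjUnion_val, Multiset.map_add,
      add_comm, hL, ← Multiset.map_coe, Finset.coe_toList]
    congr 1
    rw [Finset.insert_val_of_notMem (by simpa using hne), Finset.singleton_val, Multiset.map_cons,
      Multiset.map_singleton, htη]
    rfl
  set S5 := S.filter fun χ => d χ % 5 ≠ 0 with hS5
  have hE5 : (((expandP (t η :: L)).filter fun y => y.1 % 5 != 0 : List Pr) : Multiset Pr) = S5.val.map t := by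
    rw [show (((expandP (t η :: L)).filter fun y => y.1 % 5 != 0 : List Pr) : Multiset Pr) =
        Multiset.filter (fun y => (y.1 % 5 != 0) = true) (expandP (t η :: L) : Multiset Pr) by
      rw [Multiset.filter_coe]
      exact congrArg _ (List.filter_congr fun y _ => by simp only [Bool.decide_eq_true]), hE, Multiset.filter_map, hS5, Finset.filter_val]
    congr 1
    exact Multiset.filter_congr fun χ _ => by simp [t]
  have hw2 : ∀ χ ∈ A9, w23 (d χ) = 2 * c23 (d χ) := fun χ h => (xl_weights _ (hxl χ h)).1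
  have h23sum : ∀ f : IrrCharacter G → ℤ, f η' = f η → ∑ χ, w23 (d χ) * f χ =
      2 * (f oneChar + f (c 2) + ∑ χ ∈ A9, c23 (d χ) * f χ + c23 (d η) * f η) := by
    intro f hf
    rw [← Finset.sum_subset (Finset.subset_univ (A ∪ {η, η'})) fun χ _ hχ => ?_]
    · have hd' : Disjoint A {η, η'} := Finset.disjoint_left.2 fun χ h h' => by
        have := hwη χ h'
        rw [hA, Finset.mem_filter] at h
        omega
      rw [Finset.sum_union hd', Finset.sum_pair hne, ← Finset.add_sum_erase A _ h1A,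
        ← Finset.add_sum_erase (A.erase oneChar) _ h2A, ← hA9, hd1, hd2,
        Finset.sum_congr rfl (s₁ := A9) fun χ h => by rw [hw2 χ h, mul_assoc], ← Finset.mul_sum,
        (gl_weights _ (hgl η (by simp))).1, hf]
      rw [show w23 (d η') = c23 (d η) by
        rw [show d η' = d η from congrArg Prod.fst htη]; exact (gl_weights _ (hgl η (by simp))).1]
      norm_num [w23]
      ring
    · simp only [Finset.mem_union, hA, Finset.mem_filter, Finset.mem_univ, true_and, not_or] at hχ
      by_cases hne1 : χ = oneChar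
      · exact absurd (hne1 ▸ h1A) (by simpa [hA] using hχ.1)
      have h := (hcls χ hne1).2
      have hn1 : (w23 (d χ)).natAbs ≠ 1 := fun e => hχ.2 (by simpa using (hη χ).1 e)
      have h0 : w23 (d χ) = 0 := by
        rw [if_neg hχ.1, if_neg hn1] at h
        simp [w23, h]
      rw [h0, zero_mul]
  -- the sums at twenty-three
  have e1 := h23sum (fun χ => (d χ : ℤ)) (by rw [show d η' = d η from congrArg Prod.fst htη])
  rw [show ∑ χ, w23 (d χ) * (d χ : ℤ) = 0 from h23d, hd1, hd2] at e1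
  have hfη : φ η' = φ η := congrArg Prod.snd htη
  have e2 := h23sum φ hfη
  rw [show ∑ χ, w23 (d χ) * φ χ = 0 from F.lin_twentythree, F.one, hf2] at e2
  have e3 := h23sum (fun χ => nd (d χ) * (φ χ * φ χ)) (by
    rw [show d η' = d η from congrArg Prod.fst htη, hfη])
  obtain ⟨n, hn⟩ := F.quad_twentythree
  rw [show ∑ χ, w23 (d χ) * (nd (d χ) * (φ χ * φ χ)) = 2 * ((25 * k * k : ℕ) * (n : ℤ)) by
    have h := int_form (G := G) hG (fun χ => w23 (d χ)) fun χ => φ χ * φ χ
    have h' : ((∑ χ, w23 (d χ) * (nd (d χ) * (φ χ * φ χ)) : ℤ) : ℂ) =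
        ((2 * ((25 * k * k : ℕ) * (n : ℤ)) : ℤ) : ℂ) := by
      simp only [← mul_assoc] at h ⊢
      rw [h]
      simp only [d, Int.cast_mul, pow_two] at hn ⊢
      simp only [mul_assoc] at hn ⊢
      rw [hn]
      push_cast
      ring
    exact_mod_cast h'] at e3
  rw [F.one, hf2, hd1, hd2] at e3
  have hnd1 : nd 1 = (ordM : ℤ) := by simp [nd]
  rw [hnd1] at e3
  have hsumL : ∀ f : Pr → ℤ, sumP f (t η :: L) = f (t η) + ∑ χ ∈ A9, f (t χ) := fun f => by
    rw [sumP, List.map_cons, List.sum_cons, hL, List.map_map, ← Finset.sum_map_toList]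
    rfl
  have hsqS : ∀ f : IrrCharacter G → ℤ, f η' = f η →
      ∑ χ ∈ S, f χ = ∑ χ ∈ A9, f χ + 2 * f η := fun f hf => by
    rw [hS, Finset.sum_union hdisjη, Finset.sum_pair hne, hf]; ring
  obtain ⟨hSd, hSp⟩ := hrest S hSnp
  -- the partners
  have hR : ∀ x ∈ (expandP (t η :: L)).filter (fun y => y.1 % 5 != 0), isItem k x = true ∧
      ∃ r ∈ reqOf tb x, (r : Multiset Pr) ≤
        (((expandP (t η :: L)).filter (fun y => y.1 % 5 != 0) : List Pr) : Multiset Pr).erase x := by
    intro x hx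
    rw [← Multiset.mem_coe, hE5, Multiset.mem_map] at hx
    obtain ⟨χ0, hχ0, rfl⟩ := hx
    rw [Finset.mem_val, hS5, Finset.mem_filter] at hχ0
    have h0np := hSnp χ0 hχ0.1
    refine ⟨hitem χ0 h0np hχ0.2, ?_⟩
    obtain ⟨e, N, X, Y, y, hem, hXc, hYc, hdisj, h0m, hy, hmem, hYt, hXN, hxs, has⟩ :=
      five_block T D F ht χ0 (fun h => hχ0.2 (Nat.mod_eq_zero_of_dvd h))
    have hnp : ∀ χ ∈ X ∪ Y, χ ∉ principalBlock M G := fun χ h =>
      Cover.not_mem_principal D.modular h0np (hmem χ h).2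
    have hit : ∀ χ ∈ X ∪ Y, isItem k (t χ) = true := fun χ h =>
      hitem χ (hnp χ h) fun e' => (hmem χ h).1 (Nat.dvd_of_mod_eq_zero e')
    have hBm : X.val.map t + Multiset.replicate N (t y) = (X ∪ Y).val.map t := by
      rw [← Finset.disjUnion_eq_union _ _ hdisj, Finset.disjUnion_val, Multiset.map_add,
        Multiset.map_congr rfl (s := Y.val) fun y' hy' => hYt y' hy', Multiset.map_const', Finset.card_val, hYc]
    have hcov := covered hk hct htb hem (X.val.map t) (t y)
      (by rw [Multiset.card_map, Finset.card_val, hXc])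
      (fun a ha => by
        obtain ⟨χ, hχ, rfl⟩ := Multiset.mem_map.1 ha
        exact ⟨hit χ (Finset.mem_union_left _ hχ), hXN χ hχ⟩)
      (hit y (Finset.mem_union_right _ hy))
      (by rw [Multiset.map_map]; exact hxs) (by rw [Multiset.map_map]; exact has)
      (x := t χ0) (by rw [hBm]; exact Multiset.mem_map_of_mem t h0m)
      (by
        have hw : d χ0 % 23 ≠ 0 := by
          rcases Finset.mem_union.1 hχ0.1 with h | h
          · exact (xl_weights _ (hxl χ0 h)).2.2.1
          · exact (gl_weights _ (hgl χ0 h)).2.2.1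
        simpa [b23, t] using hw)
      (by
        obtain ⟨h1, h2⟩ := hrest (X ∪ Y) hnp
        have hexc : ∀ χ ∈ X ∪ Y, exc (t χ) = true → χ = η ∨ χ = η' := fun χ h he => by
          refine (hη χ).1 ?_
          simp only [exc, t, Bool.or_eq_true, beq_iff_eq] at he
          show (w23 (d χ)).natAbs = 1
          simp only [w23]
          split_ifs <;> omega
        rw [hBm]
        refine ⟨by rw [Multiset.map_map]; exact h1, by rw [Multiset.map_map]; exact h2, ?_, ?_⟩
        · rw [Multiset.filter_map, Multiset.card_map]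
          refine (Multiset.card_le_card (t := ({η, η'} : Finset (IrrCharacter G)).val)
            (Multiset.le_iff_subset ((X ∪ Y).nodup.filter _) |>.2 fun χ hχ => ?_)).trans
            (Finset.card_le_two (a := η) (b := η'))
          obtain ⟨h, he⟩ := Multiset.mem_filter.1 hχ
          simpa using hexc χ h he
        · intro a ha b hb hae hbe
          obtain ⟨χ, hχ, rfl⟩ := Multiset.mem_map.1 ha
          obtain ⟨χ', hχ', rfl⟩ := Multiset.mem_map.1 hb
          rcases hexc χ hχ hae with rfl | rfl <;> rcases hexc χ' hχ' hbe with rfl | rfl <;> simp [htη])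
    obtain ⟨r, hr, hle⟩ := hcov
    refine ⟨r, hr, hle.trans ?_⟩
    rw [hBm, hE5, ← Multiset.map_erase_of_mem t _ (show χ0 ∈ (X ∪ Y).val from h0m),
      ← Multiset.map_erase_of_mem t _ (show χ0 ∈ S5.val from by rw [Finset.mem_val, hS5, Finset.mem_filter]; exact hχ0),
      Multiset.filter_map]
    refine Multiset.map_le_map ((Multiset.le_iff_subset (((X ∪ Y).nodup.erase _).filter _)).2 fun χ hχ => ?_)
    obtain ⟨hχ, hb⟩ := Multiset.mem_filter.1 hχ
    rw [(X ∪ Y).nodup.mem_erase_iff] at hχ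
    rw [S5.nodup.mem_erase_iff, Finset.mem_val, hS5, Finset.mem_filter]
    have h5 : d χ % 5 ≠ 0 := fun e' => (hmem χ hχ.2).1 (Nat.dvd_of_mod_eq_zero e')
    refine ⟨hχ.1, ?_, h5⟩
    have h23 : d χ % 23 ≠ 0 := by simpa [b23, t] using hb
    obtain ⟨hne1, hne2, -⟩ := hpr χ (hnp χ hχ.2)
    have hcl := (hcls χ hne1).2
    rw [hS, Finset.mem_union]
    by_cases hw : (w23 (d χ)).natAbs = 2
    · exact Or.inl (by simp [hA9, hA, hne1, hne2, hw])
    by_cases hw' : (w23 (d χ)).natAbs = 1
    · exact Or.inr (by simpa using (hη χ).1 hw')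
    rw [if_neg hw, if_neg hw'] at hcl
    exact absurd hcl h23
  obtain ⟨L', hperm, hbad⟩ := rows_false hk hlive hord hdeg hgs
    hrows (t η) L (by rw [hL, List.length_map, Finset.length_toList, hA9c]) (hgl η (by simp))
    (fun x hx => by
      obtain ⟨χ, hχ, rfl⟩ := List.mem_map.1 hx
      exact hxl χ (Finset.mem_toList.1 hχ))
    (fun x hx h5 => by
      have hx' : ∃ χ, t χ = x := by
        rcases List.mem_cons.1 hx with rfl | h
        · exact ⟨η, rfl⟩
        · obtain ⟨χ, -, h⟩ := List.mem_map.1 h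
          exact ⟨χ, h⟩
      obtain ⟨χ, rfl⟩ := hx'
      exact F.zero χ (Nat.dvd_of_mod_eq_zero h5))
    hR
    (by
      rw [hsumL]
      simp only [t] at e1 ⊢
      push_cast at e1 ⊢
      linarith)
    (by
      rw [hsumL]
      simp only [t] at e2 ⊢
      linarith)
    (by
      refine Int.emod_eq_zero_of_dvd ⟨n, ?_⟩
      rw [hsumL]
      simp only [t, mul_assoc] at e3 ⊢
      linarith)
    (by
      rw [hsumL]
      simp only [t, mul_assoc] at e3 ⊢
      have := Int.mul_nonneg (Int.natCast_nonneg (25 * k * k)) (Int.natCast_nonneg n)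
      push_cast at e3 this ⊢
      linarith)
    (by
      rw [hsumL]
      have h := hsqS (fun χ => (d χ : ℤ) * d χ) (by rw [show d η' = d η from congrArg Prod.fst htη])
      have hSd' : ∑ χ ∈ S, (d χ : ℤ) * d χ ≤ (room : ℤ) := by exact_mod_cast hSd
      have hw1 : ∑ χ ∈ A9, wt (t χ).1 * (((t χ).1 : ℤ) * (t χ).1) = ∑ χ ∈ A9, (d χ : ℤ) * d χ :=
        Finset.sum_congr rfl fun χ hχ => by
          show wt (d χ) * _ = _
          rw [(xl_weights _ (hxl χ hχ)).2.1, one_mul]
      rw [show wt (t η).1 = 2 from (gl_weights _ (hgl η (by simp))).2.1, hw1]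
      simp only [t]
      linarith)
    (by
      rw [hsumL]
      have h := hsqS (fun χ => φ χ * φ χ) (by rw [hfη])
      have hw1 : ∑ χ ∈ A9, wt (t χ).1 * ((t χ).2 * (t χ).2) = ∑ χ ∈ A9, φ χ * φ χ :=
        Finset.sum_congr rfl fun χ hχ => by
          show wt (d χ) * _ = _
          rw [(xl_weights _ (hxl χ hχ)).2.1, one_mul]
      rw [show wt (t η).1 = 2 from (gl_weights _ (hgl η (by simp))).2.1, hw1]
      simp only [t]
      linarith)
  refine ⟨η, η', A9, L', hne, fun h => ?_, fun h => ?_, hA9c, fun χ => ?_, fun χ => (hη χ).symm,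
    congrArg Prod.fst htη, hfη, ?_, hbad⟩
  · exact Finset.disjoint_left.1 hdisjη h (by simp)
  · exact Finset.disjoint_left.1 hdisjη h (by simp)
  · simp only [hA9, hA, Finset.mem_erase, Finset.mem_filter, Finset.mem_univ, true_and, d]
    exact ⟨fun h => ⟨h.2.2, h.2.1, h.1⟩, fun h => ⟨h.2.2, h.2.1, h.1⟩⟩
  · rw [List.map_cons]
    exact hperm

/-- Without a character of degree twenty-three the centraliser of an element of order five is smaller. -/
theorem small {P : Sylow 11 G} {g : G} {z : IrrCharacter G → ℤ} {C : ℕ} (T : TCol P g z C)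
    {Q : Sylow 5 G} {k : ℕ} {M : Ideal AlgInt} {c : Fin 4 → IrrCharacter G} {r : List ℤ}
    (hr : r = rowA ∨ r = rowB) (D : FiveData g Q k M c r) :
    (∃ χ : IrrCharacter G, charDegree (χ : G → ℂ) = 23) ∨ k ≠ 192 := by
  by_contra hcon
  rw [not_or, not_exists, not_not] at hcon
  obtain ⟨hno, rfl⟩ := hcon
  obtain ⟨φ, F⟩ := FiveColumn.exists_fcol T D
  obtain ⟨-, -, -, L', -, -, -, -, -, -, -, -, -, hbad⟩ := exists_list T hr D F hno (le_refl 192) ct_table goodSelf_table
    (m := 2) live_table (ord := ordBig) (by decide +kernel) live_degs (by decide +kernel) rows_table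
  exact Bool.noConfusion hbad

end Cfsg.Agent.MTwentyFour.ByOrder.FiveSide
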