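import Cfsg.Agent.Lib.Spor.MTwentyFourOrder.FiveRowArith

/-!
The search over the values of the principal block of five at the involution.
-/

set_option autoImplicit false
set_option maxRecDepth 100000
set_option maxHeartbeats 2000000

namespace Cfsg.Agent.MTwentyFour.ByOrder.FiveRow

/-- the rows which the linear relation and the central characters leave -/
def rowsOf (k : ℕ) : List (List ℤ) :=
  if k = 2 ∨ k = 32 then
    [rowA, rowB, [736, 1771, 3036, -5544], [736, -2024, -5544, 6831], [-5544, 5796, 6831, -7084]]
  else if k = 12 then [rowA, rowB, [736, 1771, 3036, -5544]]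
  else [rowA, rowB]

theorem value_table : ∀ k ∈ [2, 12, 32, 192], ∀ r ∈ rowsOf k, ∀ C ∈ cents,
    srch k C r [] = true → allowed k C r = true := by
  decide +kernel

end Cfsg.Agent.MTwentyFour.ByOrder.FiveRow
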