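import Cfsg.Agent.Lib.Spor.MTwentyFourOrder.InvolTen
import Cfsg.Agent.Lib.Spor.MTwentyFourOrder.FiveRowRun

/-!
A simple group of the order of the Mathieu group of degree twenty-four: the principal block of five, seen from the
involution inverting a Sylow subgroup of order eleven.
-/

set_option autoImplicit false
set_option linter.unusedSectionVars false
set_option maxRecDepth 100000
set_option maxHeartbeats 1000000

namespace Cfsg.Agent.MTwentyFour.ByOrder

open Cfsg Cfsg.Agent.Char Cfsg.Agent.Small.Order459648 Cfsg.Agent.Char.PrimeSylowCount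
open Cfsg.Agent.MTwelve.OrderFront (val_one)
open scoped ComplexConjugate
open scoped _root_.Classical

universe u

namespace FiveRow

open Cfsg.Agent.MTwentyFour.ByOrder.Ten

/-- The linear relation of the block leaves the rows of the table. -/
theorem rows_table : ∀ k ∈ [2, 12, 32, 192],
    ∀ l ∈ Eleven.combs (Eleven.sdeg 5 (Five.degs k) 1) 4, l.sum = -1 →
      (rowsOf k).any (fun r => l.isPerm r) = true := by
  decide +kernel

theorem mOf_eq (d : ℕ) : mOf d = mEl d := rfl

variable {G : Type u} [Group G] [Fintype G] [IsSimpleGroup G]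

local instance fact_fiveLocal : Fact (Nat.Prime 5) := ⟨by norm_num⟩
local instance fact_elevenFiveLocal : Fact (Nat.Prime 11) := ⟨by norm_num⟩

/-- A character constant on the elements of order five and ten of the cyclic group: the multiplicities on the fixed
space of the Sylow subgroup of order eleven. -/
theorem ten_values {P : Sylow 11 G} {g : G} {z : IrrCharacter G → ℤ} {C : ℕ} (T : TCol P g z C)
    (χ : IrrCharacter G) {s : ℤ} (hs : ∀ i < 10, i ≠ 0 → i ≠ 5 → (χ : G → ℂ) (g ^ i) = s) :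
    (10 : ℤ) ∣ mEl (charDegree (χ : G → ℂ)) - z χ ∧ z χ ≤ mEl (charDegree (χ : G → ℂ)) ∧
      0 ≤ mEl (charDegree (χ : G → ℂ)) + z χ + 8 * s ∧
      0 ≤ mEl (charDegree (χ : G → ℂ)) + z χ - 2 * s := by
  obtain ⟨hm, -⟩ := sum_sylow P T.card χ (T.val_eleven χ)
  set d := charDegree (χ : G → ℂ)
  have hcl : ∀ a b : G, (χ : G → ℂ) (a * b * a⁻¹) = (χ : G → ℂ) b := fun a b =>
    isClassFunction_character (irr_isCharacter χ.2) b a
  have hfree := free T.order T.card T.cent T.ord
  have hP : Nat.card (P : Subgroup G) = 11 := T.card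
  have h5 : orderOf (g ^ 5) = 2 := by rw [orderOf_pow, T.ord]; rfl
  have h2 : orderOf (g ^ 2) = 5 := by rw [orderOf_pow, T.ord]; rfl
  obtain ⟨cH, sH⟩ := TenTools.sum_sup hcl T.ord T.norm fun j hj hj0 =>
    hfree j (fun h => hj0 (Nat.eq_zero_of_dvd_of_lt h hj))
  obtain ⟨cD, sD⟩ := TenTools.sum_sup hcl h5 (pow_mem T.norm 5) fun j hj hj0 x hx hc =>
    hfree (5 * j) (by omega) x hx (by rwa [pow_mul])
  obtain ⟨cK, sK⟩ := TenTools.sum_sup hcl h2 (pow_mem T.norm 2) fun j hj hj0 x hx hc =>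
    hfree (2 * j) (by omega) x hx (by rwa [pow_mul])
  obtain ⟨nH, hH⟩ := TenTools.avg_int (irr_isCharacter χ.2) ((P : Subgroup G) ⊔ Subgroup.zpowers g)
  obtain ⟨nD, hD⟩ := TenTools.avg_int (irr_isCharacter χ.2) ((P : Subgroup G) ⊔ Subgroup.zpowers (g ^ 5))
  obtain ⟨nK, hK⟩ := TenTools.avg_int (irr_isCharacter χ.2) ((P : Subgroup G) ⊔ Subgroup.zpowers (g ^ 2))
  obtain ⟨h0, hHD⟩ := TenTools.fixed_mono (irr_isCharacter χ.2)
    (sup_le le_sup_left (Subgroup.zpowers_le.2 (Subgroup.mem_sup_right (pow_mem (Subgroup.mem_zpowers g) 5)))) hD hH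
  obtain ⟨-, hHK⟩ := TenTools.fixed_mono (irr_isCharacter χ.2)
    (sup_le le_sup_left (Subgroup.zpowers_le.2 (Subgroup.mem_sup_right (pow_mem (Subgroup.mem_zpowers g) 2)))) hK hH
  rw [sH, hm, cH, hP, Finset.sum_congr rfl (g := fun i => if i = 5 then (z χ : ℂ) else (s : ℂ)) fun i hi => by
    obtain ⟨hi0, hi⟩ := Finset.mem_erase.1 hi
    split
    · rename_i h; rw [h, T.val χ]
    · rename_i h; exact hs i (Finset.mem_range.1 hi) hi0 h] at hH
  rw [show (Finset.range 10).erase 0 = {1, 2, 3, 4, 5, 6, 7, 8, 9} by decide] at hH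
  simp at hH
  rw [sD, hm, cD, hP, show (Finset.range 2).erase 0 = {1} by decide, Finset.sum_singleton, pow_one, T.val χ] at hD
  rw [sK, hm, cK, hP, Finset.sum_congr rfl (g := fun _ => (s : ℂ)) fun i hi => by
    obtain ⟨hi0, hi⟩ := Finset.mem_erase.1 hi
    rw [← pow_mul]
    exact hs _ (by have := Finset.mem_range.1 hi; omega) (by omega) (by omega),
    Finset.sum_const, Finset.card_erase_of_mem (Finset.mem_range.2 (by norm_num)), Finset.card_range] at hK
  have eH : mEl d + z χ + 8 * s = 10 * nH := by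
    have : (((11 * (mEl d + z χ + 8 * s) : ℤ)) : ℂ) = ((11 * (10 * nH) : ℤ) : ℂ) := by
      push_cast; linear_combination hH
    have h' : 11 * (mEl d + z χ + 8 * s) = 11 * (10 * nH) := by exact_mod_cast this
    omega
  have eD : mEl d + z χ = 2 * nD := by
    have : (((11 * (mEl d + z χ) : ℤ)) : ℂ) = ((11 * (2 * nD) : ℤ) : ℂ) := by
      push_cast at hD ⊢; linear_combination hD
    have h' : 11 * (mEl d + z χ) = 11 * (2 * nD) := by exact_mod_cast this
    omega
  have eK : mEl d + 4 * s = 5 * nK := by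
    have : (((11 * (mEl d + 4 * s) : ℤ)) : ℂ) = ((11 * (5 * nK) : ℤ) : ℂ) := by
      push_cast at hK ⊢; linear_combination hK
    have h' : 11 * (mEl d + 4 * s) = 11 * (5 * nK) := by exact_mod_cast this
    omega
  exact ⟨⟨nK - nH, by omega⟩, by omega, by omega, by omega⟩

/-- The principal block of five with four named members of signed degrees in the given row. -/
structure FiveData (g : G) (Q : Sylow 5 G) (k : ℕ) (M : Ideal AlgInt) (c : Fin 4 → IrrCharacter G)
    (r : List ℤ) : Prop where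
  card : Nat.card Q = 5
  cent : Nat.card (Subgroup.centralizer ((Q : Subgroup G) : Set G)) = 5 * k
  index : (Subgroup.centralizer ((Q : Subgroup G) : Set G)).relIndex
    (Subgroup.normalizer ((Q : Subgroup G) : Set G)) = 4
  modular : IsPModular 5 M
  fused : ∃ q : G, q * g ^ 2 * q⁻¹ ∈ (Q : Subgroup G)
  row : List.ofFn (fun i => (if charDegree (c i : G → ℂ) % 5 = 1 then (1 : ℤ) else -1) *
    (charDegree (c i : G → ℂ) : ℤ)) = r
  inj : Function.Injective c
  ne_one : ∀ i, c i ≠ oneChar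
  mem_iff : ∀ χ, χ ∈ principalBlock M G ↔ χ = oneChar ∨ ∃ i, c i = χ
  val : ∀ i, ∀ y ∈ nonOne Q, (c i : G → ℂ) (y : G) =
    if charDegree (c i : G → ℂ) % 5 = 1 then (1 : ℂ) else -1
  rel : ∀ x : G, ¬ 5 ∣ orderOf x →
    1 + ∑ i, (if charDegree (c i : G → ℂ) % 5 = 1 then (1 : ℂ) else -1) * (c i : G → ℂ) x = 0

/-- The principal block of five: the row of the Mathieu group, or one further row with few centraliser orders. -/
theorem exists_five_row {P : Sylow 11 G} {g : G} {z : IrrCharacter G → ℤ} {C : ℕ} (T : TCol P g z C) :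
    ∃ (Q : Sylow 5 G) (k : ℕ) (M : Ideal AlgInt) (c : Fin 4 → IrrCharacter G),
      (FiveData g Q k M c rowA ∧ (k = 12 ∨ k = 192)) ∨ (FiveData g Q k M c rowB ∧ (C, k) ∈ listB) := by
  obtain ⟨Q, k, hQ, hCQ, hk, he⟩ := exists_five T.order
  obtain ⟨M, hM⟩ := exists_pModular (show Nat.Prime 5 by norm_num)
  obtain ⟨X, Y, a, δ, h, h1X, hone, hYc⟩ :=
    Solv.BReyn.exists_principal_one_mem hM hQ he (t := 1) (by norm_num) (by norm_num) (by norm_num)
  change (oneChar : IrrCharacter G) ∈ X at h1X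
  change a (oneChar : IrrCharacter G) = 1 at hone
  obtain ⟨θ, hθY⟩ := Finset.card_eq_one.1 hYc
  have hθ : θ ∈ Y := hθY ▸ Finset.mem_singleton_self θ
  have hθX : θ ∉ X := fun hx => Finset.disjoint_left.1 h.disj hx hθ
  have hθne : θ ≠ oneChar := fun e => hθX (e ▸ h1X)
  have hf : FrobSylow Q 4 := he ▸ frobSylow_of_prime hQ
  have hG' : Nat.card G = 5 * 48964608 := by rw [T.order]
  have hkM : k ∣ 48964608 := by fin_cases hk <;> norm_num
  obtain ⟨y, hyn⟩ := SmallOrderGraph.nonOne_nonempty Q hQ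
  -- the sign and the signed degree
  set sF : IrrCharacter G → ℤ := fun χ => if charDegree (χ : G → ℂ) % 5 = 1 then 1 else -1 with hsF
  set A : IrrCharacter G → ℤ := fun χ => sF χ * (charDegree (χ : G → ℂ) : ℤ) with hAdef
  set S4 : Finset (IrrCharacter G) := insert θ (X.erase oneChar) with hS4
  have hθ' : θ ∉ X.erase oneChar := fun hx => hθX (Finset.mem_erase.1 hx).2
  have hS4card : S4.card = 4 := by
    rw [hS4, Finset.card_insert_of_notMem hθ', Finset.card_erase_of_mem h1X, h.cardX]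
  have hmem : ∀ χ, χ ∈ principalBlock M G ↔ χ = oneChar ∨ χ ∈ S4 := by
    intro χ
    rw [h.mem_iff, hS4, Finset.mem_insert, Finset.mem_erase, hθY, Finset.mem_singleton]
    constructor
    · rintro (hx | hx)
      · exact (eq_or_ne χ oneChar).imp id fun hne => Or.inr ⟨hne, hx⟩
      · exact Or.inr (Or.inl hx)
    · rintro (rfl | rfl | ⟨-, hx⟩)
      exacts [Or.inl h1X, Or.inr rfl, Or.inl hx]
  have hsX : ∀ χ ∈ X, sF χ = a χ := fun χ hχ => by
    have h2 := (h.a_congr χ hχ).eq
    simp only [hsF]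
    rcases h.a_sign χ hχ with e' | e' <;> rw [e'] at h2 ⊢ <;> split <;> omega
  have hsθ : sF θ = -δ := by
    have h2 := (h.congrY θ hθ).eq
    simp only [hsF]
    rcases h.sign with e' | e' <;> rw [e'] at h2 ⊢ <;> split <;> omega
  have hval : ∀ χ ∈ S4, ∀ x ∈ nonOne Q, (χ : G → ℂ) (x : G) = (sF χ : ℂ) := by
    intro χ hχ x hx
    rcases Finset.mem_insert.1 hχ with rfl | hχ
    · have h1 := Solv.BReyn.sum_exc hM hQ h ⟨χ, hθ⟩ hx
      rw [hθY, Finset.sum_singleton] at h1
      rw [h1, hsθ]; push_cast; rfl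
    · rw [h.a_val χ (Finset.mem_erase.1 hχ).2 x hx, hsX χ (Finset.mem_erase.1 hχ).2]
  have hrel : ∀ x : G, ¬ 5 ∣ orderOf x → 1 + ∑ χ ∈ S4, (sF χ : ℂ) * (χ : G → ℂ) x = 0 := by
    intro x hx
    have h1 := Eleven.rel_erase h h1X hone hθ hx
    rw [hS4, Finset.sum_insert hθ', hsθ,
      Finset.sum_congr rfl fun χ hχ => by rw [hsX χ (Finset.mem_erase.1 hχ).2]]
    push_cast
    linear_combination -h1
  have hdeg : ∀ χ ∈ S4, A χ ∈ Eleven.sdeg 5 (Five.degs k) 1 := by
    intro χ hχ
    have hne : χ ≠ oneChar := by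
      rcases Finset.mem_insert.1 hχ with rfl | hχ
      exacts [hθne, (Finset.mem_erase.1 hχ).1]
    have hd : charDegree (χ : G → ℂ) ∣ 48964608 / k := by
      rcases Finset.mem_insert.1 hχ with rfl | hχ
      exacts [Eleven.dvd_Y hQ hM h hG' hCQ hyn hθ, Eleven.dvd_X hQ h hG' hCQ hyn (Finset.mem_erase.1 hχ).2]
    refine Eleven.mem_sdeg (Five.mem_degs (Eleven.mem_degsFive hd (hd.trans (Nat.div_dvd_of_dvd hkM))
      (Eleven.deg_range T.order hne).1 (Eleven.deg_range T.order hne).2 (Eleven.deg_res T.order χ))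
      (deg_res_eleven T.order χ) (MathieuByGraph.deg_ne_eleven (na T.order) (by rw [T.order]; norm_num)
        (by rw [T.order]; norm_num) (by rw [T.order]; norm_num) hne)) (by simp only [hsF]; split <;> simp) ?_
    rcases Finset.mem_insert.1 hχ with rfl | hχ
    · have h2 := (h.congrY χ hθ).eq
      rcases h.sign with e' | e' <;> rw [hsθ, e'] <;> rw [e'] at h2 <;> omega
    · rw [hsX χ (Finset.mem_erase.1 hχ).2]
      exact Eleven.congr_X h (Finset.mem_erase.1 hχ).2
  -- the row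
  obtain ⟨l, hl, hls⟩ := Eleven.mem_combs _ (S4.val.map A) fun x hx => by
    obtain ⟨χ, hχ, rfl⟩ := Multiset.mem_map.1 hx
    exact hdeg χ hχ
  rw [Multiset.card_map, show Multiset.card S4.val = 4 from hS4card] at hl
  have hlsum : l.sum = -1 := by
    have h1 := hrel 1 (by simp)
    simp only [val_one] at h1
    have h2 : 1 + ∑ χ ∈ S4, A χ = 0 := by
      simp only [hAdef]; exact_mod_cast h1
    rw [← Multiset.sum_coe, hls]
    change (∑ χ ∈ S4, A χ) = -1
    omega
  obtain ⟨r, hr, hlr⟩ := List.any_eq_true.1 (rows_table k hk l hl hlsum)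
  have hmap : ∀ r' : List ℤ, l.Perm r' → ∃ m : List (IrrCharacter G), (m : Multiset _) = S4.val ∧ m.map A = r' :=
    fun r' hp => Eleven.map_eq_list A r' S4.val (by rw [← hls]; exact Multiset.coe_eq_coe.2 hp)
  obtain ⟨m, hm, hmr⟩ := hmap r (List.isPerm_iff.1 hlr)
  -- the element of order five in the Sylow subgroup
  have hg2 : orderOf (g ^ 2) = 5 := by rw [orderOf_pow, T.ord]; rfl
  obtain ⟨Q', hQ'⟩ := (IsPGroup.of_card (p := 5) (n := 1)
    (by rw [Nat.card_zpowers, hg2, pow_one] : Nat.card (Subgroup.zpowers (g ^ 2)) = 5 ^ 1)).exists_le_sylow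
  obtain ⟨q, hq⟩ := MulAction.exists_smul_eq G Q' Q
  have hwQ : q * g ^ 2 * q⁻¹ ∈ (Q : Subgroup G) := by
    rw [← hq]; exact ⟨g ^ 2, hQ' (Subgroup.mem_zpowers _), rfl⟩
  have hconst : ∀ χ ∈ S4, ∀ i < 10, i ≠ 0 → i ≠ 5 → (χ : G → ℂ) (g ^ i) = sF χ := by
    intro χ hχ i hi hi0 hi5
    have hy' : q * g ^ (2 * (3 * i)) * q⁻¹ ∈ (Q : Subgroup G) := by
      rw [pow_mul, ← conj_pow]; exact pow_mem hwQ _
    have hy'1 : q * g ^ (2 * (3 * i)) * q⁻¹ ≠ 1 := fun e => by
      have := T.ord ▸ orderOf_dvd_of_pow_eq_one (conj_eq_one_iff.1 e)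
      omega
    have hsplit : g ^ i = g ^ (2 * (3 * i)) * g ^ (5 * i) := by
      rw [← pow_add, pow_eq_pow_mod (2 * (3 * i) + 5 * i) (T.ord ▸ pow_orderOf_eq_one g),
        show (2 * (3 * i) + 5 * i) % 10 = i by omega]
    have hcl : ∀ b : G, (χ : G → ℂ) (q * b * q⁻¹) = (χ : G → ℂ) b := fun b =>
      isClassFunction_character (irr_isCharacter χ.2) b q
    rw [← hcl, hsplit, show q * (g ^ (2 * (3 * i)) * g ^ (5 * i)) * q⁻¹ =
        q * g ^ (2 * (3 * i)) * q⁻¹ * (q * g ^ (5 * i) * q⁻¹) by group,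
      Sections.const hM hf ((hmem χ).2 (Or.inr hχ)) hy' hy'1
        (w := q * g ^ (5 * i) * q⁻¹) (by rw [conj_mul, conj_mul, ← pow_add, ← pow_add, add_comm]) ?_]
    · exact hval χ hχ ⟨_, hy'⟩ (mem_nonOne.2 hy'1)
    · intro hd
      have h2 : (q * g ^ (5 * i) * q⁻¹) ^ 2 = 1 := by
        rw [conj_pow, ← pow_mul, pow_eq_pow_mod _ (T.ord ▸ pow_orderOf_eq_one g),
          show 5 * i * 2 % 10 = 0 by omega]
        group
      have := Nat.le_of_dvd (by norm_num) (hd.trans (orderOf_dvd_of_pow_eq_one h2))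
      omega
  -- the values
  set L : List (ℤ × ℤ) := m.map fun χ => (A χ, z χ) with hL
  have hLr : L.map Prod.fst = r := by rw [hL, List.map_map]; exact hmr
  have hinS : ∀ χ ∈ m, χ ∈ S4 := fun χ hχ => by
    rw [Finset.mem_def, ← hm]; exact Multiset.mem_coe.2 hχ
  have hA : ∀ χ, sg (A χ) = sF χ ∧ (A χ).natAbs = charDegree (χ : G → ℂ) := fun χ => by
    have hd : 0 < charDegree (χ : G → ℂ) := by rw [charDegree_eq_deg]; exact deg_pos χ.2
    simp only [hAdef, hsF, sg]
    refine ⟨?_, ?_⟩ <;> split <;> simp <;> omega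
  have hsum : ∀ {β : Type} [AddCommMonoid β] (F : IrrCharacter G → β), (m.map F).sum = ∑ χ ∈ S4, F χ := by
    intro β _ F
    rw [← Multiset.sum_coe, ← Multiset.map_coe, hm]
    rfl
  have hsqle : 1 + ∑ χ ∈ S4, z χ * z χ ≤ (C : ℤ) := by
    have h1 : (oneChar : IrrCharacter G) ∉ S4 := fun hx => by
      rcases Finset.mem_insert.1 hx with e | e
      exacts [hθne e.symm, (Finset.mem_erase.1 e).1 rfl]
    rw [← T.square]
    refine le_trans ?_ (Finset.sum_le_sum_of_subset_of_nonneg (Finset.subset_univ (insert oneChar S4))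
      fun i _ _ => mul_self_nonneg _)
    rw [Finset.sum_insert h1, T.z_one]
    norm_num
  have hzok : ∀ p ∈ L, zok C p.1 p.2 = true := by
    intro p hp
    obtain ⟨χ, hχ, rfl⟩ := List.mem_map.1 hp
    obtain ⟨hsg, hab⟩ := hA χ
    obtain ⟨h10, hle, h8, h2⟩ := ten_values T χ (s := sF χ) (fun i hi hi0 hi5 =>
      hconst χ (hinS χ hχ) i hi hi0 hi5)
    have hz2 : z χ * z χ ≤ (C : ℤ) := by
      have := Finset.single_le_sum (f := fun χ => z χ * z χ) (fun i _ => mul_self_nonneg _) (hinS χ hχ)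
      linarith
    refine zok_iff.2 ⟨hz2, ?_, ?_, ?_, ?_, ?_, ?_⟩ <;> simp only [hsg, hab, mOf_eq]
    · exact Int.emod_eq_zero_of_dvd (T.four χ)
    · exact Int.emod_eq_zero_of_dvd h10
    · exact h8
    · exact h2
    · exact hle
    · exact Int.emod_eq_zero_of_dvd (T.class_dvd χ)
  have ht2 : (g ^ 5) ^ 2 = 1 := by rw [← pow_mul, show 5 * 2 = orderOf g from T.ord.symm, pow_orderOf_eq_one]
  have hsquare : squareOk k C L = true := by
    set y' : ↥(Q : Subgroup G) := y
    have hy1 : (y' : G) ≠ 1 := mem_nonOne.1 hyn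
    have hCy : Nat.card (Subgroup.centralizer ({(y' : G)} : Set G)) = 5 * k := by
      rw [Sections.cent_eq hQ y'.2 hy1, hCQ]
    have hk5 : ¬ 5 ∣ k := by fin_cases hk <;> norm_num
    have htt : g ^ 5 * g ^ 5 = 1 := by rw [← pow_two, ht2]
    obtain ⟨⟨x, hx⟩, hle⟩ := Sections.Square.inverters_bound hQ y'.2 hy1 hCy hk5 htt (by norm_num)
    have hsq := Sections.Square.square_sum hM hQ h ⟨θ, hθ⟩ hf hyn hCy hk5 (by norm_num) ht2 hθ
    rw [hx, T.order] at hsq
    have hS : ∑ χ ∈ X, (a χ : ℂ) * ((χ : G → ℂ) (g ^ 5)) ^ 2 / (χ : G → ℂ) 1 -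
        (δ : ℂ) * ((θ : G → ℂ) (g ^ 5)) ^ 2 / (θ : G → ℂ) 1 =
        1 + ∑ χ ∈ S4, (sF χ : ℂ) * (z χ : ℂ) ^ 2 / (charDegree (χ : G → ℂ) : ℂ) := by
      simp only [T.val, val_one, Int.cast_natCast]
      rw [← Finset.add_sum_erase X _ h1X, hone, T.z_one, hS4, Finset.sum_insert hθ', hsθ,
        Finset.sum_congr rfl fun χ hχ => by rw [← hsX χ (Finset.mem_erase.1 hχ).2],
        show charDegree ((oneChar : IrrCharacter G) : G → ℂ) = 1 by simp [oneChar, charDegree]]
      push_cast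
      ring
    rw [hS] at hsq
    have hcl : (Nat.card {w : G // IsConj (g ^ 5) w}) = 244823040 / C := by
      have h1 := card_conjClass_mul_centralizer (g ^ 5)
      rw [T.card_cent, T.order] at h1
      have hC0 : 0 < C := Nat.pos_of_ne_zero fun h0 => by rw [h0, mul_zero] at h1; norm_num at h1
      rw [← h1, Nat.mul_div_cancel _ hC0]
    rw [hcl] at hsq
    simp only [squareOk, List.any_eq_true, List.mem_range, decide_eq_true_eq]
    refine ⟨x, by omega, ?_⟩
    have hden : den L = ∏ χ ∈ S4, (charDegree (χ : G → ℂ) : ℤ) := by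
      rw [den, hL, List.map_map, ← Multiset.prod_coe, ← Multiset.map_coe, hm]
      exact Finset.prod_congr rfl fun χ _ => by simp only [Function.comp_apply, (hA χ).2]
    have hnum : (num L : ℂ) = (den L : ℂ) *
        (1 + ∑ χ ∈ S4, (sF χ : ℂ) * (z χ : ℂ) ^ 2 / (charDegree (χ : G → ℂ) : ℂ)) := by
      rw [num, hL, List.map_map, ← hL, hsum]
      simp only [Function.comp_apply, (hA _).1, (hA _).2, hden]
      push_cast
      rw [mul_add, mul_one, Finset.mul_sum]
      congr 1
      refine Finset.sum_congr rfl fun χ hχ => ?_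
      have hd : ((charDegree (χ : G → ℂ) : ℕ) : ℤ) ≠ 0 := by
        rw [charDegree_eq_deg]; exact_mod_cast (deg_pos χ.2).ne'
      rw [Int.cast_div (Finset.dvd_prod_of_mem (fun χ : IrrCharacter G => (charDegree (χ : G → ℂ) : ℤ)) hχ)
        (by exact_mod_cast hd)]
      push_cast
      ring
    have hfin : ((5 : ℤ) * 244823040 * ((x : ℤ) * x) * den L : ℂ) =
        (((k : ℤ) * (((244823040 / C : ℕ) : ℤ) * ((244823040 / C : ℕ) : ℤ)) * num L : ℤ) : ℂ) := by
      generalize (244823040 / C : ℕ) = cl at hsq ⊢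
      push_cast at hsq ⊢
      rw [hnum]
      linear_combination ((den L : ℂ) / 5) * hsq
    exact_mod_cast hfin
  have hfinal : final k C (L.reverse ++ []) = true := by
    simp only [final, Bool.and_eq_true, decide_eq_true_eq, List.append_nil]
    refine ⟨⟨?_, ?_⟩, ?_⟩
    · rw [lin, List.map_reverse, List.sum_reverse, hL, List.map_map, hsum]
      simp only [Function.comp_apply, (hA _).1]
      have h1 := hrel (g ^ 5) (by rw [orderOf_pow, T.ord]; norm_num)
      simp only [T.val] at h1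
      exact_mod_cast h1
    · rw [sq, List.map_reverse, List.sum_reverse, hL, List.map_map, hsum]
      exact hsqle
    · have hrev : squareOk k C L.reverse = squareOk k C L := by
        simp only [squareOk, num, den, List.map_reverse, List.sum_reverse, List.prod_reverse]
        congr! 3
      rw [hrev, hsquare]
  have hsr := srch_sound T.le L [] hzok hfinal
  rw [hLr] at hsr
  have hallow := value_table k hk r hr C (mem_cents T.dvd T.ten_dvd T.le) hsr
  have hpack : ∀ r' : List ℤ, r'.length = 4 → r.Perm r' → ∃ c, FiveData g Q k M c r' := by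
    intro r' hlen hp
    obtain ⟨m', hm', hmr'⟩ := hmap r' ((List.isPerm_iff.1 hlr).trans hp)
    have hlm : m'.length = 4 := by rw [← List.length_map (f := A), hmr', hlen]
    have hnd : m'.Nodup := Multiset.coe_nodup.1 (hm' ▸ S4.nodup)
    have hmem' : ∀ χ, χ ∈ S4 ↔ χ ∈ m' := fun χ => by rw [Finset.mem_def, ← hm']; rfl
    let c : Fin 4 → IrrCharacter G := fun i => m'.get (i.cast hlm.symm)
    have hcS : ∀ i, c i ∈ S4 := fun i => (hmem' _).2 (List.get_mem _ _)
    refine ⟨c, hQ, hCQ, he, hM, ⟨q, hwQ⟩, ?_, fun i j e => ?_, fun i e => ?_, fun χ => ?_, fun i x hx => ?_,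
      fun x hx => ?_⟩
    · rw [← hmr']
      refine List.ext_getElem (by rw [List.length_ofFn, List.length_map, hlm]) fun i h1 h2 => ?_
      rw [List.getElem_ofFn, List.getElem_map]
      rfl
    · have := (List.Nodup.injective_get hnd) e
      exact Fin.ext (by simpa using congrArg Fin.val this)
    · have := hcS i
      rw [e] at this
      rcases Finset.mem_insert.1 this with e' | e'
      exacts [hθne e'.symm, (Finset.mem_erase.1 e').1 rfl]
    · rw [hmem χ, hmem' χ, List.mem_iff_get]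
      exact or_congr_right ⟨fun ⟨i, hi⟩ => ⟨i.cast hlm, hi⟩, fun ⟨i, hi⟩ => ⟨_, hi⟩⟩
    · rw [hval _ (hcS i) x hx]
      simp only [hsF]; push_cast; rfl
    · have h1 := hrel x hx
      have himg : Finset.univ.image c = S4 := by
        ext χ
        rw [Finset.mem_image, hmem' χ, List.mem_iff_get]
        exact ⟨fun ⟨i, _, hi⟩ => ⟨_, hi⟩, fun ⟨i, hi⟩ => ⟨i.cast hlm, Finset.mem_univ _, hi⟩⟩
      rw [← himg, Finset.sum_image fun i _ j _ e => ?_] at h1
      · simp only [hsF] at h1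
        push_cast at h1
        exact h1
      · have := (List.Nodup.injective_get hnd) e
        exact Fin.ext (by simpa using congrArg Fin.val this)
  simp only [allowed, Bool.or_eq_true, Bool.and_eq_true, beq_iff_eq, List.contains_iff_mem] at hallow
  rcases hallow with ⟨hp, hk'⟩ | ⟨hp, hCk⟩
  · obtain ⟨c, hc⟩ := hpack rowA rfl (List.isPerm_iff.1 hp)
    exact ⟨Q, k, M, c, Or.inl ⟨hc, hk'⟩⟩
  · obtain ⟨c, hc⟩ := hpack rowB rfl (List.isPerm_iff.1 hp)
    exact ⟨Q, k, M, c, Or.inr ⟨hc, hCk⟩⟩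

end FiveRow

end Cfsg.Agent.MTwentyFour.ByOrder
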