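import Mathlib

/-!
Numerical facts for the Sylow subgroup of order eleven of a group of the order of the Mathieu group of
degree twenty-four: the cases of the Sylow count and the linear relations.
-/

set_option autoImplicit false
set_option maxRecDepth 100000

namespace Cfsg.Agent.MTwentyFour.ByOrder.Eleven

/-- the offset of the signed degrees in the sets of sums -/
def off : ℕ := 15646

/-- the sums of the given number of members of the list, as the set of bits of a natural number -/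
def step (vals : List ℤ) (b : ℕ) : ℕ :=
  vals.foldl (fun acc x => acc ||| (b <<< (x + (off : ℤ)).toNat)) 0

/-- the iteration of the step -/
def sums (vals : List ℤ) : ℕ → ℕ
  | 0 => 1
  | m + 1 => step vals (sums vals m)

/-- Is the target a sum of the given number of members of the list? -/
def linOk (vals : List ℤ) (m : ℕ) (t : ℤ) : Bool :=
  decide (0 ≤ t + (m * off : ℕ)) && (sums vals m).testBit (t + (m * off : ℕ)).toNat

theorem testBit_foldl (b n : ℕ) (sh : ℤ → ℕ) : ∀ (l : List ℤ) (acc : ℕ),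
    (acc.testBit n = true ∨ ∃ x ∈ l, (b <<< sh x).testBit n = true) →
      (l.foldl (fun acc x => acc ||| (b <<< sh x)) acc).testBit n = true
  | [], acc, h => by simpa using h
  | x :: l, acc, h => by
    rw [List.foldl_cons]
    refine testBit_foldl b n sh l _ ?_
    rcases h with h | ⟨y, hy, h⟩
    · exact Or.inl (by simp [h])
    · rcases List.mem_cons.1 hy with rfl | hy
      · exact Or.inl (by simp [h])
      · exact Or.inr ⟨y, hy, h⟩

theorem linOk_of_multiset {vals : List ℤ} (hv : ∀ x ∈ vals, -(off : ℤ) ≤ x) :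
    ∀ (m : ℕ) (s : Multiset ℤ), Multiset.card s = m → (∀ x ∈ s, x ∈ vals) → linOk vals m s.sum = true
  | 0, s, hc, _ => by
    rw [Multiset.card_eq_zero.1 hc]
    simp [linOk, sums]
  | m + 1, s, hc, h => by
    obtain ⟨x, hx⟩ := Multiset.card_pos_iff_exists_mem.1 (by omega : 0 < Multiset.card s)
    obtain ⟨t, rfl⟩ := Multiset.exists_cons_of_mem hx
    rw [Multiset.card_cons] at hc
    have ih := linOk_of_multiset hv m t (by omega) fun y hy => h y (Multiset.mem_cons_of_mem hy)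
    simp only [linOk, Bool.and_eq_true, decide_eq_true_eq] at ih ⊢
    obtain ⟨h0, hb⟩ := ih
    have hxv := h x (Multiset.mem_cons_self x t)
    have hx0 : 0 ≤ x + (off : ℤ) := by have := hv x hxv; omega
    have e : (x ::ₘ t).sum + ((m + 1) * off : ℕ) = (t.sum + (m * off : ℕ)) + (x + off) := by
      rw [Multiset.sum_cons]; push_cast; ring
    rw [e, Int.toNat_add h0 hx0]
    refine ⟨by omega, testBit_foldl (sums vals m) _ (fun y : ℤ => (y + (off : ℤ)).toNat) _ _
      (Or.inr ⟨x, hxv, ?_⟩)⟩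
    rw [Nat.testBit_shiftLeft, Nat.add_sub_cancel, hb, Bool.and_true, decide_eq_true_eq]
    omega

/-- the divisors of the index of the Sylow subgroup -/
def divs : List ℕ :=
  (List.range 11).flatMap fun a => (List.range 4).flatMap fun b => (List.range 2).flatMap fun c =>
    (List.range 2).flatMap fun d => (List.range 2).map fun e => 2 ^ a * 3 ^ b * 5 ^ c * 7 ^ d * 23 ^ e

theorem mem_divs {n : ℕ} (h : n ∣ 22256640) : n ∈ divs := by
  rw [show (22256640 : ℕ) = 2 ^ 10 * 3 ^ 3 * 5 ^ 1 * 7 ^ 1 * 23 ^ 1 by norm_num] at h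
  obtain ⟨x, e', hx, he, rfl⟩ := Nat.dvd_mul.1 h
  obtain ⟨y, d', hy, hd, rfl⟩ := Nat.dvd_mul.1 hx
  obtain ⟨z, c', hz, hc, rfl⟩ := Nat.dvd_mul.1 hy
  obtain ⟨a', b', ha, hb, rfl⟩ := Nat.dvd_mul.1 hz
  obtain ⟨a, ha1, rfl⟩ := (Nat.dvd_prime_pow (by norm_num)).1 ha
  obtain ⟨b, hb1, rfl⟩ := (Nat.dvd_prime_pow (by norm_num)).1 hb
  obtain ⟨c, hc1, rfl⟩ := (Nat.dvd_prime_pow (by norm_num)).1 hc
  obtain ⟨d, hd1, rfl⟩ := (Nat.dvd_prime_pow (by norm_num)).1 hd
  obtain ⟨e, he1, rfl⟩ := (Nat.dvd_prime_pow (by norm_num)).1 he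
  simp only [divs, List.mem_flatMap, List.mem_map, List.mem_range]
  exact ⟨a, by omega, b, by omega, c, by omega, d, by omega, e, by omega, rfl⟩

/-- the residues modulo twenty-three allowed by the block of that prime -/
def res : List ℕ := [0, 1, 22, 11, 12]

/-- the possible degrees of the non-trivial characters of the principal block -/
def degs (k : ℕ) : List ℕ :=
  divs.filter fun d => decide (2 ≤ d) && decide (d ≤ off) && (22256640 / k % d == 0) && res.contains (d % 23)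

theorem mem_degs {k d : ℕ} (hd : d ∣ 22256640 / k) (hM : d ∣ 22256640) (h2 : 2 ≤ d) (hle : d ≤ off)
    (h23 : d % 23 ∈ res) : d ∈ degs k :=
  List.mem_filter.2 ⟨mem_divs hM, by simp [h2, hle, Nat.mod_eq_zero_of_dvd hd, h23]⟩

/-- the possible signed degrees with the given residue modulo the prime -/
def sdeg (p : ℕ) (l : List ℕ) (r : ℤ) : List ℤ :=
  (l.flatMap fun d : ℕ => [(d : ℤ), -(d : ℤ)]).filter fun x => decide ((x - r) % (p : ℤ) = 0)

theorem mem_sdeg {p : ℕ} {l : List ℕ} {r a : ℤ} {d : ℕ} (hd : d ∈ l) (ha : a = 1 ∨ a = -1)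
    (h : (a * (d : ℤ) - r) % (p : ℤ) = 0) : a * (d : ℤ) ∈ sdeg p l r :=
  List.mem_filter.2 ⟨List.mem_flatMap.2 ⟨d, hd, by rcases ha with rfl | rfl <;> simp⟩, by simpa using h⟩

theorem sdeg_bound {p : ℕ} {l : List ℕ} (hl : ∀ d ∈ l, d ≤ off) {r x : ℤ} (hx : x ∈ sdeg p l r) :
    -(off : ℤ) ≤ x := by
  obtain ⟨d, hd, hx⟩ := List.mem_flatMap.1 (List.mem_filter.1 hx).1
  have := hl d hd
  simp at hx
  omega

/-- The cases left by the count of Sylow subgroups when seven does not divide the centraliser index. -/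
def cases : List (ℕ × ℕ) :=
  [(2, 5), (2, 16), (2, 27), (2, 60), (2, 192), (2, 720), (2, 2304), (2, 8640),
    (5, 2), (5, 24), (5, 288), (5, 3456), (10, 1), (10, 12), (10, 144), (10, 1728)]

theorem case_table : ∀ k ∈ divs, k % 23 ≠ 0 → k % 7 ≠ 0 → ∀ e ∈ [2, 5, 10],
    22256640 % (e * k) = 0 → 22256640 / (e * k) % 11 = 1 → (e, k) ∈ cases := by
  decide +kernel

theorem case_options {n e k : ℕ} (he : e = 2 ∨ e = 5 ∨ e = 10) (h : n * e * k = 22256640) (hn : n % 11 = 1)
    (h23 : ¬ 23 ∣ k) (h7 : ¬ 7 ∣ k) : (e, k) ∈ cases := by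
  have hk0 : k ≠ 0 := by rintro rfl; simp at h
  have hek : 0 < e * k := Nat.mul_pos (by omega) (Nat.pos_of_ne_zero hk0)
  have hq : 22256640 / (e * k) = n := by rw [← h, mul_assoc, Nat.mul_div_cancel _ hek]
  have hm : 22256640 % (e * k) = 0 := by rw [← h, mul_assoc, Nat.mul_mod_left]
  exact case_table k (mem_divs ⟨n * e, by linarith⟩) (fun h' => h23 (Nat.dvd_of_mod_eq_zero h'))
    (fun h' => h7 (Nat.dvd_of_mod_eq_zero h')) e (by simp; omega) hm (hq ▸ hn)

/-- The automiser of order two leaves two rows. -/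
theorem two_table : ∀ k ∈ [5, 16, 27, 60, 192, 720, 2304, 8640], ∀ x ∈ sdeg 11 (degs k) 1,
    ∀ y ∈ sdeg 11 (degs k) 2, y = 1 + x → x = 23 ∨ x = 45 := by
  decide +kernel

theorem linear_five : ∀ y ∈ sdeg 11 (degs 3456) 5, linOk (sdeg 11 (degs 3456) 1) 4 (y - 1) = false := by
  decide +kernel

theorem linear_ten : ∀ k ∈ [144, 1728], ∀ y ∈ sdeg 11 (degs k) 10,
    linOk (sdeg 11 (degs k) 1) 9 (y - 1) = false := by
  decide +kernel

/-! ### The block of seven at an element centralising a Sylow subgroup of order eleven -/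

/-- the divisors of the index of a Sylow subgroup of order seven -/
def divsSeven : List ℕ :=
  (List.range 11).flatMap fun a => (List.range 4).flatMap fun b => (List.range 2).flatMap fun c =>
    (List.range 2).flatMap fun d => (List.range 2).map fun e => 2 ^ a * 3 ^ b * 5 ^ c * 11 ^ d * 23 ^ e

theorem mem_divsSeven {n : ℕ} (h : n ∣ 34974720) : n ∈ divsSeven := by
  rw [show (34974720 : ℕ) = 2 ^ 10 * 3 ^ 3 * 5 ^ 1 * 11 ^ 1 * 23 ^ 1 by norm_num] at h
  obtain ⟨x, e', hx, he, rfl⟩ := Nat.dvd_mul.1 h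
  obtain ⟨y, d', hy, hd, rfl⟩ := Nat.dvd_mul.1 hx
  obtain ⟨z, c', hz, hc, rfl⟩ := Nat.dvd_mul.1 hy
  obtain ⟨a', b', ha, hb, rfl⟩ := Nat.dvd_mul.1 hz
  obtain ⟨a, ha1, rfl⟩ := (Nat.dvd_prime_pow (by norm_num)).1 ha
  obtain ⟨b, hb1, rfl⟩ := (Nat.dvd_prime_pow (by norm_num)).1 hb
  obtain ⟨c, hc1, rfl⟩ := (Nat.dvd_prime_pow (by norm_num)).1 hc
  obtain ⟨d, hd1, rfl⟩ := (Nat.dvd_prime_pow (by norm_num)).1 hd
  obtain ⟨e, he1, rfl⟩ := (Nat.dvd_prime_pow (by norm_num)).1 he
  simp only [divsSeven, List.mem_flatMap, List.mem_map, List.mem_range]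
  exact ⟨a, by omega, b, by omega, c, by omega, d, by omega, e, by omega, rfl⟩

/-- the possible degrees of the non-trivial characters of the principal block of seven -/
def degsSeven (k : ℕ) : List ℕ :=
  divsSeven.filter fun d =>
    decide (2 ≤ d) && decide (d ≤ off) && (34974720 / k % d == 0) && res.contains (d % 23)

theorem mem_degsSeven {k d : ℕ} (hd : d ∣ 34974720 / k) (hM : d ∣ 34974720) (h2 : 2 ≤ d) (hle : d ≤ off)
    (h23 : d % 23 ∈ res) : d ∈ degsSeven k :=
  List.mem_filter.2 ⟨mem_divsSeven hM, by simp [h2, hle, Nat.mod_eq_zero_of_dvd hd, h23]⟩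

theorem seven_table : ∀ k ∈ divsSeven, k % 11 = 0 → k % 23 ≠ 0 → ∀ e ∈ [2, 3, 6],
    34974720 % (e * k) = 0 → 34974720 / (e * k) % 7 = 1 →
      ∀ y ∈ sdeg 7 (degsSeven k) e, linOk (sdeg 7 (degsSeven k) 1) (e - 1) (y - 1) = true →
        e = 3 ∧ y = 24 := by
  decide +kernel

end Cfsg.Agent.MTwentyFour.ByOrder.Eleven
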