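import Cfsg.Agent.Lib.Spor.MTwentyFourOrder.FiveRowArith
import Cfsg.Agent.Lib.Spor.MTwentyFourOrder.SylowElevenArith

/-!
Numerical facts for the Sylow subgroup of order seven in a group of the order of the Mathieu group of degree
twenty-four: the orders of the centraliser, the rows of the principal block with automiser three and the values of
its members at the involution inverting a Sylow subgroup of order eleven.
-/

set_option autoImplicit false
set_option maxRecDepth 100000
set_option maxHeartbeats 2000000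

namespace Cfsg.Agent.MTwentyFour.ByOrder.SevenRow

/-- the possible degrees of the non-trivial characters of the block -/
def degs (k : ℕ) : List ℕ :=
  (Eleven.degsSeven k).filter fun d => [0, 1, 10].contains (d % 11) && decide (d ≠ 11)

theorem mem_degs {k d : ℕ} (hd : d ∈ Eleven.degsSeven k) (h11 : d % 11 ∈ [0, 1, 10]) (hne : d ≠ 11) :
    d ∈ degs k :=
  List.mem_filter.2 ⟨hd, by simp only [List.contains_iff_mem.2 h11, decide_eq_true hne, Bool.and_true]⟩

/-- the signed degrees congruent to a given residue -/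
def sd (k : ℕ) (r : ℤ) : List ℤ := Eleven.sdeg 7 (degs k) r

/-- Automiser two forces a degree twenty-three. -/
theorem two_table : ∀ k ∈ Eleven.divsSeven, k % 5 ≠ 0 → k % 11 ≠ 0 → k % 23 ≠ 0 → 34974720 % (2 * k) = 0 →
    34974720 / (2 * k) % 7 = 1 → ∀ x ∈ sd k 1, 1 + x ∈ sd k 2 → x = 22 := by
  decide +kernel

/-- the rows of signed degrees with automiser three -/
def rows : List (ℤ × ℤ) :=
  [(22, 22), (22, 253), (22, 736), (22, -1035), (253, 736), (-1035, 2024), (-1035, -3520), (-3520, 3795)]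

/-- The linear relation with automiser three. -/
theorem three_table : ∀ k ∈ Eleven.divsSeven, k % 5 ≠ 0 → k % 11 ≠ 0 → k % 23 ≠ 0 → 34974720 % (3 * k) = 0 →
    34974720 / (3 * k) % 7 = 1 → ∀ x ∈ sd k 1, ∀ y ∈ sd k 1, 1 + x + y ∈ sd k 3 →
      k ∈ [6, 48, 384] ∧ ((x, y) ∈ rows ∨ (y, x) ∈ rows) := by
  decide +kernel

/-- The orders of the centraliser with automiser six. -/
theorem six_table : ∀ k ∈ Eleven.divsSeven, k % 5 ≠ 0 → k % 11 ≠ 0 → k % 23 ≠ 0 → 34974720 % (6 * k) = 0 →
    34974720 / (6 * k) % 7 = 1 → k ∈ [3, 24, 192, 1536] := by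
  decide +kernel

/-- the conditions on a value of a member of degree `d` at the involution -/
def zok (C d : ℕ) (z : ℤ) : Bool :=
  decide (z * z ≤ (C : ℤ)) && decide (((d : ℤ) - z) % 4 = 0) && decide ((FiveRow.mOf d - z) % 2 = 0) &&
    decide (-FiveRow.mOf d ≤ z) && decide (z ≤ FiveRow.mOf d) &&
    decide ((((244823040 / C : ℕ) : ℤ) * z) % (d : ℤ) = 0)

/-- the candidates for a value -/
def zlist (C d : ℕ) : List ℤ :=
  ((List.range ((FiveRow.mOf d).toNat / 2 + 2)).map fun i : ℕ =>
    -FiveRow.mOf d + ((d : ℤ) + FiveRow.mOf d) % 4 + 4 * (i : ℤ)).filter (zok C d)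

theorem zok_iff {C d : ℕ} {z : ℤ} :
    zok C d z = true ↔ z * z ≤ (C : ℤ) ∧ ((d : ℤ) - z) % 4 = 0 ∧ (FiveRow.mOf d - z) % 2 = 0 ∧
      -FiveRow.mOf d ≤ z ∧ z ≤ FiveRow.mOf d ∧ (((244823040 / C : ℕ) : ℤ) * z) % (d : ℤ) = 0 := by
  simp only [zok, Bool.and_eq_true, decide_eq_true_eq, and_assoc]

theorem mem_zlist {C d : ℕ} {z : ℤ} (h : zok C d z = true) : z ∈ zlist C d := by
  obtain ⟨-, h4, -, hlo, hhi, -⟩ := zok_iff.1 h
  refine List.mem_filter.2 ⟨List.mem_map.2
    ⟨((z + FiveRow.mOf d - ((d : ℤ) + FiveRow.mOf d) % 4) / 4).toNat, List.mem_range.2 ?_, ?_⟩, h⟩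
  · omega
  · omega

/-- the value of the exceptional members, by the linear relation -/
def zExc (x y z w : ℤ) : ℤ := FiveRow.sg (1 + x + y) * (1 + FiveRow.sg x * z + FiveRow.sg y * w)

/-- the product of the degrees times the sum over the block -/
def num (x y z w : ℤ) : ℤ :=
  (x.natAbs : ℤ) * (y.natAbs : ℤ) * ((1 + x + y).natAbs : ℤ) +
    FiveRow.sg x * (z * z) * ((y.natAbs : ℤ) * ((1 + x + y).natAbs : ℤ)) +
    FiveRow.sg y * (w * w) * ((x.natAbs : ℤ) * ((1 + x + y).natAbs : ℤ)) -
    FiveRow.sg (1 + x + y) * (zExc x y z w * zExc x y z w) * ((x.natAbs : ℤ) * (y.natAbs : ℤ))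

/-- Is there a choice of values passing the checks? -/
def srch (C : ℕ) (r : ℤ × ℤ) : Bool :=
  (zlist C r.1.natAbs).any fun z => (zlist C r.2.natAbs).any fun w =>
    zok C (1 + r.1 + r.2).natAbs (zExc r.1 r.2 z w) &&
      decide (1 + z * z + w * w + 2 * (zExc r.1 r.2 z w * zExc r.1 r.2 z w) ≤ (C : ℤ)) &&
      decide (num r.1 r.2 z w = 0)

/-- Only the row of the Mathieu group has values with no pair of involutions over an element of order seven. -/
theorem value_table : ∀ r ∈ rows, ∀ C ∈ FiveRow.cents, srch C r = true → r = (-1035, 2024) := by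
  decide +kernel

end Cfsg.Agent.MTwentyFour.ByOrder.SevenRow
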