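import Cfsg.Agent.Lib.Spor.MTwentyFourOrder.SylowElevenBlock

/-!
In a simple group of the order of the Mathieu group of degree twenty-four no element of order seven centralises an
element of order eleven.
-/

set_option autoImplicit false
set_option linter.unusedSectionVars false
set_option maxHeartbeats 1000000

namespace Cfsg.Agent.MTwentyFour.ByOrder.Eleven

open Cfsg Cfsg.Agent.Char Cfsg.Agent.Small.Order459648 Cfsg.Agent.Char.PrimeSylowCount
open Cfsg.Agent.MTwelve.OrderFront (val_one mult_nat)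
open Cfsg.Agent.MTwentyFour.ByOrder (na)
open scoped ComplexConjugate Classical

universe u

variable {G : Type u} [Group G] [Fintype G]

local instance fact_seven : Fact (Nat.Prime 7) := ⟨by norm_num⟩
local instance fact_elevenSeven : Fact (Nat.Prime 11) := ⟨by norm_num⟩
local instance fact_twentyThreeSeven : Fact (Nat.Prime 23) := ⟨by norm_num⟩

theorem coprime_lift : ∀ j < 11, j ≠ 0 → ∃ k ∈ [29, 43, 71, 113, 127, 197, 211, 239, 281, 337, 379, 421, 449, 463, 631],
    k % 11 = j ∧ k % 7 = 1 ∧ Nat.Coprime k 244823040 := by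
  decide +kernel

variable [IsSimpleGroup G]

/-- No element has order seventy-seven. -/
theorem no_seventyseven (hG : Nat.card G = 244823040) (g : G) : ¬ 7 * 11 ∣ orderOf g := by
  intro hg
  obtain ⟨Q, n, e, k, hQ, -, hk, hnek, hn1, -, he6, he1, he⟩ :=
    data (G := G) (p := 7) (m := 34974720) (by rw [hG]) (by norm_num) (by norm_num)
  have hC : Nat.card (Subgroup.centralizer ((Q : Subgroup G) : Set G)) = 7 * k := hk
  have hk0 : k ≠ 0 := by rintro rfl; simp at hnek
  have h11 : 11 ∣ k := Sections.dvd_of_mixed hQ hC (by norm_num) (by norm_num) hg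
  have h23 : ¬ 23 ∣ k := fun h => by
    obtain ⟨R, hR, hRC, -⟩ := exists_twentythree hG
    obtain ⟨v, hv⟩ := exists_prime_orderOf_dvd_card'
      (G := Subgroup.centralizer ((Q : Subgroup G) : Set G)) 23 (hC ▸ dvd_mul_of_dvd_right h 7)
    obtain ⟨y, hy⟩ := SmallOrderGraph.nonOne_nonempty Q hQ
    have hc : Commute (y : G) (v : G) := Subgroup.mem_centralizer_iff.1 v.2 _ y.2
    have ho : orderOf ((y : G) * (v : G)) = 7 * 23 := by
      rw [hc.orderOf_mul_eq_mul_orderOf_of_coprime
        (by rw [Sections.order_eq hQ y.2 (mem_nonOne.1 hy), Subgroup.orderOf_coe, hv]; norm_num),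
        Sections.order_eq hQ y.2 (mem_nonOne.1 hy), Subgroup.orderOf_coe, hv]
    have := Sections.dvd_of_mixed hR (k := 1) (by rw [mul_one]; exact hRC) (q := 7) (by norm_num) (by norm_num)
      (g := (y : G) * (v : G)) (by rw [ho])
    norm_num at this
  obtain ⟨M, hM⟩ := exists_pModular (show Nat.Prime 7 by norm_num)
  have hel : e = 2 ∨ e = 3 ∨ e = 6 := by
    have : e ≤ 6 := Nat.le_of_dvd (by norm_num) he6
    interval_cases e <;> simp_all
  obtain ⟨t, ht, het⟩ : ∃ t, 0 < t ∧ e * t + 1 = 7 := by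
    rcases hel with rfl | rfl | rfl
    exacts [⟨3, by norm_num⟩, ⟨2, by norm_num⟩, ⟨1, by norm_num⟩]
  obtain ⟨X, Y, a, δ, h, h1X, hone, hYc⟩ := Solv.BReyn.exists_principal_one_mem hM hQ he (by omega) ht het
  have hf : FrobSylow Q e := he ▸ frobSylow_of_prime hQ
  change (oneChar : IrrCharacter G) ∈ X at h1X
  change a (oneChar : IrrCharacter G) = 1 at hone
  obtain ⟨y, hyn⟩ := SmallOrderGraph.nonOne_nonempty Q hQ
  have hy1 : (y : G) ≠ 1 := mem_nonOne.1 hyn
  obtain ⟨θ, hθ, hθy⟩ : ∃ θ ∈ Y, (θ : G → ℂ) (y : G) ≠ 0 := by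
    by_contra hall
    push Not at hall
    have h0 := Solv.BReyn.sum_exc hM hQ h (Finset.card_pos.1 (by omega)) hyn
    rw [Finset.sum_eq_zero hall] at h0
    rcases h.sign with e' | e' <;> rw [e'] at h0 <;> norm_num at h0
  have hθne : θ ≠ oneChar := fun e1 => Finset.disjoint_left.1 h.disj h1X (by subst e1; exact hθ)
  have hkM : k ∣ 34974720 := ⟨n * e, by linarith⟩
  have hG' : Nat.card G = 7 * 34974720 := by rw [hG]
  have hdeg : ∀ χ : IrrCharacter G, χ ≠ oneChar → charDegree (χ : G → ℂ) ∣ 34974720 / k →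
      charDegree (χ : G → ℂ) ∈ degsSeven k := fun χ hne hd =>
    mem_degsSeven hd (hd.trans (Nat.div_dvd_of_dvd hkM)) (deg_range hG hne).1 (deg_range hG hne).2 (deg_res hG χ)
  have hlin := lin_test h h1X hone (l := degsSeven k)
    (fun d hd => by
      have := (List.mem_filter.1 hd).2
      simp at this
      omega)
    (fun χ hχ => hdeg χ (Finset.mem_erase.1 hχ).1 (dvd_X hQ h hG' hC hyn (Finset.mem_erase.1 hχ).2)) hθ
  have hek : 0 < e * k := Nat.mul_pos (by omega) (Nat.pos_of_ne_zero hk0)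
  obtain ⟨rfl, h24⟩ := seven_table k (mem_divsSeven hkM) (Nat.mod_eq_zero_of_dvd h11)
    (fun h' => h23 (Nat.dvd_of_mod_eq_zero h')) e (by simp; omega) (by rw [← hnek, mul_assoc, Nat.mul_mod_left])
    (by rw [← hnek, mul_assoc, Nat.mul_div_cancel _ hek]; exact hn1) _
    (mem_sdeg (hdeg θ hθne (dvd_Y hQ hM h hG' hC hyn hθ)) h.sign (congr_Y h hθ)) hlin
  have hd24 : charDegree (θ : G → ℂ) = 24 := by
    rcases h.sign with e' | e' <;> rw [e'] at h24 <;> omega
  -- an element of order eleven centralising the Sylow subgroup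
  obtain ⟨x', hx'⟩ := exists_prime_orderOf_dvd_card'
    (G := Subgroup.centralizer ((Q : Subgroup G) : Set G)) 11 (hC ▸ dvd_mul_of_dvd_right h11 7)
  set x : G := (x' : G)
  have hx : orderOf x = 11 := by rw [Subgroup.orderOf_coe, hx']
  have hfix : ∀ c : ℕ, c.Coprime (Nat.card G) → c % 7 = 1 →
      (θ : G → ℂ) (x ^ c) = (θ : G → ℂ) x := by
    intro c hc hc7
    have hyc : (y : G) ^ c = y := by
      rw [← pow_mod_orderOf, Sections.order_eq hQ y.2 hy1, hc7, pow_one]
    have hmem : SmallOrderGraph.galConj θ hc ∈ principalBlock M G := by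
      by_contra hnot
      have h0 := Sections.sum_regs hM hf y.2 hy1 (SmallOrderGraph.galConj θ hc)
      rw [if_neg hnot, mul_zero, Finset.sum_congr rfl (g := fun _ => (θ : G → ℂ) (y : G)) fun w hw => ?_,
        Finset.sum_const, nsmul_eq_mul, mul_eq_zero, Nat.cast_eq_zero, Finset.card_eq_zero] at h0
      · exact h0.elim (fun h' => (Finset.ne_empty_of_mem (Sections.one_mem_regs (y : G))) h') hθy
      · have hcw : Commute (y : G) (w : G) := (Subgroup.mem_centralizer_singleton_iff.1 w.2).symm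
        rw [SmallOrderGraph.galConj_apply, hcw.mul_pow, hyc]
        refine Sections.const hM hf ((h.mem_iff θ).2 (Or.inr hθ)) y.2 hy1 (hcw.pow_right c).symm.eq ?_
        intro h7
        refine Sections.mem_regs.1 hw ?_
        rw [← Subgroup.orderOf_coe]
        exact h7.trans (orderOf_pow_dvd c)
    have hdeg' : charDegree (SmallOrderGraph.galConj θ hc : G → ℂ) = 24 := by
      rw [SmallOrderGraph.charDegree_galConj, hd24]
    rcases (h.mem_iff _).1 hmem with hX | hY
    · exfalso
      have h2 := congr_X h hX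
      rw [hdeg'] at h2
      rcases h.a_sign _ hX with e' | e' <;> rw [e'] at h2 <;> omega
    · rw [← SmallOrderGraph.galConj_apply θ hc, h.regY _ hY θ hθ x (by rw [hx]; norm_num)]
  -- the values at the element are rational
  have hsame : ∀ j : ℕ, j < 11 → j ≠ 0 → (θ : G → ℂ) (x ^ j) = (θ : G → ℂ) x := by
    intro j hj hj0
    obtain ⟨c, -, hc11, hc7, hco⟩ := coprime_lift j hj hj0
    rw [← hc11, ← hx, pow_mod_orderOf]
    exact hfix c (hG ▸ hco) hc7
  obtain ⟨m, hm, hlt⟩ := exists_fix hG hθne (q := 11) (by norm_num) hx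
  have hval : (10 : ℂ) * (θ : G → ℂ) x = ((11 * (m : ℤ) - 24 : ℤ) : ℂ) := by
    rw [Finset.sum_range_succ', pow_zero, val_one, hd24,
      Finset.sum_congr rfl fun j hj => hsame (j + 1) (by have := Finset.mem_range.1 hj; omega) (by omega),
      Finset.sum_const, Finset.card_range, nsmul_eq_mul] at hm
    push_cast at hm ⊢
    linear_combination hm
  have hsp := Sections.split hM hf hQ ((h.mem_iff θ).2 (Or.inr hθ)) y.2 hy1 (q := 11) (by norm_num) (by norm_num)
    (v := x) (by rw [← hx]; exact pow_orderOf_eq_one x)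
    (Subgroup.mem_centralizer_iff.1 x'.2 _ y.2).symm (S := 11 * (m : ℤ)) (by rw [hm]; push_cast; ring)
  obtain ⟨z, hz⟩ := isIntegral_rat_cast_imp (q := ((11 * (m : ℤ) - 24 : ℤ) : ℚ) / 10) (by
    rw [Rat.cast_div, Rat.cast_intCast, Rat.cast_ofNat, ← hval, mul_div_cancel_left₀ _ (by norm_num)]
    exact char_isIntegral (irr_isCharacter θ.2) x)
  have hz' : (11 * (m : ℤ) - 24 : ℤ) = z * 10 := by
    rw [eq_div_iff (by norm_num : (10 : ℚ) ≠ 0)] at hz
    exact_mod_cast hz.symm
  rw [hd24] at hsp hlt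
  push_cast at hsp
  omega

/-- Seven does not divide the index of the centraliser. -/
theorem not_seven (hG : Nat.card G = 244823040) {P : Sylow 11 G} (hP : Nat.card P = 11) {k : ℕ}
    (hC : Nat.card (Subgroup.centralizer ((P : Subgroup G) : Set G)) = 11 * k) : ¬ 7 ∣ k := by
  intro h7
  obtain ⟨v, hv⟩ := exists_prime_orderOf_dvd_card'
    (G := Subgroup.centralizer ((P : Subgroup G) : Set G)) 7 (hC ▸ dvd_mul_of_dvd_right h7 11)
  obtain ⟨y, hy⟩ := SmallOrderGraph.nonOne_nonempty P hP
  have hc : Commute (y : G) (v : G) := Subgroup.mem_centralizer_iff.1 v.2 _ y.2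
  refine no_seventyseven hG ((y : G) * (v : G)) ?_
  rw [hc.orderOf_mul_eq_mul_orderOf_of_coprime
    (by rw [Sections.order_eq hP y.2 (mem_nonOne.1 hy), Subgroup.orderOf_coe, hv]; norm_num),
    Sections.order_eq hP y.2 (mem_nonOne.1 hy), Subgroup.orderOf_coe, hv]

end Cfsg.Agent.MTwentyFour.ByOrder.Eleven
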