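import Cfsg.Agent.Lib.Spor.MTwentyFourOrder.InvolTen
import Cfsg.Agent.Lib.Spor.MTwentyFourOrder.SylowElevenSeven
import Cfsg.Agent.Lib.Spor.MTwentyFourOrder.FiveLocal
import Cfsg.Agent.Lib.Spor.MTwentyFourOrder.SevenRowArith

/-!
A simple group of the order of the Mathieu group of degree twenty-four: the Sylow subgroup of order seven and its
principal block.
-/

set_option autoImplicit false
set_option linter.unusedSectionVars false
set_option maxRecDepth 100000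
set_option maxHeartbeats 1000000

namespace Cfsg.Agent.MTwentyFour.ByOrder

open Cfsg Cfsg.Agent.Char Cfsg.Agent.Small.Order459648 Cfsg.Agent.Char.PrimeSylowCount
open Cfsg.Agent.MTwelve.OrderFront (val_one)
open Cfsg.Agent.MTwentyFour.ByOrder.Ten
open scoped ComplexConjugate
open scoped _root_.Classical

universe u

namespace SevenRow

variable {G : Type u} [Group G] [Fintype G]

/-- With an automiser of odd order no element of the Sylow subgroup is inverted. -/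
theorem no_inverter {p : ℕ} [Fact p.Prime] (hp2 : p ≠ 2) {R : Sylow p G} (hR : Nat.card R = p) {e : ℕ}
    (he : (Subgroup.centralizer ((R : Subgroup G) : Set G)).relIndex
      (Subgroup.normalizer ((R : Subgroup G) : Set G)) = e) (hodd : Odd e)
    {w b : G} (hw : w ∈ (R : Subgroup G)) (hw1 : w ≠ 1) : b * w * b⁻¹ ≠ w⁻¹ := by
  intro hb
  have hz := eq_zpowers_of_prime_sylow hR hw hw1
  set N := Subgroup.normalizer ((R : Subgroup G) : Set G)
  have hbN : b ∈ N := by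
    refine Subgroup.mem_normalizer_iff.2 fun n => ?_
    rw [← hz]
    constructor
    · rintro ⟨i, rfl⟩; exact ⟨-i, by show w ^ (-i) = _; rw [← conj_zpow, hb, inv_zpow']⟩
    · rintro ⟨i, hi⟩
      refine ⟨-i, ?_⟩
      have : b * w ^ (-i) * b⁻¹ = b * n * b⁻¹ := by rw [← hi, ← conj_zpow, hb, inv_zpow', neg_neg]
      exact mul_left_cancel (mul_right_cancel this)
  let f : N →* MulAut (R : Subgroup G) := (R : Subgroup G).normalizerMonoidHom
  have hker : f.ker = (Subgroup.centralizer ((R : Subgroup G) : Set G)).subgroupOf N :=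
    Subgroup.normalizerMonoidHom_ker _
  have hrange : Nat.card f.range = e := by rw [← Subgroup.index_ker, hker]; exact he
  have he1 : f ⟨b, hbN⟩ ^ e = 1 := by
    have := Subgroup.orderOf_dvd_natCard (s := f.range) (x := f ⟨b, hbN⟩) ⟨_, rfl⟩
    rw [hrange] at this
    exact orderOf_dvd_iff_pow_eq_one.1 this
  have hval : ∀ x : (R : Subgroup G), ((f ⟨b, hbN⟩ x : (R : Subgroup G)) : G) = b * (x : G) * b⁻¹ := fun x => rfl
  have h2 : ∀ j : ℕ, ((f ⟨b, hbN⟩ ^ j) ⟨w, hw⟩ : (R : Subgroup G)) = (⟨w, hw⟩ : (R : Subgroup G)) ^ ((-1 : ℤ) ^ j) := by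
    intro j
    induction j with
    | zero => simp
    | succ j ih =>
      rw [pow_succ', MulAut.mul_apply, ih, map_zpow,
        show f ⟨b, hbN⟩ ⟨w, hw⟩ = (⟨w, hw⟩ : (R : Subgroup G))⁻¹ from Subtype.ext (by rw [hval]; exact hb),
        inv_zpow', pow_succ']
      congr 1; ring
  have h3 := h2 e
  rw [he1, MulAut.one_apply, hodd.neg_one_pow] at h3
  have h4 : w * w = 1 := by
    have := congrArg Subtype.val h3
    rw [Subgroup.coe_zpow] at this
    norm_num at this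
    nth_rw 1 [this]
    exact inv_mul_cancel w
  have h5 : orderOf w ∣ 2 := orderOf_dvd_of_pow_eq_one (by rw [pow_two]; exact h4)
  rw [Sections.order_eq hR hw hw1] at h5
  exact hp2 ((Nat.prime_dvd_prime_iff_eq Fact.out Nat.prime_two).1 h5)

local instance fact_sevenLocal : Fact (Nat.Prime 7) := ⟨by norm_num⟩
local instance fact_fiveSevenLocal : Fact (Nat.Prime 5) := ⟨by norm_num⟩
local instance fact_elevenSevenLocal : Fact (Nat.Prime 11) := ⟨by norm_num⟩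
local instance fact_twentyThreeSevenLocal : Fact (Nat.Prime 23) := ⟨by norm_num⟩

variable [IsSimpleGroup G]

/-- Five, eleven and twenty-three do not divide the index of the Sylow subgroup of order seven in its centraliser. -/
theorem not_dvd_index (hG : Nat.card G = 244823040) {Q : Sylow 7 G} (hQ : Nat.card Q = 7) {k : ℕ}
    (hC : Nat.card (Subgroup.centralizer ((Q : Subgroup G) : Set G)) = 7 * k) :
    ¬ 5 ∣ k ∧ ¬ 11 ∣ k ∧ ¬ 23 ∣ k := by
  have hpart : ∀ q : ℕ, q.Prime → q ≠ 7 → q ∣ k → ∃ g : G, orderOf g = 7 * q := by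
    intro q hq hq7 hqk
    haveI : Fact q.Prime := ⟨hq⟩
    obtain ⟨v, hv⟩ := exists_prime_orderOf_dvd_card'
      (G := Subgroup.centralizer ((Q : Subgroup G) : Set G)) q (hC ▸ dvd_mul_of_dvd_right hqk 7)
    obtain ⟨y, hy⟩ := SmallOrderGraph.nonOne_nonempty Q hQ
    have hc : Commute (y : G) (v : G) := Subgroup.mem_centralizer_iff.1 v.2 _ y.2
    refine ⟨(y : G) * (v : G), ?_⟩
    rw [hc.orderOf_mul_eq_mul_orderOf_of_coprime
      (by rw [Sections.order_eq hQ y.2 (mem_nonOne.1 hy), Subgroup.orderOf_coe, hv]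
          exact (Nat.coprime_primes (by norm_num) hq).2 (Ne.symm hq7)),
      Sections.order_eq hQ y.2 (mem_nonOne.1 hy), Subgroup.orderOf_coe, hv]
  refine ⟨fun h => ?_, fun h => ?_, fun h => ?_⟩
  · obtain ⟨g, hg⟩ := hpart 5 (by norm_num) (by norm_num) h
    obtain ⟨Q5, k5, hQ5, hC5, hk5, -⟩ := exists_five hG
    have := Sections.dvd_of_mixed hQ5 hC5 (q := 7) (by norm_num) (by norm_num) (g := g) (by rw [hg])
    fin_cases hk5 <;> norm_num at this
  · obtain ⟨g, hg⟩ := hpart 11 (by norm_num) (by norm_num) h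
    exact Eleven.no_seventyseven hG g (by rw [hg])
  · obtain ⟨g, hg⟩ := hpart 23 (by norm_num) (by norm_num) h
    exact no_mixed_twentythree hG (q := 7) (by norm_num) (by norm_num) g (by rw [hg])

/-- The principal block of seven when the automiser has order three: the row of the Mathieu group. -/
structure SevenData (Q : Sylow 7 G) (k : ℕ) (M : Ideal AlgInt) (c₁ c₂ θ₁ θ₂ : IrrCharacter G) : Prop where
  card : Nat.card Q = 7
  cent : Nat.card (Subgroup.centralizer ((Q : Subgroup G) : Set G)) = 7 * k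
  index : (Subgroup.centralizer ((Q : Subgroup G) : Set G)).relIndex
    (Subgroup.normalizer ((Q : Subgroup G) : Set G)) = 3
  modular : IsPModular 7 M
  block : ∃ (a : IrrCharacter G → ℤ) (δ : ℤ), PrimePrincipal M Q 3 {oneChar, c₁, c₂} {θ₁, θ₂} a δ
  distinct : [oneChar, c₁, c₂, θ₁, θ₂].Nodup
  mem_iff : ∀ χ, χ ∈ principalBlock M G ↔ χ = oneChar ∨ χ = c₁ ∨ χ = c₂ ∨ χ = θ₁ ∨ χ = θ₂
  deg₁ : charDegree (c₁ : G → ℂ) = 1035
  deg₂ : charDegree (c₂ : G → ℂ) = 2024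
  deg₃ : charDegree (θ₁ : G → ℂ) = 990
  deg₄ : charDegree (θ₂ : G → ℂ) = 990
  val₁ : ∀ y ∈ nonOne Q, (c₁ : G → ℂ) (y : G) = -1
  val₂ : ∀ y ∈ nonOne Q, (c₂ : G → ℂ) (y : G) = 1
  val_exc : ∀ y ∈ nonOne Q, (θ₁ : G → ℂ) (y : G) + (θ₂ : G → ℂ) (y : G) = -1
  reg : ∀ x : G, ¬ 7 ∣ orderOf x → (θ₂ : G → ℂ) x = (θ₁ : G → ℂ) x
  rel : ∀ x : G, ¬ 7 ∣ orderOf x → (θ₁ : G → ℂ) x = 1 - (c₁ : G → ℂ) x + (c₂ : G → ℂ) x
  no_inverted : ∀ y ∈ (Q : Subgroup G), y ≠ 1 → ∀ b : G, b * y * b⁻¹ ≠ y⁻¹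
  pair : ∀ v : G, v ^ 2 = 1 → 1 - ((c₁ : G → ℂ) v) ^ 2 / 1035 + ((c₂ : G → ℂ) v) ^ 2 / 2024 -
    ((θ₁ : G → ℂ) v) ^ 2 / 990 = 0

/-- The value conditions at the involution. -/
theorem zok_of_col {P : Sylow 11 G} {g : G} {z : IrrCharacter G → ℤ} {C : ℕ} (T : TCol P g z C)
    (χ : IrrCharacter G) (hsq : z χ * z χ ≤ (C : ℤ)) : zok C (charDegree (χ : G → ℂ)) (z χ) = true := by
  obtain ⟨hb, h2⟩ := T.bound χ
  rw [abs_le] at hb
  refine zok_iff.2 ⟨hsq, Int.emod_eq_zero_of_dvd (T.four χ), ?_, ?_, ?_, Int.emod_eq_zero_of_dvd (T.class_dvd χ)⟩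
  · rw [FiveRow.mOf_eq]; exact Int.emod_eq_zero_of_dvd h2
  · rw [FiveRow.mOf_eq]; exact hb.1
  · rw [FiveRow.mOf_eq]; exact hb.2

/-- The Sylow subgroup of order seven: a character of degree twenty-three, or automiser three with the row of the
Mathieu group, or automiser six with four possible centraliser indices. -/
theorem exists_seven (hG : Nat.card G = 244823040) :
    (∃ χ : IrrCharacter G, charDegree (χ : G → ℂ) = 23) ∨
    ∃ (Q : Sylow 7 G) (e k : ℕ), Nat.card Q = 7 ∧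
      (Subgroup.centralizer ((Q : Subgroup G) : Set G)).relIndex
        (Subgroup.normalizer ((Q : Subgroup G) : Set G)) = e ∧
      Nat.card (Subgroup.centralizer ((Q : Subgroup G) : Set G)) = 7 * k ∧
      ((e = 3 ∧ k ∈ [6, 48, 384] ∧ ∃ (M : Ideal AlgInt) (c₁ c₂ θ₁ θ₂ : IrrCharacter G),
          SevenData Q k M c₁ c₂ θ₁ θ₂) ∨
        (e = 6 ∧ k ∈ [3, 24, 192, 1536])) := by
  obtain ⟨Q, n, e, k, hQ, -, hk, hnek, hn1, -, he6, he1, he⟩ :=
    data (G := G) (p := 7) (m := 34974720) (by rw [hG]) (by norm_num) (by norm_num)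
  have hC : Nat.card (Subgroup.centralizer ((Q : Subgroup G) : Set G)) = 7 * k := hk
  have hk0 : k ≠ 0 := by rintro rfl; simp at hnek
  have hkM : k ∣ 34974720 := ⟨n * e, by linarith⟩
  have hkd := Eleven.mem_divsSeven hkM
  obtain ⟨h5, h11, h23⟩ := not_dvd_index hG hQ hC
  have h5' : k % 5 ≠ 0 := fun h => h5 (Nat.dvd_of_mod_eq_zero h)
  have h11' : k % 11 ≠ 0 := fun h => h11 (Nat.dvd_of_mod_eq_zero h)
  have h23' : k % 23 ≠ 0 := fun h => h23 (Nat.dvd_of_mod_eq_zero h)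
  have hel : e = 2 ∨ e = 3 ∨ e = 6 := by
    have : e ≤ 6 := Nat.le_of_dvd (by norm_num) he6
    interval_cases e <;> simp_all
  have hek : 0 < e * k := Nat.mul_pos (by omega) (Nat.pos_of_ne_zero hk0)
  have hmod : 34974720 % (e * k) = 0 := by rw [← hnek, mul_assoc, Nat.mul_mod_left]
  have hdiv : 34974720 / (e * k) % 7 = 1 := by rw [← hnek, mul_assoc, Nat.mul_div_cancel _ hek]; exact hn1
  by_cases he6' : e = 6
  · subst he6'
    exact Or.inr ⟨Q, 6, k, hQ, he, hC, Or.inr ⟨rfl, six_table k hkd h5' h11' h23' hmod hdiv⟩⟩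
  obtain ⟨M, hM⟩ := exists_pModular (show Nat.Prime 7 by norm_num)
  obtain ⟨t, ht, het⟩ : ∃ t, 0 < t ∧ e * t + 1 = 7 := by
    rcases hel with rfl | rfl | rfl
    exacts [⟨3, by norm_num⟩, ⟨2, by norm_num⟩, ⟨1, by norm_num⟩]
  obtain ⟨X, Y, a, δ, h, h1X, hone, hYc⟩ := Solv.BReyn.exists_principal_one_mem hM hQ he (by omega) ht het
  change (oneChar : IrrCharacter G) ∈ X at h1X
  change a (oneChar : IrrCharacter G) = 1 at hone
  obtain ⟨y, hyn⟩ := SmallOrderGraph.nonOne_nonempty Q hQ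
  have hG' : Nat.card G = 7 * 34974720 := by rw [hG]
  have hdeg : ∀ χ : IrrCharacter G, χ ≠ oneChar → charDegree (χ : G → ℂ) ∣ 34974720 / k →
      charDegree (χ : G → ℂ) ∈ degs k := fun χ hne hd =>
    mem_degs (Eleven.mem_degsSeven hd (hd.trans (Nat.div_dvd_of_dvd hkM)) (Eleven.deg_range hG hne).1
      (Eleven.deg_range hG hne).2 (Eleven.deg_res hG χ)) (deg_res_eleven hG χ)
      (MathieuByGraph.deg_ne_eleven (na hG) (by rw [hG]; norm_num) (by rw [hG]; norm_num)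
        (by rw [hG]; norm_num) hne)
  have hYne : ∀ θ ∈ Y, θ ≠ (oneChar : IrrCharacter G) := fun θ hθ e1 =>
    Finset.disjoint_left.1 h.disj h1X (e1 ▸ hθ)
  have hXd : ∀ χ ∈ X.erase oneChar, a χ * (charDegree (χ : G → ℂ) : ℤ) ∈ sd k 1 := fun χ hχ =>
    Eleven.mem_sdeg (hdeg χ (Finset.mem_erase.1 hχ).1 (Eleven.dvd_X hQ h hG' hC hyn (Finset.mem_erase.1 hχ).2))
      (h.a_sign χ (Finset.mem_erase.1 hχ).2) (Eleven.congr_X h (Finset.mem_erase.1 hχ).2)
  have hYd : ∀ θ ∈ Y, δ * (charDegree (θ : G → ℂ) : ℤ) ∈ sd k e := fun θ hθ =>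
    Eleven.mem_sdeg (hdeg θ (hYne θ hθ) (Eleven.dvd_Y hQ hM h hG' hC hyn hθ)) h.sign (Eleven.congr_Y h hθ)
  obtain ⟨θ₁, hθ₁⟩ : Y.Nonempty := Finset.card_pos.1 (by omega)
  have hXc : (X.erase oneChar).card = e - 1 := by rw [Finset.card_erase_of_mem h1X, h.cardX]
  rcases hel with rfl | rfl | rfl
  · -- automiser two
    left
    obtain ⟨c, hc⟩ := Finset.card_eq_one.1 hXc
    have hr := Eleven.rel_one h h1X hone hθ₁
    rw [hc, Finset.sum_singleton] at hr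
    have hx := two_table k hkd h5' h11' h23' hmod hdiv _ (hXd c (hc ▸ Finset.mem_singleton_self c))
      (hr ▸ hYd θ₁ hθ₁)
    refine ⟨θ₁, ?_⟩
    rw [hx] at hr
    rcases h.sign with e' | e' <;> rw [e'] at hr <;> omega
  swap
  · exact absurd rfl he6'
  -- automiser three
  right
  obtain ⟨c, c', hcc', hc⟩ := Finset.card_eq_two.1 hXc
  have hr := Eleven.rel_one h h1X hone hθ₁
  rw [hc, Finset.sum_pair hcc', ← add_assoc] at hr
  set A : IrrCharacter G → ℤ := fun χ => a χ * (charDegree (χ : G → ℂ) : ℤ) with hA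
  obtain ⟨hkl, hrow⟩ := three_table k hkd h5' h11' h23' hmod hdiv _ (hXd c (by rw [hc]; simp)) _
    (hXd c' (by rw [hc]; simp)) (hr ▸ hYd θ₁ hθ₁)
  obtain ⟨c₁, c₂, hne, hpair, hrow'⟩ : ∃ c₁ c₂ : IrrCharacter G, c₁ ≠ c₂ ∧ X.erase oneChar = {c₁, c₂} ∧
      (A c₁, A c₂) ∈ rows := by
    rcases hrow with hrw | hrw
    · exact ⟨c, c', hcc', hc, hrw⟩
    · exact ⟨c', c, Ne.symm hcc', by rw [hc, Finset.pair_comm], hrw⟩
  have hm₁ : c₁ ∈ X.erase oneChar := by rw [hpair]; simp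
  have hm₂ : c₂ ∈ X.erase oneChar := by rw [hpair]; simp
  have hX : X = {oneChar, c₁, c₂} := by rw [← hpair, Finset.insert_erase h1X]
  obtain ⟨θ₂, hθ₂, hne'⟩ : ∃ θ₂ ∈ Y, θ₂ ≠ θ₁ := Finset.exists_mem_ne (by omega) θ₁
  have hY : Y = {θ₁, θ₂} := by
    refine (Finset.eq_of_subset_of_card_le (fun x hx => ?_) ?_).symm
    · rcases Finset.mem_insert.1 hx with rfl | hx
      exacts [hθ₁, Finset.mem_singleton.1 hx ▸ hθ₂]
    · rw [Finset.card_pair (Ne.symm hne')]; omega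
  have hf : FrobSylow Q 3 := he ▸ frobSylow_of_prime hQ
  have hinv : ∀ w ∈ (Q : Subgroup G), w ≠ 1 → ∀ b : G, b * w * b⁻¹ ≠ w⁻¹ := fun w hw hw1 b =>
    no_inverter (by norm_num) hQ he (by decide) hw hw1
  -- no pair of involutions over an element of order seven
  have hy1 : (y : G) ≠ 1 := mem_nonOne.1 hyn
  have hCy : Nat.card (Subgroup.centralizer ({(y : G)} : Set G)) = 7 * k := by
    rw [Sections.cent_eq hQ y.2 hy1, hC]
  have hk7 : ¬ 7 ∣ k := fun hd => by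
    have := (Nat.dvd_trans hd hkM)
    norm_num at this
  have hsum : ∀ v : G, v ^ 2 = 1 → (1 : ℂ) + (a c₁ : ℂ) * ((c₁ : G → ℂ) v) ^ 2 / (c₁ : G → ℂ) 1 +
      (a c₂ : ℂ) * ((c₂ : G → ℂ) v) ^ 2 / (c₂ : G → ℂ) 1 -
      (δ : ℂ) * ((θ₁ : G → ℂ) v) ^ 2 / (θ₁ : G → ℂ) 1 = 0 := by
    intro v hv
    have hsq := Sections.Square.square_sum hM hQ h ⟨θ₁, hθ₁⟩ hf hyn hCy hk7 (by norm_num) hv hθ₁
    have hnone : Sections.Square.inverters v (y : G) = ∅ := Finset.eq_empty_of_forall_notMem fun b hb =>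
      hinv _ y.2 hy1 b (Sections.Square.mem_inverters.1 hb).2
    rw [hnone, Finset.card_empty, Nat.cast_zero, zero_pow two_ne_zero, mul_zero,
      ← Finset.add_sum_erase X _ h1X, hone, hpair, Finset.sum_pair hne,
      show ((oneChar : IrrCharacter G) : G → ℂ) v = 1 by simp [oneChar],
      show ((oneChar : IrrCharacter G) : G → ℂ) 1 = 1 by simp [oneChar]] at hsq
    have h0 : ((7 : ℕ) : ℂ) * (k : ℂ) * (Nat.card {x : G // IsConj v x} : ℂ) ^ 2 ≠ 0 :=
      mul_ne_zero (mul_ne_zero (by norm_num) (Nat.cast_ne_zero.2 hk0))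
        (pow_ne_zero 2 (Nat.cast_ne_zero.2 (card_conjClass_ne_zero v)))
    have h1 := (mul_eq_zero.1 hsq.symm).resolve_left h0
    push_cast at h1
    linear_combination h1
  -- the values at the involution
  obtain ⟨P, g, z, C, T⟩ := Ten.exists_tcol hG
  have ht2 : (g ^ 5) ^ 2 = 1 := by rw [← pow_mul, show 5 * 2 = orderOf g from T.ord.symm, pow_orderOf_eq_one]
  have htreg : ¬ 7 ∣ orderOf (g ^ 5) := fun hd => by
    have := Nat.le_of_dvd (by norm_num) (hd.trans (orderOf_dvd_of_pow_eq_one ht2))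
    omega
  have hzlin : δ * z θ₁ = 1 + a c₁ * z c₁ + a c₂ * z c₂ := by
    have h1 := Eleven.rel_erase h h1X hone hθ₁ htreg
    rw [hpair, Finset.sum_pair hne] at h1
    simp only [T.val] at h1
    have h2 : ((δ * z θ₁ : ℤ) : ℂ) = ((1 + a c₁ * z c₁ + a c₂ * z c₂ : ℤ) : ℂ) := by
      push_cast; linear_combination h1
    exact_mod_cast h2
  have hz12 : z θ₂ = z θ₁ := by
    have h1 := h.regY θ₂ hθ₂ θ₁ hθ₁ (g ^ 5) htreg
    simp only [T.val] at h1
    exact_mod_cast h1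
  have hone1 : oneChar ≠ c₁ := fun e' => (Finset.mem_erase.1 hm₁).1 e'.symm
  have hone2 : oneChar ≠ c₂ := fun e' => (Finset.mem_erase.1 hm₂).1 e'.symm
  have hxy : ∀ χ ∈ X, ∀ θ ∈ Y, χ ≠ θ := fun χ hχ θ hθ e' => Finset.disjoint_left.1 h.disj hχ (e' ▸ hθ)
  have hX1 := (Finset.mem_erase.1 hm₁).2
  have hX2 := (Finset.mem_erase.1 hm₂).2
  have hnd : [oneChar, c₁, c₂, θ₁, θ₂].Nodup := by
    simp only [List.nodup_cons, List.mem_cons, List.not_mem_nil, or_false, not_or, List.nodup_nil, and_true,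
      not_false_eq_true]
    exact ⟨⟨hone1, hone2, hxy _ h1X _ hθ₁, hxy _ h1X _ hθ₂⟩, ⟨hne, hxy _ hX1 _ hθ₁, hxy _ hX1 _ hθ₂⟩,
      ⟨hxy _ hX2 _ hθ₁, hxy _ hX2 _ hθ₂⟩, Ne.symm hne'⟩
  have hsqle : 1 + z c₁ * z c₁ + z c₂ * z c₂ + 2 * (z θ₁ * z θ₁) ≤ (C : ℤ) := by
    have h1 := Finset.sum_le_sum_of_subset_of_nonneg (Finset.subset_univ [oneChar, c₁, c₂, θ₁, θ₂].toFinset)
      (f := fun χ => z χ * z χ) fun i _ _ => mul_self_nonneg _
    rw [T.square, List.sum_toFinset _ hnd] at h1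
    simp only [List.map_cons, List.map_nil, List.sum_cons, List.sum_nil, T.z_one, hz12] at h1
    linarith
  have hpos : ∀ χ : IrrCharacter G, 0 < charDegree (χ : G → ℂ) := fun χ => by
    rw [charDegree_eq_deg]; exact deg_pos χ.2
  have hsgA : ∀ χ ∈ X, FiveRow.sg (A χ) = a χ ∧ (A χ).natAbs = charDegree (χ : G → ℂ) := fun χ hχ => by
    have := hpos χ
    simp only [hA, FiveRow.sg]
    rcases h.a_sign χ hχ with e' | e' <;> rw [e'] <;> refine ⟨?_, ?_⟩ <;> (try split) <;> omega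
  have hr' : δ * (charDegree (θ₁ : G → ℂ) : ℤ) = 1 + A c₁ + A c₂ := by
    have h1 := Eleven.rel_one h h1X hone hθ₁
    rw [hpair, Finset.sum_pair hne, ← add_assoc] at h1
    exact h1
  have hsgY : FiveRow.sg (1 + A c₁ + A c₂) = δ ∧ (1 + A c₁ + A c₂).natAbs = charDegree (θ₁ : G → ℂ) := by
    have := hpos θ₁
    rw [← hr']
    simp only [FiveRow.sg]
    rcases h.sign with e' | e' <;> rw [e'] <;> refine ⟨?_, ?_⟩ <;> (try split) <;> omega
  obtain ⟨hs1, hd1⟩ := hsgA c₁ hX1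
  obtain ⟨hs2, hd2⟩ := hsgA c₂ hX2
  have hzy : zExc (A c₁) (A c₂) (z c₁) (z c₂) = z θ₁ := by
    rw [zExc, hsgY.1, hs1, hs2, ← hzlin, ← mul_assoc]
    rcases h.sign with e' | e' <;> rw [e'] <;> ring
  have hnum : num (A c₁) (A c₂) (z c₁) (z c₂) = 0 := by
    have h1 := hsum (g ^ 5) ht2
    simp only [T.val, val_one, Int.cast_natCast] at h1
    have e1 : (charDegree (c₁ : G → ℂ) : ℂ) ≠ 0 := Nat.cast_ne_zero.2 (hpos c₁).ne'
    have e2 : (charDegree (c₂ : G → ℂ) : ℂ) ≠ 0 := Nat.cast_ne_zero.2 (hpos c₂).ne'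
    have e3 : (charDegree (θ₁ : G → ℂ) : ℂ) ≠ 0 := Nat.cast_ne_zero.2 (hpos θ₁).ne'
    field_simp at h1
    have h2 : ((num (A c₁) (A c₂) (z c₁) (z c₂) : ℤ) : ℂ) = ((0 : ℤ) : ℂ) := by
      rw [num, hzy, hsgY.1, hsgY.2, hs1, hs2, hd1, hd2]
      push_cast
      linear_combination h1
    exact_mod_cast h2
  have hzz : ∀ χ, z χ * z χ ≤ (C : ℤ) := fun χ => by
    rw [← T.square]
    exact Finset.single_le_sum (f := fun χ => z χ * z χ) (fun i _ => mul_self_nonneg _) (Finset.mem_univ χ)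
  have hsrch : srch C (A c₁, A c₂) = true := by
    simp only [srch, List.any_eq_true, Bool.and_eq_true, decide_eq_true_eq, hd1, hd2, hsgY.2]
    exact ⟨z c₁, mem_zlist (zok_of_col T c₁ (hzz _)), z c₂, mem_zlist (zok_of_col T c₂ (hzz _)),
      ⟨by rw [hzy]; exact zok_of_col T θ₁ (hzz _), by rw [hzy]; exact hsqle⟩, hnum⟩
  have hval := value_table _ hrow' C (FiveRow.mem_cents T.dvd T.ten_dvd T.le) hsrch
  obtain ⟨hA1, hA2⟩ := Prod.mk.injEq _ _ _ _ ▸ hval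
  have ha1 : a c₁ = -1 := by rw [← hs1, hA1]; rfl
  have ha2 : a c₂ = 1 := by rw [← hs2, hA2]; rfl
  have hδ : δ = 1 := by rw [← hsgY.1, hA1, hA2]; rfl
  have hg1 : charDegree (c₁ : G → ℂ) = 1035 := by rw [← hd1, hA1]; rfl
  have hg2 : charDegree (c₂ : G → ℂ) = 2024 := by rw [← hd2, hA2]; rfl
  have hg3 : charDegree (θ₁ : G → ℂ) = 990 := by rw [← hsgY.2, hA1, hA2]; rfl
  have hg4 : charDegree (θ₂ : G → ℂ) = 990 := by
    have h1 := h.regY θ₂ hθ₂ θ₁ hθ₁ 1 (by simp)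
    simp only [val_one, Int.cast_natCast, Nat.cast_inj] at h1
    rw [h1, hg3]
  refine ⟨Q, 3, k, hQ, he, hC, Or.inl ⟨rfl, hkl, M, c₁, c₂, θ₁, θ₂, ?_⟩⟩
  refine ⟨hQ, hC, he, hM, ⟨a, δ, hX ▸ hY ▸ h⟩, hnd, fun χ => ?_, hg1, hg2, hg3, hg4, fun x hx => ?_, fun x hx => ?_,
    fun x hx => ?_, fun x hx => h.regY θ₂ hθ₂ θ₁ hθ₁ x hx, fun x hx => ?_, hinv, fun v hv => ?_⟩
  · rw [h.mem_iff, hX, hY]
    simp only [Finset.mem_insert, Finset.mem_singleton, or_assoc]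
  · rw [h.a_val c₁ hX1 x hx, ha1]; norm_num
  · rw [h.a_val c₂ hX2 x hx, ha2]; norm_num
  · have h1 := Solv.BReyn.sum_exc hM hQ h ⟨θ₁, hθ₁⟩ hx
    rw [hY, Finset.sum_pair (Ne.symm hne'), hδ] at h1
    rw [h1]; norm_num
  · have h1 := Eleven.rel_erase h h1X hone hθ₁ hx
    rw [hpair, Finset.sum_pair hne, hδ, ha1, ha2] at h1
    push_cast at h1
    linear_combination h1
  · have h1 := hsum v hv
    rw [ha1, ha2, hδ] at h1
    simp only [val_one, hg1, hg2, hg3] at h1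
    push_cast at h1
    linear_combination h1

end SevenRow

end Cfsg.Agent.MTwentyFour.ByOrder
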