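import Cfsg.Agent.Lib.Spor.MTwentyFourOrder.SylowElevenInvol

/-!
The member of the principal block at eleven in the principal block at five, for an automiser of order ten.
-/

set_option autoImplicit false
set_option linter.unusedSectionVars false
set_option maxRecDepth 100000
set_option maxHeartbeats 1000000

namespace Cfsg.Agent.MTwentyFour.ByOrder.Eleven

open Cfsg Cfsg.Agent.Char Cfsg.Agent.Small.Order459648 Cfsg.Agent.Char.PrimeSylowCount
open Cfsg.Agent.MTwentyFour.ByOrder (na)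
open scoped ComplexConjugate Classical

universe u

/-- the divisors of the index of a Sylow subgroup of order five -/
def divsFive : List ℕ :=
  (List.range 11).flatMap fun a => (List.range 4).flatMap fun b => (List.range 2).flatMap fun c =>
    (List.range 2).flatMap fun d => (List.range 2).map fun e => 2 ^ a * 3 ^ b * 7 ^ c * 11 ^ d * 23 ^ e

theorem mem_divsFive {n : ℕ} (h : n ∣ 48964608) : n ∈ divsFive := by
  rw [show (48964608 : ℕ) = 2 ^ 10 * 3 ^ 3 * 7 ^ 1 * 11 ^ 1 * 23 ^ 1 by norm_num] at h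
  obtain ⟨x, e', hx, he, rfl⟩ := Nat.dvd_mul.1 h
  obtain ⟨y, d', hy, hd, rfl⟩ := Nat.dvd_mul.1 hx
  obtain ⟨z, c', hz, hc, rfl⟩ := Nat.dvd_mul.1 hy
  obtain ⟨a', b', ha, hb, rfl⟩ := Nat.dvd_mul.1 hz
  obtain ⟨a, ha1, rfl⟩ := (Nat.dvd_prime_pow (by norm_num)).1 ha
  obtain ⟨b, hb1, rfl⟩ := (Nat.dvd_prime_pow (by norm_num)).1 hb
  obtain ⟨c, hc1, rfl⟩ := (Nat.dvd_prime_pow (by norm_num)).1 hc
  obtain ⟨d, hd1, rfl⟩ := (Nat.dvd_prime_pow (by norm_num)).1 hd
  obtain ⟨e, he1, rfl⟩ := (Nat.dvd_prime_pow (by norm_num)).1 he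
  simp only [divsFive, List.mem_flatMap, List.mem_map, List.mem_range]
  exact ⟨a, by omega, b, by omega, c, by omega, d, by omega, e, by omega, rfl⟩

/-- the possible degrees of the non-trivial characters of the principal block of five -/
def degsFive (k : ℕ) : List ℕ :=
  divsFive.filter fun d =>
    decide (2 ≤ d) && decide (d ≤ off) && (48964608 / k % d == 0) && res.contains (d % 23)

theorem mem_degsFive {k d : ℕ} (hd : d ∣ 48964608 / k) (hM : d ∣ 48964608) (h2 : 2 ≤ d) (hle : d ≤ off)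
    (h23 : d % 23 ∈ res) : d ∈ degsFive k :=
  List.mem_filter.2 ⟨mem_divsFive hM, by simp [h2, hle, Nat.mod_eq_zero_of_dvd hd, h23]⟩

theorem five_table : ∀ k ∈ divsFive, k % 11 ≠ 0 → k % 23 ≠ 0 → 48964608 % (2 * k) = 0 →
    48964608 / (2 * k) % 5 = 1 → ∀ y ∈ sdeg 5 (degsFive k) 2,
      linOk (sdeg 5 (degsFive k) 1) 1 (y - 1) = true → y = 12 ∨ y = -23 := by
  decide +kernel

variable {G : Type u} [Group G] [Fintype G] [IsSimpleGroup G]

local instance fact_elevenMemberFive : Fact (Nat.Prime 11) := ⟨by norm_num⟩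
local instance fact_fiveMemberFive : Fact (Nat.Prime 5) := ⟨by norm_num⟩

variable {P : Sylow 11 G} {M : Ideal AlgInt} {X Y : Finset (IrrCharacter G)}
  {a : IrrCharacter G → ℤ} {δ : ℤ}

/-- A member of the block at eleven has signed degree four modulo five and value congruent to the degree modulo
ten, at an involution of the centraliser commuting with an element of order five. -/
theorem member_five (D : Ctx P 10 12 M X Y a δ) {θ : IrrCharacter G} (hθ : θ ∈ Y) {v f : G}
    (hvC : v ∈ Subgroup.centralizer ((P : Subgroup G) : Set G)) (hv : orderOf v = 2) (hf : orderOf f = 5)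
    (hfv : f * v = v * f) :
    (∃ χ ∈ X.erase oneChar, (a χ * (charDegree (χ : G → ℂ) : ℤ)) % 5 = 4 ∧
      ∀ z : ℤ, (χ : G → ℂ) v = z → (10 : ℤ) ∣ (charDegree (χ : G → ℂ) : ℤ) - z) ∨
    ((-(δ * (charDegree (θ : G → ℂ) : ℤ))) % 5 = 4 ∧
      ∀ z : ℤ, (θ : G → ℂ) v = z → (10 : ℤ) ∣ (charDegree (θ : G → ℂ) : ℤ) - z) := by
  obtain ⟨Q, n, e, k, hQ, -, hk, hnek, hn1, -, he4, he1, he⟩ :=
    data (G := G) (p := 5) (m := 48964608) (by rw [D.order]) (by norm_num) (by norm_num)
  have hCQ : Nat.card (Subgroup.centralizer ((Q : Subgroup G) : Set G)) = 5 * k := hk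
  have hk0 : k ≠ 0 := by rintro rfl; simp at hnek
  -- conjugate the element of order five into the Sylow subgroup
  obtain ⟨Q', hQ'⟩ := (IsPGroup.of_card (p := 5) (n := 1)
    (by rw [Nat.card_zpowers, hf, pow_one] : Nat.card (Subgroup.zpowers f) = 5 ^ 1)).exists_le_sylow
  obtain ⟨g, hg⟩ := MulAction.exists_smul_eq G Q' Q
  set w := g * f * g⁻¹
  have hwQ : w ∈ (Q : Subgroup G) := by
    rw [← hg]
    exact ⟨f, hQ' (Subgroup.mem_zpowers _), rfl⟩
  have hw : orderOf w = 5 := by
    rw [show w = MulAut.conj g f from rfl, MulEquiv.orderOf_eq, hf]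
  have hw1 : w ≠ 1 := fun h => by rw [h, orderOf_one] at hw; norm_num at hw
  set v' := g * v * g⁻¹
  have hv' : orderOf v' = 2 := by rw [show v' = MulAut.conj g v from rfl, MulEquiv.orderOf_eq, hv]
  have hvw : v' * w = w * v' := by
    simp only [v', w]
    calc g * v * g⁻¹ * (g * f * g⁻¹) = g * (v * f) * g⁻¹ := by group
      _ = g * (f * v) * g⁻¹ := by rw [hfv]
      _ = g * f * g⁻¹ * (g * v * g⁻¹) := by group
  have hval' : ∀ χ : IrrCharacter G, (χ : G → ℂ) v' = (χ : G → ℂ) v := fun χ =>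
    (isClassFunction_character (irr_isCharacter χ.2)) _ _
  have hno : ∀ x : G, ¬ 5 * 11 ∣ orderOf x := fun x hx => by
    have := Sections.dvd_of_mixed D.card D.cent (q := 5) (by norm_num) (by norm_num) (g := x)
      (by rw [Nat.mul_comm]; exact hx)
    norm_num at this
  obtain ⟨M', hM'⟩ := exists_pModular (show Nat.Prime 5 by norm_num)
  have hel : e = 2 ∨ e = 4 := by
    have : e ≤ 4 := Nat.le_of_dvd (by norm_num) he4
    interval_cases e <;> simp_all
  obtain ⟨t, ht, het⟩ : ∃ t, 0 < t ∧ e * t + 1 = 5 := by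
    rcases hel with rfl | rfl
    exacts [⟨2, by norm_num⟩, ⟨1, by norm_num⟩]
  obtain ⟨X', Y', a', δ', h', h1X', hone', hYc'⟩ :=
    Solv.BReyn.exists_principal_one_mem hM' hQ he (by omega) ht het
  have hf' : FrobSylow Q e := he ▸ frobSylow_of_prime hQ
  change (oneChar : IrrCharacter G) ∈ X' at h1X'
  change a' (oneChar : IrrCharacter G) = 1 at hone'
  obtain ⟨θ₅, hθ₅⟩ : Y'.Nonempty := Finset.card_pos.1 (by omega)
  have hne' : ∀ θ' ∈ Y', θ' ≠ oneChar := fun θ' hθ' e1 =>
    Finset.disjoint_left.1 h'.disj h1X' (e1 ▸ hθ')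
  have hten : ∀ χ : IrrCharacter G, χ ∈ principalBlock M' G → ∀ z : ℤ, (χ : G → ℂ) v = z →
      (10 : ℤ) ∣ (charDegree (χ : G → ℂ) : ℤ) - z := fun χ hb z hz =>
    Sections.invol_congr hM' hf' hQ hb hwQ hw1 (by norm_num) hv' hvw (by rw [hval', hz])
  have hrel := Sections.avg_relation hM' hf' hwQ hw1
    (Sections.regular_of_no_mixed hQ hwQ hw1 (by norm_num) (by norm_num) hno)
    (fun g hg => D.pp.rel θ hθ g hg)
  rw [← Finset.add_sum_erase X _ D.one_mem, D.one_sign,
    if_pos (show (oneChar : IrrCharacter G) ∈ principalBlock M' G from one_mem_principal hM')] at hrel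
  have hwn : (⟨w, hwQ⟩ : ↥(Q : Subgroup G)) ∈ nonOne Q := mem_nonOne.2 hw1
  rcases hel with rfl | rfl
  · -- the degrees eleven, twelve, twenty-three and twenty-four
    exfalso
    obtain ⟨χm, hχmne, hχm11, hχm5⟩ : ∃ χ, χ ≠ oneChar ∧ (χ ∈ X ∨ χ ∈ Y) ∧ (χ ∈ X' ∨ χ ∈ Y') := by
      by_contra hall
      push Not at hall
      have hz0 : ∀ χ, χ ≠ oneChar → (χ ∈ X ∨ χ ∈ Y) →
          (if χ ∈ principalBlock M' G then (χ : G → ℂ) w else 0) = 0 := fun χ h1 h2 => by
        rw [if_neg fun hb => ?_]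
        exact ((h'.mem_iff χ).1 hb).elim (hall χ h1 h2).1 (hall χ h1 h2).2
      rw [hz0 θ (D.exc_ne hθ) (Or.inr hθ),
        Finset.sum_eq_zero fun χ hχ => by
          rw [hz0 χ (Finset.mem_erase.1 hχ).1 (Or.inl (Finset.mem_erase.1 hχ).2), mul_zero]] at hrel
      simp [oneChar] at hrel
    have h23k : ¬ 23 ∣ k := fun h => by
      haveI : Fact (Nat.Prime 23) := ⟨by norm_num⟩
      obtain ⟨R', hR', hRC, -⟩ := exists_twentythree D.order
      have h2 := cross Q R' hQ hR' (hk ▸ Dvd.dvd.mul_left h 5)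
      rw [show centCard 23 R' = 23 from hRC] at h2
      norm_num at h2
    have h11k : ¬ 11 ∣ k := fun h => by
      obtain ⟨x, hx⟩ := exists_prime_orderOf_dvd_card'
        (G := Subgroup.centralizer ((Q : Subgroup G) : Set G)) 11 (hCQ ▸ dvd_mul_of_dvd_right h 5)
      have hc : Commute w (x : G) := Subgroup.mem_centralizer_iff.1 x.2 _ hwQ
      refine hno (w * (x : G)) ?_
      rw [hc.orderOf_mul_eq_mul_orderOf_of_coprime (by rw [hw, Subgroup.orderOf_coe, hx]; norm_num), hw,
        Subgroup.orderOf_coe, hx]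
    have hkM : k ∣ 48964608 := ⟨n * 2, by linarith⟩
    have hG' : Nat.card G = 5 * 48964608 := by rw [D.order]
    have hdeg : ∀ χ : IrrCharacter G, χ ≠ oneChar → charDegree (χ : G → ℂ) ∣ 48964608 / k →
        charDegree (χ : G → ℂ) ∈ degsFive k := fun χ hne hd =>
      mem_degsFive hd (hd.trans (Nat.div_dvd_of_dvd hkM)) (deg_range D.order hne).1 (deg_range D.order hne).2
        (deg_res D.order χ)
    have hlin := fun (θ' : IrrCharacter G) (hθ' : θ' ∈ Y') => lin_test h' h1X' hone' (l := degsFive k)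
      (fun d hd => by
        have := (List.mem_filter.1 hd).2
        simp at this
        omega)
      (fun χ hχ => hdeg χ (Finset.mem_erase.1 hχ).1 (dvd_X hQ h' hG' hCQ hwn (Finset.mem_erase.1 hχ).2)) hθ'
    have hyv : ∀ θ' ∈ Y', δ' * (charDegree (θ' : G → ℂ) : ℤ) = 12 ∨ δ' * (charDegree (θ' : G → ℂ) : ℤ) = -23 :=
      fun θ' hθ' => five_table k (mem_divsFive hkM) (fun h => h11k (Nat.dvd_of_mod_eq_zero h))
        (fun h => h23k (Nat.dvd_of_mod_eq_zero h)) (by rw [← hnek, mul_assoc, Nat.mul_mod_left])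
        (by rw [← hnek, mul_assoc, Nat.mul_div_cancel _ (by omega)]; exact hn1) _
        (mem_sdeg (hdeg θ' (hne' θ' hθ') (dvd_Y hQ hM' h' hG' hCQ hwn hθ')) h'.sign (congr_Y h' hθ')) (hlin θ' hθ')
    have hd4 : charDegree (χm : G → ℂ) ∈ [11, 12, 23, 24] := by
      rcases hχm5 with hX | hY
      · have hr := rel_one h' h1X' hone' hθ₅
        have hc : (X'.erase oneChar).card = 1 := by rw [Finset.card_erase_of_mem h1X', h'.cardX]
        obtain ⟨c, hc'⟩ := Finset.card_eq_one.1 hc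
        have hm : χm ∈ X'.erase oneChar := Finset.mem_erase.2 ⟨hχmne, hX⟩
        rw [hc', Finset.mem_singleton] at hm
        subst hm
        rw [hc', Finset.sum_singleton] at hr
        have := hyv θ₅ hθ₅
        rcases h'.a_sign χm hX with e' | e' <;> rw [e'] at hr <;> simp <;> omega
      · have := hyv χm hY
        rcases h'.sign with e' | e' <;> rw [e'] at this <;> simp <;> omega
    obtain ⟨z, hz, hlt, h44, -⟩ := value_facts D hvC hv hf hfv hχmne hχm11
    have h10 := hten χm ((h'.mem_iff χm).2 hχm5) z hz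
    have hres : charDegree (χm : G → ℂ) % 11 = 1 ∨ charDegree (χm : G → ℂ) % 11 = 10 := by
      rcases hχm11 with h | h
      · have h2 := (D.pp.a_congr χm h).eq
        rcases D.pp.a_sign χm h with e' | e' <;> rw [e'] at h2 <;> omega
      · have h2 := (D.pp.congrY χm h).eq
        rcases D.pp.sign with e' | e' <;> rw [e'] at h2 <;> omega
    simp only [List.mem_cons, List.not_mem_nil, or_false] at hd4
    omega
  · -- all values at the element of order five are signs
    have hY1 : Y' = {θ₅} := by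
      obtain ⟨c, hc⟩ := Finset.card_eq_one.1 (show Y'.card = 1 by omega)
      rw [hc, Finset.mem_singleton] at hθ₅
      rw [hc, hθ₅]
    have hθw : (θ₅ : G → ℂ) w = -(δ' : ℂ) := by
      simpa [hY1] using Solv.BReyn.sum_exc hM' hQ h' ⟨θ₅, hθ₅⟩ hwn
    have hex : ∀ χ : IrrCharacter G, ∃ ε : ℤ, (if χ ∈ principalBlock M' G then (χ : G → ℂ) w else 0) = ε ∧
        (ε = 0 ∨ ((ε = 1 ∨ ε = -1) ∧ χ ∈ principalBlock M' G ∧
          (ε * (charDegree (χ : G → ℂ) : ℤ) - 1) % 5 = 0)) := fun χ => by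
      by_cases hb : χ ∈ principalBlock M' G
      · rcases (h'.mem_iff χ).1 hb with hX | hY
        · exact ⟨a' χ, by rw [if_pos hb, h'.a_val χ hX ⟨w, hwQ⟩ hwn],
            Or.inr ⟨h'.a_sign χ hX, hb, congr_X h' hX⟩⟩
        · have hc := congr_Y h' hY
          have hχ5 : χ = θ₅ := by rwa [hY1, Finset.mem_singleton] at hY
          refine ⟨-δ', ?_, Or.inr ⟨by rcases h'.sign with e' | e' <;> simp [e'], hb, ?_⟩⟩
          · rw [if_pos hb, hχ5, hθw]
            push_cast
            ring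
          · rw [neg_mul]
            push_cast at hc
            omega
      · exact ⟨0, by rw [if_neg hb]; simp, Or.inl rfl⟩
    choose ε hε hε' using hex
    by_contra hall
    push Not at hall
    obtain ⟨hnX, hnθ⟩ := hall
    have hpos : ∀ (χ : IrrCharacter G) (b : ℤ), (b = 1 ∨ b = -1) →
        ((b * (charDegree (χ : G → ℂ) : ℤ)) % 5 = 4 →
          ∃ z : ℤ, (χ : G → ℂ) v = z ∧ ¬ (10 : ℤ) ∣ (charDegree (χ : G → ℂ) : ℤ) - z) → 0 ≤ b * ε χ := by
      intro χ b hb hn
      by_contra hlt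
      rcases hε' χ with h0 | ⟨hs, hblk, hc⟩
      · rw [h0] at hlt
        omega
      · have hneg : ε χ = -b := by
          rcases hb with rfl | rfl <;> rcases hs with e' | e' <;> rw [e'] at hlt ⊢ <;> omega
        rw [hneg, neg_mul] at hc
        obtain ⟨z, hz, hnd⟩ := hn (by omega)
        exact hnd (hten χ hblk z hz)
    have hθ0 : 0 ≤ (-δ) * ε θ := hpos θ (-δ) (by rcases D.pp.sign with e' | e' <;> simp [e'])
      (fun h => hnθ (by rw [← neg_mul]; exact h))
    have hX0 : 0 ≤ ∑ χ ∈ X.erase oneChar, a χ * ε χ := Finset.sum_nonneg fun χ hχ =>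
      hpos χ (a χ) (D.pp.a_sign χ (Finset.mem_erase.1 hχ).2) (hnX χ hχ)
    rw [hε θ, Finset.sum_congr rfl (g := fun χ => ((a χ * ε χ : ℤ) : ℂ)) (fun χ _ => by rw [hε χ]; push_cast; ring),
      ← Int.cast_sum] at hrel
    have hint : δ * ε θ = 1 + ∑ χ ∈ X.erase oneChar, a χ * ε χ := by
      apply (Int.cast_injective (α := ℂ))
      push_cast at hrel ⊢
      simpa [oneChar] using hrel
    linarith

end Cfsg.Agent.MTwentyFour.ByOrder.Eleven
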