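import Cfsg.Agent.Lib.Spor.MTwentyFourOrder.SylowElevenTenArith

/-!
The searches over the block of seven.
-/

set_option autoImplicit false
set_option maxRecDepth 100000
set_option maxHeartbeats 2000000

namespace Cfsg.Agent.MTwentyFour.ByOrder.Eleven

theorem kill_small : ∀ c ∈ budgets, ∀ p ∈ sevenPairs.filter (fun p => p.1 != 6),
    killX (244823040 / c.1) c.2.1 c.2.2 p.1 p.2 = true ∧ killY (244823040 / c.1) c.2.1 c.2.2 p.1 p.2 = true := by
  decide +kernel

theorem kill_six_low : ∀ p ∈ sevenPairs.filter (fun p => p.1 == 6),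
    killSix (244823040 / 295680) 172543 415 p.2 = true := by
  decide +kernel

theorem kill_six_high : ∀ p ∈ sevenPairs.filter (fun p => p.1 == 6),
    killSix (244823040 / 887040) 763903 874 p.2 = true := by
  decide +kernel

theorem kill_six : ∀ c ∈ budgets, ∀ p ∈ sevenPairs, p.1 = 6 →
    killSix (244823040 / c.1) c.2.1 c.2.2 p.2 = true := by
  intro c hc p hp h6
  have hp' : p ∈ sevenPairs.filter (fun p => p.1 == 6) := List.mem_filter.2 ⟨hp, by simp [h6]⟩
  simp only [budgets, List.mem_cons, List.not_mem_nil, or_false] at hc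
  rcases hc with rfl | rfl
  exacts [kill_six_low p hp', kill_six_high p hp']

theorem kill_seven : ∀ c ∈ budgets, ∀ p ∈ sevenPairs, p.1 ≠ 6 →
    killX (244823040 / c.1) c.2.1 c.2.2 p.1 p.2 = true ∧ killY (244823040 / c.1) c.2.1 c.2.2 p.1 p.2 = true :=
  fun c hc p hp h6 => kill_small c hc p (List.mem_filter.2 ⟨hp, by simp [h6]⟩)

end Cfsg.Agent.MTwentyFour.ByOrder.Eleven
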