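import Cfsg.Agent.Lib.Spor.MTwentyFourOrder.SylowElevenFive
import Cfsg.Agent.Lib.Spor.MTwentyFourOrder.SylowElevenTenRun
import Cfsg.Agent.Lib.Spor.MTwentyFourOrder.SylowElevenMemberFive
import Cfsg.Agent.Lib.Fusion.PGroupAux

/-!
An automiser of order ten forces a self-centralising Sylow subgroup of order eleven.
-/

set_option autoImplicit false
set_option linter.unusedSectionVars false
set_option linter.style.haveILetI false
set_option maxHeartbeats 2000000

namespace Cfsg.Agent.MTwentyFour.ByOrder.Eleven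

open Cfsg Cfsg.Agent.Char Cfsg.Agent.Small.Order459648 Cfsg.Agent.Char.PrimeSylowCount
open Cfsg.Agent.MTwelve.OrderFront (val_one mult_nat)
open Cfsg.Agent.MTwentyFour.ByOrder (na)
open scoped ComplexConjugate Classical Pointwise

universe u

/-- A permutation of order dividing five of at most four points is trivial. -/
theorem perm_five {α : Type*} [Fintype α] (σ : Equiv.Perm α) (h : σ ^ 5 = 1) (hc : Fintype.card α ≤ 4) :
    σ = 1 := by
  classical
  rw [← orderOf_eq_one_iff]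
  have h5 : orderOf σ ∣ 5 := orderOf_dvd_of_pow_eq_one h
  have hf : orderOf σ ∣ Nat.factorial (Fintype.card α) := Fintype.card_perm (α := α) ▸ orderOf_dvd_card
  refine Nat.eq_one_of_dvd_coprimes (?_ : Nat.Coprime 5 (Nat.factorial (Fintype.card α))) h5 hf
  interval_cases Fintype.card α <;> decide

/-- An automorphism of order dividing five of a group of order one hundred and thirty-two with a central subgroup of
order eleven fixes its involutions. -/
theorem aut_five {H : Type*} [Group H] [Fintype H] (hH : Nat.card H = 132) {y : H} (hy : orderOf y = 11)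
    (hc : ∀ h : H, h * y = y * h) (φ : MulAut H) (h5 : φ ^ 5 = 1) {x : H} (hx : x ^ 2 = 1) : φ x = x := by
  haveI : Fact (Nat.Prime 2) := ⟨Nat.prime_two⟩
  obtain ⟨Q, hQ⟩ := (IsPGroup.of_card (p := 2) (n := if x = 1 then 0 else 1) (by
    rw [Nat.card_zpowers]
    split
    · rename_i h; rw [h, orderOf_one, pow_zero]
    · rename_i h; rw [orderOf_eq_prime hx h, pow_one] :
      Nat.card (Subgroup.zpowers x) = 2 ^ (if x = 1 then 0 else 1))).exists_le_sylow
  have hQc : Nat.card Q = 4 := by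
    rw [Q.card_eq_multiplicity, hH, show (132 : ℕ) = 2 ^ 2 * 33 from rfl,
      Nat.factorization_mul (by norm_num) (by norm_num), Nat.factorization_pow, Finsupp.add_apply,
      Finsupp.smul_apply, Nat.prime_two.factorization_self, Nat.factorization_eq_zero_of_not_dvd (by norm_num)]
    norm_num
  have hn : Nat.card (Sylow 2 H) ≤ 4 := by
    rw [Sylow.card_eq_index_normalizer Q]
    set N := Subgroup.normalizer ((Q : Subgroup H) : Set H)
    have h4 : 4 ∣ Nat.card N := hQc ▸ Subgroup.card_dvd_of_le Subgroup.le_normalizer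
    have h11 : 11 ∣ Nat.card N := by
      rw [← hy]
      refine N.orderOf_dvd_natCard (Subgroup.mem_normalizer_iff.2 fun g => ?_)
      rw [← hc g, mul_inv_cancel_right]
    have h44 : 44 ∣ Nat.card N := Nat.Coprime.mul_dvd_of_dvd_of_dvd (by norm_num : Nat.Coprime 4 11) h4 h11
    have h := Subgroup.index_mul_card N
    rw [hH] at h
    obtain ⟨c, hc'⟩ := h44
    rw [hc'] at h
    have hc0 : 1 ≤ c := Nat.pos_of_ne_zero fun h0 => by rw [h0, mul_zero] at hc'; exact Nat.card_pos.ne' hc'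
    have hi : N.index ≤ 4 := by
      by_contra hb
      nlinarith
    exact hi
  haveI : Fintype (Sylow 2 H) := Fintype.ofFinite _
  haveI : Fintype (Q : Subgroup H) := Fintype.ofFinite _
  have hσ : MulAction.toPermHom (MulAut H) (Sylow 2 H) φ = 1 :=
    perm_five _ (by rw [← map_pow, h5, map_one]) (by rwa [← Nat.card_eq_fintype_card])
  have hfix : φ • Q = Q := congrArg (fun σ : Equiv.Perm (Sylow 2 H) => σ Q) hσ
  have hmem : ∀ h : H, h ∈ (Q : Subgroup H) ↔ φ h ∈ (Q : Subgroup H) := fun h => by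
    conv_rhs => rw [← hfix, show ((φ • Q : Sylow 2 H) : Subgroup H) = φ • (Q : Subgroup H) from rfl,
      show φ h = φ • h from rfl, Subgroup.smul_mem_pointwise_smul_iff]
  have hτ : (Equiv.Perm.subtypePerm (MulEquiv.toEquiv φ : Equiv.Perm H) fun h => (hmem h).symm :
      Equiv.Perm {h // h ∈ (Q : Subgroup H)}) = 1 := by
    refine perm_five _ (Equiv.ext fun q => ?_) (by rw [← Nat.card_eq_fintype_card]; exact hQc.le)
    rw [Equiv.Perm.subtypePerm_pow]
    apply Subtype.ext
    have h' := DFunLike.congr_fun h5 (q : H)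
    simpa [pow_succ, pow_zero, Equiv.Perm.mul_apply, MulAut.mul_apply] using h'
  simpa using congrArg (fun σ => ((σ ⟨x, hQ (Subgroup.mem_zpowers x)⟩ : {h // h ∈ (Q : Subgroup H)}) : H)) hτ

variable {G : Type u} [Group G] [Fintype G] [IsSimpleGroup G]

local instance fact_elevenTen : Fact (Nat.Prime 11) := ⟨by norm_num⟩
local instance fact_twoTen : Fact (Nat.Prime 2) := ⟨Nat.prime_two⟩
local instance fact_fiveTen : Fact (Nat.Prime 5) := ⟨by norm_num⟩
local instance fact_sevenTen : Fact (Nat.Prime 7) := ⟨by norm_num⟩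

variable {P : Sylow 11 G} {M : Ideal AlgInt} {X Y : Finset (IrrCharacter G)}
  {a : IrrCharacter G → ℤ} {δ : ℤ}

/-- An involution of the centraliser, central in a Sylow two-subgroup of the normaliser and commuting with an
element of order five. -/
theorem exists_invol_ten (D : Ctx P 10 12 M X Y a δ) :
    ∃ v f : G, v ∈ Subgroup.centralizer ((P : Subgroup G) : Set G) ∧ orderOf v = 2 ∧ orderOf f = 5 ∧
      f * v = v * f ∧ ∃ r f', r ∈ [440, 1320] ∧ r * f' = Nat.card (Subgroup.centralizer ({v} : Set G)) ∧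
        f' % 11 = 1 := by
  set N := Subgroup.normalizer ((P : Subgroup G) : Set G)
  set CP := Subgroup.centralizer ((P : Subgroup G) : Set G)
  have hN : Nat.card N = 1320 := by rw [← D.frob.card_centralizer_inf, D.cent]
  haveI : (CP.subgroupOf N).Normal := Subgroup.normal_subgroupOf_centralizer_normalizer _
  obtain ⟨S⟩ := (Sylow.nonempty : Nonempty (Sylow 2 N))
  have hS : Nat.card S = 8 := by
    rw [S.card_eq_multiplicity, hN, show (1320 : ℕ) = 2 ^ 3 * 165 from rfl,
      Nat.factorization_mul (by norm_num) (by norm_num), Nat.factorization_pow, Finsupp.add_apply,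
      Finsupp.smul_apply, Nat.prime_two.factorization_self, Nat.factorization_eq_zero_of_not_dvd (by norm_num)]
    norm_num
  set T : Subgroup (S : Subgroup N) := (CP.subgroupOf N).subgroupOf (S : Subgroup N)
  have hT : T ≠ ⊥ := fun hbot => by
    have h1 : T.index ∣ (CP.subgroupOf N).index := Subgroup.relIndex_dvd_index_of_normal _ _
    have h2 := T.card_mul_index
    rw [hbot, Subgroup.card_bot, one_mul, hS, ← hbot] at h2
    rw [h2, show (CP.subgroupOf N).index = 10 from D.index] at h1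
    norm_num at h1
  obtain ⟨x, hxT, hx1, hxc⟩ := Fusion.exists_central_of_normal S.isPGroup' T hT
  obtain ⟨j, hj⟩ := IsPGroup.iff_orderOf.1 S.isPGroup' x
  have hj0 : j ≠ 0 := fun h => hx1 (orderOf_eq_one_iff.1 (by rw [hj, h, pow_zero]))
  set v' := x ^ (orderOf x / 2)
  have hv' : orderOf v' = 2 := orderOf_pow_orderOf_div (orderOf_pos x).ne' (hj ▸ dvd_pow_self 2 hj0)
  set v : G := ((v' : N) : G)
  have hv : orderOf v = 2 := by rw [Subgroup.orderOf_coe, Subgroup.orderOf_coe, hv']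
  have hvC : v ∈ CP := Subgroup.mem_subgroupOf.1 (Subgroup.mem_subgroupOf.1 (pow_mem hxT _))
  have hvS : ∀ s : (S : Subgroup N), ((s : N) : G) * v = v * ((s : N) : G) := fun s => by
    have h := Subgroup.mem_center_iff.1 (pow_mem hxc (orderOf x / 2)) s
    exact congrArg (fun u : (S : Subgroup N) => ((u : N) : G)) h
  obtain ⟨f', hf'⟩ := exists_prime_orderOf_dvd_card' (G := N) 5 (hN ▸ by norm_num)
  have hf : orderOf (f' : G) = 5 := by rw [Subgroup.orderOf_coe, hf']
  obtain ⟨y, hy⟩ := SmallOrderGraph.nonOne_nonempty P D.card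
  have hy1 := mem_nonOne.1 hy
  have hfix : (f' : G) * v = v * (f' : G) := by
    set H := CP.subgroupOf N
    let y' : H := ⟨⟨(y : G), Subgroup.le_normalizer y.2⟩, D.frob.le_centralizer y.2⟩
    have h := aut_five (H := H) (by rw [Solv.card_subgroupOf (Subgroup.centralizer_le_normalizer _), D.cent])
      (y := y') (by rw [← Subgroup.orderOf_coe, ← Subgroup.orderOf_coe]; exact Sections.order_eq D.card y.2 hy1)
      (fun h => Subtype.ext (Subtype.ext (Subgroup.mem_centralizer_iff.1 (Subgroup.mem_subgroupOf.1 h.2) _ y.2).symm))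
      (MulAut.conjNormal f') (by rw [← map_pow, ← hf', pow_orderOf_eq_one, map_one])
      (x := ⟨(v' : N), Subgroup.mem_subgroupOf.2 hvC⟩) (Subtype.ext (Subtype.ext (by
        have : v ^ 2 = 1 := by rw [← hv]; exact pow_orderOf_eq_one v
        simpa using this)))
    have h' := congrArg (fun u : H => ((u : N) : G)) h
    simp only [MulAut.conjNormal_apply, Subgroup.coe_mul, Subgroup.coe_inv] at h'
    exact mul_inv_eq_iff_eq_mul.1 h'
  refine ⟨v, f', hvC, hv, hf, hfix, ?_⟩
  set H := Subgroup.centralizer ({v} : Set G)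
  have hyH : (y : G) ∈ H :=
    Subgroup.mem_centralizer_singleton_iff.2 (Subgroup.mem_centralizer_iff.1 hvC _ y.2)
  have hPH : (P : Subgroup G) ≤ H := fun x hx =>
    Subgroup.mem_centralizer_singleton_iff.2 (Subgroup.mem_centralizer_iff.1 hvC x hx)
  obtain ⟨c, hc1, hc2⟩ := MTwentyThree.ByOrder.Eleven.cent_split (P := P) hPH
  refine ⟨_, c, ?_, hc1, hc2⟩
  have h1320 : Nat.card ↥(N ⊓ H) ∣ 1320 := hN ▸ Subgroup.card_dvd_of_le inf_le_left
  have h440 : 440 ∣ Nat.card ↥(N ⊓ H) := by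
    refine Nat.Coprime.mul_dvd_of_dvd_of_dvd (by norm_num : Nat.Coprime 40 11)
      (Nat.Coprime.mul_dvd_of_dvd_of_dvd (by norm_num : Nat.Coprime 8 5) ?_ ?_) ?_
    · rw [← hS, ← Subgroup.card_map_of_injective N.subtype_injective]
      refine Subgroup.card_dvd_of_le ?_
      rintro _ ⟨s, hs, rfl⟩
      exact ⟨s.2, Subgroup.mem_centralizer_singleton_iff.2 (hvS ⟨s, hs⟩)⟩
    · rw [← hf]
      exact Subgroup.orderOf_dvd_natCard _ ⟨f'.2, Subgroup.mem_centralizer_singleton_iff.2 hfix⟩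
    · rw [← Sections.order_eq D.card y.2 hy1]
      exact Subgroup.orderOf_dvd_natCard _ ⟨Subgroup.le_normalizer y.2, hyH⟩
  obtain ⟨q, hq⟩ := h440
  rw [hq] at h1320 ⊢
  have hq3 : q ∣ 3 := Nat.dvd_of_mul_dvd_mul_left (by norm_num) h1320
  rcases (Nat.dvd_prime (by norm_num)).1 hq3 with rfl | rfl <;> simp

/-- A row of the block of seven, with its common member in front, contradicts the search. -/
theorem row_false {cl B R n : ℕ} (hR : B < (R + 1) * (R + 1)) {vals ys : List ℤ} {x z : ℤ} {t : ℕ}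
    {x' z' : ℤ} {t' : ℕ} {α : Type*} (s : Multiset α) (A Z : α → ℤ) (hn : Multiset.card s = n)
    (hk : ∀ c ∈ combs vals n, (!ys.contains (-1 - x - c.sum) ||
      scanHead cl B R ((x, t) :: c.map (fun v => (v, 1)) ++ [(-1 - x - c.sum, t')])) = true)
    (hs : ∀ u ∈ s, A u ∈ vals ∧ zokSeven cl B (A u).natAbs (Z u) = true)
    (hz : zokSeven cl B x.natAbs z = true) (hm : memSeven x.natAbs z = true)
    (hx' : x' ∈ ys) (hz' : zokSeven cl B x'.natAbs z' = true)
    (hlin : x + (s.map A).sum + x' = -1) (hq : sv x z + (s.map fun u => sv (A u) (Z u)).sum + sv x' z' = -1)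
    (hw : t * (z.natAbs * z.natAbs) + (s.map fun u => (Z u).natAbs * (Z u).natAbs).sum +
      t' * (z'.natAbs * z'.natAbs) ≤ B) : False := by
  classical
  obtain ⟨c, hc, hcs⟩ := mem_combs vals (s.map A) fun v hv => by
    obtain ⟨u, hu, rfl⟩ := Multiset.mem_map.1 hv
    exact (hs u hu).1
  rw [Multiset.card_map, hn] at hc
  obtain ⟨m, hms, hmc⟩ := map_eq_list A c s hcs.symm
  subst hms
  rw [Multiset.map_coe, Multiset.sum_coe] at hlin hq hw
  rw [hmc] at hlin
  have h := hk c hc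
  have e' : -1 - x - c.sum = x' := by omega
  rw [e', List.contains_iff_mem.2 hx'] at h
  simp only [Bool.not_true, Bool.false_or] at h
  refine scanHead_sound hR (x := x) (t := t) (z := z)
    (l := m.map (fun u => ((A u, 1), Z u)) ++ [((x', t'), z')]) (by simp) ?_ hz hm ?_ ?_ ?_
  · rw [← hmc] at h
    simpa [List.map_map, Function.comp_def] using h
  · intro u hu
    rcases List.mem_append.1 hu with hu | hu
    · obtain ⟨b, hb, rfl⟩ := List.mem_map.1 hu
      exact (hs b (Multiset.mem_coe.2 hb)).2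
    · simp only [List.mem_singleton] at hu
      subst hu
      exact hz'
  · simp only [List.map_append, List.map_map, Function.comp_def, List.sum_append, List.map_cons, List.map_nil,
      List.sum_cons, List.sum_nil]
    omega
  · simp only [List.map_append, List.map_map, Function.comp_def, List.sum_append, List.map_cons, List.map_nil,
      List.sum_cons, List.sum_nil, one_mul]
    omega

/-- A row for an automiser of order six, with its common member in front, contradicts the search. -/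
theorem row_six {cl B R n : ℕ} (hR : B < (R + 1) * (R + 1)) {vals : List ℤ}
    (hp : vals.Pairwise fun a b => b.natAbs ≤ a.natAbs) {x z x' z' : ℤ} {α : Type*} (s : Multiset α) (A Z : α → ℤ)
    (hn : Multiset.card s = n)
    (hk : ∀ c ∈ findSums vals (n + 1) (-1 - x), scanHead cl B R ((x, 1) :: c.map fun v => (v, 1)) = true)
    (hs : ∀ u ∈ s, A u ∈ vals ∧ zokSeven cl B (A u).natAbs (Z u) = true)
    (hz : zokSeven cl B x.natAbs z = true) (hm : memSeven x.natAbs z = true)
    (hx' : x' ∈ vals) (hz' : zokSeven cl B x'.natAbs z' = true)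
    (hlin : x + (s.map A).sum + x' = -1) (hq : sv x z + (s.map fun u => sv (A u) (Z u)).sum + sv x' z' = -1)
    (hw : z.natAbs * z.natAbs + (s.map fun u => (Z u).natAbs * (Z u).natAbs).sum + z'.natAbs * z'.natAbs ≤ B) :
    False := by
  classical
  set q : Multiset (ℤ × ℤ) := (x', z') ::ₘ s.map fun u => (A u, Z u) with hq'
  have hmem : ∀ u ∈ q, u.1 ∈ vals ∧ zokSeven cl B u.1.natAbs u.2 = true := fun u hu => by
    rcases Multiset.mem_cons.1 hu with rfl | hu
    · exact ⟨hx', hz'⟩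
    · obtain ⟨b, hb, rfl⟩ := Multiset.mem_map.1 hu
      exact hs b hb
  have hsum : (q.map Prod.fst).sum = -1 - x := by
    simp only [hq', Multiset.map_cons, Multiset.sum_cons, Multiset.map_map, Function.comp_def]
    linarith
  obtain ⟨c, hc, hcs⟩ := mem_findSums vals (q.map Prod.fst) hp fun v hv => by
    obtain ⟨u, hu, rfl⟩ := Multiset.mem_map.1 hv
    exact (hmem u hu).1
  rw [Multiset.card_map, hsum, show Multiset.card q = n + 1 by
    rw [hq', Multiset.card_cons, Multiset.card_map, hn]] at hc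
  obtain ⟨m, hms, hmc⟩ := map_eq_list Prod.fst c q hcs.symm
  have hS : (q.map fun u => sv u.1 u.2).sum = sv x' z' + (s.map fun u => sv (A u) (Z u)).sum := by
    simp only [hq', Multiset.map_cons, Multiset.sum_cons, Multiset.map_map, Function.comp_def]
  have hW : (q.map fun u => u.2.natAbs * u.2.natAbs).sum =
      z'.natAbs * z'.natAbs + (s.map fun u => (Z u).natAbs * (Z u).natAbs).sum := by
    simp only [hq', Multiset.map_cons, Multiset.sum_cons, Multiset.map_map, Function.comp_def]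
  rw [← hms, Multiset.map_coe, Multiset.sum_coe] at hS hW
  refine scanHead_sound hR (x := x) (t := 1) (z := z) (l := m.map fun u => ((u.1, 1), u.2)) ?_ ?_ hz hm ?_ ?_ ?_
  · intro he
    have hcard := congrArg Multiset.card hms
    rw [List.map_eq_nil_iff] at he
    rw [he] at hcard
    simp [hq'] at hcard
  · have h := hk c hc
    rw [← hmc] at h
    simpa [List.map_map, Function.comp_def] using h
  · intro u hu
    obtain ⟨b, hb, rfl⟩ := List.mem_map.1 hu
    exact (hmem b (hms ▸ Multiset.mem_coe.2 hb)).2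
  · simp only [List.map_map, Function.comp_def]
    omega
  · simp only [List.map_map, Function.comp_def, one_mul]
    omega

/-- The two possible great centralisers: the block of seven has no row. -/
theorem not_great (D : Ctx P 10 12 M X Y a δ) {θ : IrrCharacter G} (hθ : θ ∈ Y) {v : G} (hv : orderOf v = 2)
    {c : ℕ × ℕ × ℕ} (hc : c ∈ budgets) (hC : Nat.card (Subgroup.centralizer ({v} : Set G)) = c.1)
    (h7 : 7 ∣ c.1) (hval : ∀ χ : IrrCharacter G, χ ≠ oneChar → (χ ∈ X ∨ χ ∈ Y) → ∃ z : ℤ, (χ : G → ℂ) v = z ∧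
      ((charDegree (χ : G → ℂ) : ℤ) - z) % 44 = 0 ∧ (5 ∣ charDegree (χ : G → ℂ) → z % 5 = 0))
    {c0 c5 : IrrCharacter G} {z0 z5 : ℤ} (hne : c0 ≠ c5) (hc0 : c0 ≠ oneChar) (hc5 : c5 ≠ oneChar)
    (hv0 : (c0 : G → ℂ) v = z0) (hv5 : (c5 : G → ℂ) v = z5) (hsq : 123136 ≤ z0 * z0 + z5 * z5)
    (hn0 : sevenOk (charDegree (c0 : G → ℂ)) z0 = false) (hn5 : sevenOk (charDegree (c5 : G → ℂ)) z5 = false) :
    False := by
  obtain ⟨hdvd, hBC, hR⟩ := budgets_spec c hc
  obtain ⟨C, B, R⟩ := c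
  dsimp only at hC h7 hdvd hBC hR
  set cl := 244823040 / C
  obtain ⟨Q, n, e, k, hQ, -, hk, hnek, hn1, -, he6, he1, he⟩ :=
    data (G := G) (p := 7) (m := 34974720) (by rw [D.order]) (by norm_num) (by norm_num)
  have hCQ : Nat.card (Subgroup.centralizer ((Q : Subgroup G) : Set G)) = 7 * k := hk
  have hk0 : k ≠ 0 := by rintro rfl; simp at hnek
  -- conjugate the involution into the centraliser of the Sylow subgroup
  obtain ⟨w₀, hw₀⟩ := exists_prime_orderOf_dvd_card' (G := Subgroup.centralizer ({v} : Set G)) 7 (hC ▸ h7)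
  obtain ⟨Q', hQ'⟩ := (IsPGroup.of_card (p := 7) (n := 1)
    (by rw [Nat.card_zpowers, Subgroup.orderOf_coe, hw₀, pow_one] :
      Nat.card (Subgroup.zpowers (w₀ : G)) = 7 ^ 1)).exists_le_sylow
  obtain ⟨g, hg⟩ := MulAction.exists_smul_eq G Q' Q
  set w := g * (w₀ : G) * g⁻¹
  have hwQ : w ∈ (Q : Subgroup G) := by
    rw [← hg]
    exact ⟨(w₀ : G), hQ' (Subgroup.mem_zpowers _), rfl⟩
  have hw : orderOf w = 7 := by
    rw [show w = MulAut.conj g (w₀ : G) from rfl, MulEquiv.orderOf_eq, Subgroup.orderOf_coe, hw₀]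
  have hw1 : w ≠ 1 := fun h => by rw [h, orderOf_one] at hw; norm_num at hw
  set v' := g * v * g⁻¹
  have hv' : orderOf v' = 2 := by rw [show v' = MulAut.conj g v from rfl, MulEquiv.orderOf_eq, hv]
  have hvw : v' * w = w * v' := by
    have := Subgroup.mem_centralizer_singleton_iff.1 w₀.2
    simp only [v', w]
    calc g * v * g⁻¹ * (g * (w₀ : G) * g⁻¹) = g * (v * (w₀ : G)) * g⁻¹ := by group
      _ = g * ((w₀ : G) * v) * g⁻¹ := by rw [this]
      _ = g * (w₀ : G) * g⁻¹ * (g * v * g⁻¹) := by group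
  have hval' : ∀ χ : IrrCharacter G, (χ : G → ℂ) v' = (χ : G → ℂ) v := fun χ => by
    exact (isClassFunction_character (irr_isCharacter χ.2)) _ _
  have h2k : 2 ∣ k := Sections.dvd_of_mixed hQ hCQ Nat.prime_two (by norm_num) (g := w * v') (by
    rw [Commute.orderOf_mul_eq_mul_orderOf_of_coprime (show Commute w v' from hvw.symm)
      (by rw [hw, hv']; norm_num), hw, hv'])
  have h11k : ¬ 11 ∣ k := fun h => by
    obtain ⟨x, hx⟩ := exists_prime_orderOf_dvd_card'
      (G := Subgroup.centralizer ((Q : Subgroup G) : Set G)) 11 (hCQ ▸ dvd_mul_of_dvd_right h 7)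
    have hc : Commute w (x : G) := Subgroup.mem_centralizer_iff.1 x.2 _ hwQ
    refine no_seventyseven D.order (w * (x : G)) ?_
    rw [hc.orderOf_mul_eq_mul_orderOf_of_coprime (by rw [hw, Subgroup.orderOf_coe, hx]; norm_num), hw,
      Subgroup.orderOf_coe, hx]
  have h23k : ¬ 23 ∣ k := fun h => by
    haveI : Fact (Nat.Prime 23) := ⟨by norm_num⟩
    obtain ⟨R', hR', hRC, -⟩ := exists_twentythree D.order
    obtain ⟨x, hx⟩ := exists_prime_orderOf_dvd_card'
      (G := Subgroup.centralizer ((Q : Subgroup G) : Set G)) 23 (hCQ ▸ dvd_mul_of_dvd_right h 7)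
    have hc : Commute w (x : G) := Subgroup.mem_centralizer_iff.1 x.2 _ hwQ
    have := Sections.dvd_of_mixed hR' (k := 1) (by rw [mul_one]; exact hRC) (q := 7) (by norm_num) (by norm_num)
      (g := w * (x : G)) (by
        rw [hc.orderOf_mul_eq_mul_orderOf_of_coprime (by rw [hw, Subgroup.orderOf_coe, hx]; norm_num), hw,
          Subgroup.orderOf_coe, hx])
    norm_num at this
  have hel : e = 2 ∨ e = 3 ∨ e = 6 := by
    have : e ≤ 6 := Nat.le_of_dvd (by norm_num) he6
    interval_cases e <;> simp_all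
  have hkM : k ∣ 34974720 := ⟨n * e, by linarith⟩
  have hek : 0 < e * k := Nat.mul_pos (by omega) (Nat.pos_of_ne_zero hk0)
  have hpair := mem_sevenPairs hel (mem_divsSeven hkM) h2k h11k h23k
    (by rw [← hnek, mul_assoc, Nat.mul_mod_left])
    (by rw [← hnek, mul_assoc, Nat.mul_div_cancel _ hek]; exact hn1)
  have hk6 := kill_six _ hc _ hpair
  have hk23 := kill_seven _ hc _ hpair
  dsimp only at hk6 hk23
  -- the block
  obtain ⟨M', hM'⟩ := exists_pModular (show Nat.Prime 7 by norm_num)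
  obtain ⟨t, ht, het⟩ : ∃ t, 0 < t ∧ e * t + 1 = 7 := by
    rcases hel with rfl | rfl | rfl
    exacts [⟨3, by norm_num⟩, ⟨2, by norm_num⟩, ⟨1, by norm_num⟩]
  obtain ⟨X', Y', a', δ', h', h1X', hone', hYc'⟩ :=
    Solv.BReyn.exists_principal_one_mem hM' hQ he (by omega) ht het
  have hf' : FrobSylow Q e := he ▸ frobSylow_of_prime hQ
  change (oneChar : IrrCharacter G) ∈ X' at h1X'
  change a' (oneChar : IrrCharacter G) = 1 at hone'
  have ht6 : 6 / e = t := Nat.div_eq_of_eq_mul_right (by omega) (by omega)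
  obtain ⟨θ₇, hθ₇⟩ : Y'.Nonempty := Finset.card_pos.1 (by omega)
  have hne' : ∀ θ' ∈ Y', θ' ≠ oneChar := fun θ' hθ' e1 =>
    Finset.disjoint_left.1 h'.disj h1X' (e1 ▸ hθ')
  -- the values
  have hex : ∀ χ : IrrCharacter G, ∃ z : ℤ, χ ≠ oneChar → (χ ∈ X' ∨ χ ∈ Y') → (χ : G → ℂ) v = z ∧
      z.natAbs < charDegree (χ : G → ℂ) ∧ ((charDegree (χ : G → ℂ) : ℤ) - z) % 28 = 0 ∧
        ((cl : ℤ) * z) % (charDegree (χ : G → ℂ) : ℤ) = 0 := fun χ => by
    by_cases hc' : χ ≠ oneChar ∧ (χ ∈ X' ∨ χ ∈ Y')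
    · obtain ⟨z, hz, h4, hlt⟩ := SmallOrderGraph.invol_value (na D.order) hc'.1 hv
      have h14 := Sections.invol_congr hM' hf' hQ ((h'.mem_iff χ).2 hc'.2) hwQ hw1 (by norm_num) hv' hvw
        (z := z) (by rw [hval', hz])
      have hd := Sections.class_dvd χ hz (dvd_of_eq hC.symm)
      rw [D.order] at hd
      exact ⟨z, fun _ _ => ⟨hz, hlt, by push_cast at h14; omega, Int.emod_eq_zero_of_dvd hd⟩⟩
    · exact ⟨0, fun h1 h2 => absurd ⟨h1, h2⟩ hc'⟩
  choose z hz using hex
  have hv7 : ¬ 7 ∣ orderOf v := by rw [hv]; norm_num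
  have hzY : ∀ θ' ∈ Y', z θ' = z θ₇ := fun θ' hθ' => by
    have h1 := h'.regY θ' hθ' θ₇ hθ₇ v hv7
    rw [(hz θ' (hne' θ' hθ') (Or.inr hθ')).1, (hz θ₇ (hne' θ₇ hθ₇) (Or.inr hθ₇)).1] at h1
    exact_mod_cast h1
  -- the column
  have hnotin : ∀ (ψ : IrrCharacter G) (zψ : ℤ), ψ ≠ oneChar → (ψ : G → ℂ) v = zψ →
      sevenOk (charDegree (ψ : G → ℂ)) zψ = false → ψ ∉ X' ∪ Y' := by
    intro ψ zψ hψ hzψ hs hmem
    have hmem' := Finset.mem_union.1 hmem
    obtain ⟨h1, -, h28, -⟩ := hz ψ hψ hmem'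
    have hzz : zψ = z ψ := by rw [hzψ] at h1; exact_mod_cast h1
    simp only [sevenOk, Bool.and_eq_false_iff, bne_eq_false_iff_eq, decide_eq_false_iff_not, hzz] at hs
    rcases hs with hs | hs
    · rcases hmem' with hX | hY
      · have h2 := (h'.a_congr ψ hX).eq
        rcases h'.a_sign ψ hX with e' | e' <;> rw [e'] at h2 <;> omega
      · have h2 := (h'.congrY ψ hY).eq
        rcases h'.sign with e' | e' <;> rw [e'] at h2 <;> omega
    · exact hs h28
  have hn0' := hnotin c0 z0 hc0 hv0 hn0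
  have hn5' := hnotin c5 z5 hc5 hv5 hn5
  have hd1 : Disjoint (X'.erase oneChar) Y' := h'.disj.mono_left (Finset.erase_subset _ _)
  have hcol : (∑ χ ∈ X'.erase oneChar, z χ * z χ) + t * (z θ₇ * z θ₇) ≤ (B : ℤ) := by
    set U := X'.erase oneChar ∪ Y'
    have hU0 : c0 ∉ U := fun h => hn0' (Finset.union_subset_union (Finset.erase_subset _ _) (Finset.Subset.refl _) h)
    have hU5 : c5 ∉ U := fun h => hn5' (Finset.union_subset_union (Finset.erase_subset _ _) (Finset.Subset.refl _) h)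
    have hU1 : (oneChar : IrrCharacter G) ∉ U := fun h => by
      rcases Finset.mem_union.1 h with h | h
      · exact (Finset.mem_erase.1 h).1 rfl
      · exact hne' _ h rfl
    set z' : IrrCharacter G → ℤ := fun χ =>
      if χ = oneChar then 1 else if χ = c0 then z0 else if χ = c5 then z5 else z χ with hz'
    have h := Sections.column_int (v := v) (insert oneChar (insert c0 (insert c5 U))) z' (fun χ hχ => by
      simp only [Finset.mem_insert] at hχ
      rcases hχ with rfl | rfl | rfl | hχ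
      · simp [hz', oneChar]
      · simp only [hz', if_neg hc0, if_true]; exact hv0
      · simp only [hz', if_neg hc5, if_neg (Ne.symm hne), if_true]; exact hv5
      · have hne1 : χ ≠ oneChar := fun e' => hU1 (e' ▸ hχ)
        simp only [hz', if_neg hne1, if_neg (fun e' => hU0 (e' ▸ hχ) : χ ≠ c0),
          if_neg (fun e' => hU5 (e' ▸ hχ) : χ ≠ c5)]
        exact (hz χ hne1 ((Finset.mem_union.1 hχ).imp_left Finset.mem_of_mem_erase)).1)
    rw [Finset.sum_insert (by simp [Ne.symm hc0, Ne.symm hc5, hU1]), Finset.sum_insert (by simp [hne, hU0]),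
      Finset.sum_insert hU5, Finset.sum_congr rfl (s₁ := U) (g := fun χ => z χ * z χ) (fun χ hχ => by
        simp only [hz', if_neg (fun e' => hU1 (e' ▸ hχ) : χ ≠ oneChar),
          if_neg (fun e' => hU0 (e' ▸ hχ) : χ ≠ c0), if_neg (fun e' => hU5 (e' ▸ hχ) : χ ≠ c5)]),
      Finset.sum_union hd1, Finset.sum_congr rfl (s₁ := Y') (g := fun _ => z θ₇ * z θ₇) (fun χ hχ => by
        rw [hzY χ hχ]), Finset.sum_const, nsmul_eq_mul, hYc', hC] at h
    simp only [hz', if_true, if_neg hc0, if_neg hc5, if_neg (Ne.symm hne), one_mul] at h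
    push_cast [← hBC] at h
    linarith
  have hnn : ∀ χ, 0 ≤ z χ * z χ := fun χ => mul_self_nonneg _
  have hzok : ∀ χ, χ ≠ oneChar → (χ ∈ X' ∨ χ ∈ Y') →
      zokSeven cl B (charDegree (χ : G → ℂ)) (z χ) = true := by
    intro χ hne1 hχ
    obtain ⟨-, h2, h3, h4⟩ := hz χ hne1 hχ
    refine zokSeven_iff.2 ⟨h2, ?_, h3, h4⟩
    rw [← Int.ofNat_le]
    push_cast
    rw [← sq, sq_abs, sq]
    have h5 := Finset.sum_nonneg (s := X'.erase oneChar) fun ψ _ => hnn ψ
    have h6 : z θ₇ * z θ₇ ≤ (t : ℤ) * (z θ₇ * z θ₇) := le_mul_of_one_le_left (hnn _) (by exact_mod_cast ht)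
    rcases hχ with hX | hY
    · have := Finset.single_le_sum (fun ψ _ => hnn ψ) (Finset.mem_erase.2 ⟨hne1, hX⟩)
      have := hnn θ₇
      linarith
    · rw [hzY χ hY]; linarith
  -- a common member
  obtain ⟨χm, hχmne, hχm11, hχm7⟩ : ∃ χ, χ ≠ oneChar ∧ (χ ∈ X ∨ χ ∈ Y) ∧ (χ ∈ X' ∨ χ ∈ Y') := by
    by_contra hall
    push Not at hall
    have hrel := Sections.avg_relation hM' hf' hwQ hw1
      (Sections.regular_of_no_mixed hQ hwQ hw1 (by norm_num) (by norm_num) (fun g => no_seventyseven D.order g))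
      (fun g hg => D.pp.rel θ hθ g hg)
    have hz0 : ∀ χ, χ ≠ oneChar → (χ ∈ X ∨ χ ∈ Y) →
        (if χ ∈ principalBlock M' G then (χ : G → ℂ) w else 0) = 0 := fun χ h1 h2 => by
      rw [if_neg fun hb => ?_]
      exact ((h'.mem_iff χ).1 hb).elim (hall χ h1 h2).1 (hall χ h1 h2).2
    rw [hz0 θ (D.exc_ne hθ) (Or.inr hθ), ← Finset.add_sum_erase X _ D.one_mem, D.one_sign,
      Finset.sum_eq_zero fun χ hχ => by
        rw [hz0 χ (Finset.mem_erase.1 hχ).1 (Or.inl (Finset.mem_erase.1 hχ).2), mul_zero],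
      if_pos (show (oneChar : IrrCharacter G) ∈ principalBlock M' G from one_mem_principal hM')] at hrel
    simp [oneChar] at hrel
  have hmem7 : memSeven (charDegree (χm : G → ℂ)) (z χm) = true := by
    obtain ⟨zm, hzm, h44, h5⟩ := hval χm hχmne hχm11
    obtain rfl : zm = z χm := by
      have := (hz χm hχmne hχm7).1
      rw [hzm] at this
      exact_mod_cast this
    obtain ⟨y, hy⟩ := SmallOrderGraph.nonOne_nonempty P D.card
    have hG' : Nat.card G = 11 * 22256640 := by rw [D.order]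
    have hd : charDegree (χm : G → ℂ) ∣ 22256640 / 12 :=
      hχm11.elim (dvd_X D.card D.pp hG' D.cent hy) (dvd_Y D.card D.modular D.pp hG' D.cent hy)
    have hres : charDegree (χm : G → ℂ) % 11 = 1 ∨ charDegree (χm : G → ℂ) % 11 = 10 := by
      rcases hχm11 with h | h
      · have h2 := (D.pp.a_congr χm h).eq
        rcases D.pp.a_sign χm h with e' | e' <;> rw [e'] at h2 <;> omega
      · have h2 := (D.pp.congrY χm h).eq
        rcases D.pp.sign with e' | e' <;> rw [e'] at h2 <;> omega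
    simp only [memSeven, Bool.and_eq_true, Bool.or_eq_true, beq_iff_eq, decide_eq_true_eq, bne_iff_ne, ne_eq]
    exact ⟨⟨⟨Nat.mod_eq_zero_of_dvd hd, hres⟩, h44⟩, (imp_iff_not_or.1 fun hd5 => h5 hd5).imp_left
      fun h h' => h (Nat.dvd_of_mod_eq_zero h')⟩
  -- degrees
  have hG7 : Nat.card G = 7 * 34974720 := by rw [D.order]
  obtain ⟨y₇, hy₇⟩ := SmallOrderGraph.nonOne_nonempty Q hQ
  have hdeg : ∀ χ, χ ≠ oneChar → (χ ∈ X' ∨ χ ∈ Y') → charDegree (χ : G → ℂ) ∈ degsSeven k := fun χ h1 h2 => by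
    have hd : charDegree (χ : G → ℂ) ∣ 34974720 / k :=
      h2.elim (dvd_X hQ h' hG7 hCQ hy₇) (dvd_Y hQ hM' h' hG7 hCQ hy₇)
    exact mem_degsSeven hd (hd.trans (Nat.div_dvd_of_dvd hkM)) (deg_range D.order h1).1 (deg_range D.order h1).2
      (deg_res D.order χ)
  have hAX : ∀ χ ∈ X'.erase oneChar, a' χ * (charDegree (χ : G → ℂ) : ℤ) ∈ sevenVals cl B R k 1 ∧
      zokSeven cl B (a' χ * (charDegree (χ : G → ℂ) : ℤ)).natAbs (z χ) = true := fun χ hχ => by
    obtain ⟨h1, h2⟩ := Finset.mem_erase.1 hχ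
    have hok := hzok χ h1 (Or.inl h2)
    rw [← natAbs_mul (h'.a_sign χ h2) (charDegree (χ : G → ℂ))] at hok
    exact ⟨mem_sevenVals hR (mem_sdeg (hdeg χ h1 (Or.inl h2)) (h'.a_sign χ h2) (congr_X h' h2)) hok, hok⟩
  have hnδ : -δ' = 1 ∨ -δ' = -1 := by rcases h'.sign with e' | e' <;> simp [e']
  have hAY : ∀ θ' ∈ Y', (-δ') * (charDegree (θ' : G → ℂ) : ℤ) ∈ sevenVals cl B R k (-(e : ℤ)) ∧
      zokSeven cl B ((-δ') * (charDegree (θ' : G → ℂ) : ℤ)).natAbs (z θ') = true := fun θ' hθ' => by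
    have hok := hzok θ' (hne' θ' hθ') (Or.inr hθ')
    rw [← natAbs_mul hnδ (charDegree (θ' : G → ℂ))] at hok
    refine ⟨mem_sevenVals hR (mem_sdeg (hdeg θ' (hne' θ' hθ') (Or.inr hθ')) hnδ ?_) hok, hok⟩
    have := congr_Y h' hθ'
    rw [show -δ' * (charDegree (θ' : G → ℂ) : ℤ) - -(e : ℤ) = -(δ' * (charDegree (θ' : G → ℂ) : ℤ) - (e : ℤ)) by ring]
    omega
  -- the relations in signed form
  have hrels : ∀ θ' ∈ Y', ((X'.erase oneChar).val.map fun χ => a' χ * (charDegree (χ : G → ℂ) : ℤ)).sum +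
        (-δ') * (charDegree (θ' : G → ℂ) : ℤ) = -1 ∧
      ((X'.erase oneChar).val.map fun χ => sv (a' χ * (charDegree (χ : G → ℂ) : ℤ)) (z χ)).sum +
        sv ((-δ') * (charDegree (θ' : G → ℂ) : ℤ)) (z θ') = -1 := by
    intro θ' hθ'
    rw [← Finset.sum_eq_multiset_sum, ← Finset.sum_eq_multiset_sum]
    refine ⟨by rw [neg_mul, rel_one h' h1X' hone' hθ']; ring, ?_⟩
    rw [sv_mul hnδ (d := charDegree (θ' : G → ℂ)) (deg_pos θ'.2),
      Finset.sum_congr rfl (g := fun χ => a' χ * z χ) (fun χ hχ => sv_mul (h'.a_sign χ (Finset.mem_erase.1 hχ).2)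
        (d := charDegree (χ : G → ℂ)) (deg_pos χ.2) (z χ))]
    have h2 := rel_erase h' h1X' hone' hθ' hv7
    rw [Finset.sum_congr rfl (g := fun χ => ((a' χ * z χ : ℤ) : ℂ)) (fun χ hχ => by
      rw [(hz χ (Finset.mem_erase.1 hχ).1 (Or.inl (Finset.mem_erase.1 hχ).2)).1]; push_cast; ring),
      (hz θ' (hne' θ' hθ') (Or.inr hθ')).1, ← Int.cast_sum] at h2
    apply (Int.cast_injective (α := ℂ))
    push_cast at h2 ⊢
    linear_combination -h2
  have hcardE : Multiset.card (X'.erase oneChar).val = e - 1 := by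
    change (X'.erase oneChar).card = e - 1
    rw [Finset.card_erase_of_mem h1X', h'.cardX]
  have hweight : ∀ θ' ∈ Y', ((X'.erase oneChar).val.map fun χ => (z χ).natAbs * (z χ).natAbs).sum +
      t * ((z θ').natAbs * (z θ').natAbs) ≤ B := fun θ' hθ' => by
    rw [← Finset.sum_eq_multiset_sum, hzY θ' hθ', ← Int.ofNat_le]
    push_cast
    simp only [← sq, sq_abs]
    simp only [← sq] at hcol
    exact hcol
  have hmemList : ∀ x : ℤ, x.natAbs = charDegree (χm : G → ℂ) → zokSeven cl B x.natAbs (z χm) = true →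
      (!(memList cl B R x.natAbs).isEmpty) = true := fun x hx hx2 => by
    have hm' : z χm ∈ memList cl B R x.natAbs :=
      List.mem_filter.2 ⟨mem_zlistSeven hR hx2, hx ▸ hmem7⟩
    cases h : memList cl B R x.natAbs with
    | nil => rw [h] at hm'; simp at hm'
    | cons => rfl
  have hY6 : ∀ θ' ∈ Y', e = 6 → (-δ') * (charDegree (θ' : G → ℂ) : ℤ) ∈ sixVals cl B R k := fun θ' hθ' h6 => by
    refine List.mem_reverse.2 (mem_sevenVals hR (mem_sdeg (hdeg θ' (hne' θ' hθ') (Or.inr hθ')) hnδ ?_)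
      (hAY θ' hθ').2)
    have := congr_Y h' hθ'
    rw [h6] at this
    push_cast at this
    rw [neg_mul]
    omega
  have hX6 : ∀ χ ∈ X'.erase oneChar, a' χ * (charDegree (χ : G → ℂ) : ℤ) ∈ sixVals cl B R k ∧
      zokSeven cl B (a' χ * (charDegree (χ : G → ℂ) : ℤ)).natAbs (z χ) = true := fun χ hχ =>
    ⟨List.mem_reverse.2 (hAX χ hχ).1, (hAX χ hχ).2⟩
  rcases hχm7 with hmX | hmY
  · -- a non-exceptional member
    have hmE : χm ∈ (X'.erase oneChar).val := Finset.mem_erase.2 ⟨hχmne, hmX⟩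
    obtain ⟨hlin, hq⟩ := hrels θ₇ hθ₇
    have hw' := hweight θ₇ hθ₇
    rw [← Multiset.cons_erase hmE, Multiset.map_cons, Multiset.sum_cons] at hlin hq hw'
    have hx := hAX χm hmE
    have hnat := natAbs_mul (h'.a_sign χm hmX) (charDegree (χm : G → ℂ))
    have hf := hmemList _ hnat hx.2
    rw [← hnat] at hmem7
    have hcard : Multiset.card ((X'.erase oneChar).val.erase χm) = e - 2 := by
      rw [Multiset.card_erase_of_mem hmE, hcardE, Nat.pred_eq_sub_one]
      omega
    by_cases he6' : e = 6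
    · have hk1 := List.all_eq_true.1 (hk6 he6') _ (List.mem_filter.2 ⟨(hX6 χm hmE).1, hf⟩)
      refine row_six hR (n := 4) (sixVals_pairwise cl B R k) ((X'.erase oneChar).val.erase χm)
        (fun χ => a' χ * (charDegree (χ : G → ℂ) : ℤ)) z (by rw [hcard, he6']) (List.all_eq_true.1 hk1)
        (fun u hu => hX6 u (Multiset.mem_of_mem_erase hu)) hx.2 hmem7 (hY6 θ₇ hθ₇ he6') (hAY θ₇ hθ₇).2 hlin hq ?_
      obtain rfl : t = 1 := by rw [he6'] at het; omega
      rw [one_mul] at hw'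
      linarith
    · have hk1 := List.all_eq_true.1 (hk23 he6').1 _ (List.mem_filter.2 ⟨hx.1, hf⟩)
      refine row_false hR (n := e - 2) ((X'.erase oneChar).val.erase χm)
        (fun χ => a' χ * (charDegree (χ : G → ℂ) : ℤ)) z (t := 1) (t' := 6 / e)
        hcard (List.all_eq_true.1 hk1)
        (fun u hu => hAX u (Multiset.mem_of_mem_erase hu)) hx.2 hmem7 (hAY θ₇ hθ₇).1 (hAY θ₇ hθ₇).2 hlin hq ?_
      rw [ht6, one_mul]
      exact hw'
  · -- an exceptional member
    obtain ⟨hlin, hq⟩ := hrels χm hmY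
    have hw' := hweight χm hmY
    obtain ⟨ψ, hψ⟩ := Multiset.card_pos_iff_exists_mem.1 (by omega : 0 < Multiset.card (X'.erase oneChar).val)
    rw [← Multiset.cons_erase hψ, Multiset.map_cons, Multiset.sum_cons] at hlin hq hw'
    have hy' := hAY χm hmY
    have hnat := natAbs_mul hnδ (charDegree (χm : G → ℂ))
    have hf := hmemList _ hnat hy'.2
    rw [← hnat] at hmem7
    have hcard : Multiset.card ((X'.erase oneChar).val.erase ψ) = e - 2 := by
      rw [Multiset.card_erase_of_mem hψ, hcardE, Nat.pred_eq_sub_one]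
      omega
    by_cases he6' : e = 6
    · have hk1 := List.all_eq_true.1 (hk6 he6') _ (List.mem_filter.2 ⟨hY6 χm hmY he6', hf⟩)
      refine row_six hR (n := 4) (sixVals_pairwise cl B R k) ((X'.erase oneChar).val.erase ψ)
        (fun χ => a' χ * (charDegree (χ : G → ℂ) : ℤ)) z (by rw [hcard, he6']) (List.all_eq_true.1 hk1)
        (fun u hu => hX6 u (Multiset.mem_of_mem_erase hu)) hy'.2 hmem7 (hX6 ψ hψ).1 (hX6 ψ hψ).2
        (by linarith) (by linarith) ?_
      obtain rfl : t = 1 := by rw [he6'] at het; omega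
      rw [one_mul] at hw'
      linarith
    · have hk1 := List.all_eq_true.1 (hk23 he6').2 _ (List.mem_filter.2 ⟨hy'.1, hf⟩)
      refine row_false hR (n := e - 2) ((X'.erase oneChar).val.erase ψ)
        (fun χ => a' χ * (charDegree (χ : G → ℂ) : ℤ)) z (t := 6 / e) (t' := 1)
        hcard (List.all_eq_true.1 hk1)
        (fun u hu => hAX u (Multiset.mem_of_mem_erase hu)) hy'.2 hmem7 (hAX ψ hψ).1 (hAX ψ hψ).2
        (by linarith) (by linarith) ?_
      rw [ht6, one_mul]
      linarith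

/-- The centraliser index is not twelve. -/
theorem not_ten (D : Ctx P 10 12 M X Y a δ) : False := by
  obtain ⟨θ, hθ⟩ := D.exc_nonempty
  obtain ⟨v, f, hvC, hv, hf, hfv, r, f', hr, hrf, hf11⟩ := exists_invol_ten D
  set C := Nat.card (Subgroup.centralizer ({v} : Set G))
  have hCd : C ∣ 10644480 := cent_invol D.order hv
  have hv11 : ¬ 11 ∣ orderOf v := by rw [hv]; norm_num
  set S : Finset (IrrCharacter G) := insert θ (X.erase oneChar) with hS
  have hθnX : θ ∉ X.erase oneChar := fun h =>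
    Finset.disjoint_left.1 D.pp.disj (Finset.mem_of_mem_erase h) hθ
  have hY1 : Y.card = 1 := by have := D.exc; omega
  set A : IrrCharacter G → ℤ := fun χ => if χ = θ then -δ else a χ with hA
  have hSmem : ∀ χ ∈ S, χ ≠ oneChar ∧ (χ ∈ X ∨ χ ∈ Y) := fun χ hχ => by
    rcases Finset.mem_insert.1 hχ with rfl | hχ
    · exact ⟨D.exc_ne hθ, Or.inr hθ⟩
    · exact ⟨(Finset.mem_erase.1 hχ).1, Or.inl (Finset.mem_erase.1 hχ).2⟩
  have hnδ : -δ = 1 ∨ -δ = -1 := by rcases D.pp.sign with e' | e' <;> simp [e']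
  have hAs : ∀ χ ∈ S, A χ = 1 ∨ A χ = -1 := fun χ hχ => by
    rcases Finset.mem_insert.1 hχ with rfl | hχ
    · simpa [hA] using hnδ
    · simp only [hA, if_neg (fun e' => hθnX (e' ▸ hχ) : χ ≠ θ)]
      exact D.pp.a_sign χ (Finset.mem_erase.1 hχ).2
  have hAd : ∀ χ ∈ S, A χ * (charDegree (χ : G → ℂ) : ℤ) ∈ sdeg 11 (degs 12) 1 := fun χ hχ => by
    rcases Finset.mem_insert.1 hχ with rfl | hχ
    · simp only [hA, if_true]
      refine mem_sdeg (D.deg_mem (D.exc_ne hθ) (Or.inr hθ)) hnδ ?_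
      have := congr_Y D.pp hθ
      push_cast at this ⊢
      rw [neg_mul]
      omega
    · simp only [hA, if_neg (fun e' => hθnX (e' ▸ hχ) : χ ≠ θ)]
      exact D.sdeg_X hχ
  have hex : ∀ χ : IrrCharacter G, ∃ z : ℤ, χ ≠ oneChar → (χ ∈ X ∨ χ ∈ Y) → (χ : G → ℂ) v = z ∧
      z.natAbs < charDegree (χ : G → ℂ) ∧ ((charDegree (χ : G → ℂ) : ℤ) - z) % 44 = 0 ∧
        (5 ∣ charDegree (χ : G → ℂ) → z % 5 = 0) := fun χ => by
    by_cases hc : χ ≠ oneChar ∧ (χ ∈ X ∨ χ ∈ Y)
    · obtain ⟨z, hz⟩ := value_facts D hvC hv hf hfv hc.1 hc.2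
      exact ⟨z, fun _ _ => hz⟩
    · exact ⟨0, fun h1 h2 => absurd ⟨h1, h2⟩ hc⟩
  choose z hz using hex
  have hzS : ∀ χ ∈ S, (χ : G → ℂ) v = z χ := fun χ hχ => (hz χ (hSmem χ hχ).1 (hSmem χ hχ).2).1
  have hcol : 1 + ∑ χ ∈ S, z χ * z χ ≤ (C : ℤ) := by
    have h := column_block D hθ hv11 (fun χ hχ => hzS χ (Finset.mem_insert_of_mem hχ))
      (hzS θ (Finset.mem_insert_self _ _))
    rw [hY1] at h
    rw [hS, Finset.sum_insert hθnX]
    push_cast at h
    linarith
  have hsq : ∀ χ ∈ S, z χ * z χ + 1 ≤ (C : ℤ) := fun χ hχ => by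
    have := Finset.single_le_sum (fun ψ _ => mul_self_nonneg (z ψ)) hχ
    linarith
  have hzok : ∀ (cdiv B : ℕ), cdiv ∣ C → ∀ χ ∈ S, z χ * z χ ≤ (B : ℤ) →
      zok (244823040 / cdiv) B (A χ * (charDegree (χ : G → ℂ) : ℤ)).natAbs (z χ) = true := by
    intro cdiv B hdiv χ hχ hle
    rw [natAbs_mul (hAs χ hχ)]
    obtain ⟨h1, h2, h3, h4⟩ := hz χ (hSmem χ hχ).1 (hSmem χ hχ).2
    refine zok_iff.2 ⟨h2, ?_, h3, ?_, h4⟩
    · rw [← Int.ofNat_le]; push_cast; rwa [← sq, sq_abs, sq]
    · have hd := Sections.class_dvd χ h1 hdiv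
      rw [D.order] at hd
      exact Int.emod_eq_zero_of_dvd hd
  have hCle : C ≤ 10644480 := Nat.le_of_dvd (by norm_num) hCd
  have h110 : 110 ∣ C := by
    rw [← hrf]
    refine Dvd.dvd.mul_right ?_ f'
    simp only [List.mem_cons, List.not_mem_nil, or_false] at hr
    rcases hr with rfl | rfl <;> norm_num
  -- the member of the block of twenty-three
  obtain ⟨c0, hc0, hr0⟩ : ∃ χ ∈ S, ∀ i ∈ [0, 1], (A χ * (charDegree (χ : G → ℂ) : ℤ)) % 23 ≠ i := by
    rcases member_twentythree D hθ with ⟨χ, hχ, h⟩ | h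
    · refine ⟨χ, Finset.mem_insert_of_mem hχ, ?_⟩
      simpa [hA, if_neg (fun e' => hθnX (e' ▸ hχ) : χ ≠ θ)] using h
    · refine ⟨θ, Finset.mem_insert_self _ _, ?_⟩
      simpa [hA] using h
  have hd0 : A c0 * (charDegree (c0 : G → ℂ) : ℤ) = 3840 := by
    refine ten_flag _ (hAd c0 hc0) ?_ ?_
    · have hd := deg_res D.order c0
      simp only [res, List.mem_cons, List.not_mem_nil, or_false, forall_eq_or_imp, forall_eq] at hd hr0
      simp only [flag, decide_eq_true_eq]
      rcases hAs c0 hc0 with e' | e' <;> rw [e'] at hr0 ⊢ <;> omega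
    · have hm := mem_zlist (R := 3262) (by norm_num) (hzok 110 10644480 h110 c0 hc0 (by
        have := hsq c0 hc0
        have : (C : ℤ) ≤ 10644480 := by exact_mod_cast hCle
        push_cast; linarith))
      rw [show (244823040 : ℕ) / 110 = 2225664 by norm_num] at hm
      cases h : zlist 2225664 10644480 3262 (A c0 * (charDegree (c0 : G → ℂ) : ℤ)).natAbs with
      | nil => rw [h] at hm; simp at hm
      | cons => rfl
  have hdeg0 : charDegree (c0 : G → ℂ) = 3840 := by
    have h := natAbs_mul (hAs c0 hc0) (charDegree (c0 : G → ℂ))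
    rw [hd0] at h
    simpa using h.symm
  have hf'mem : f' ∈ tenDivs := by
    refine mem_tenDivs (Nat.dvd_of_mul_dvd_mul_left (show 0 < 440 by norm_num) ?_)
    rw [show 440 * 24192 = 10644480 from rfl]
    refine (Nat.mul_dvd_mul_right ?_ f').trans (hrf ▸ hCd)
    simp only [List.mem_cons, List.not_mem_nil, or_false] at hr
    rcases hr with rfl | rfl <;> norm_num
  have hm0 : z c0 ∈ zlist (244823040 / (r * f')) (r * f') 3262 3840 := by
    have h := hzok (r * f') (r * f') (hrf ▸ dvd_refl _) c0 hc0 (by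
      rw [hrf]; have := hsq c0 hc0; linarith)
    rw [hd0] at h
    refine mem_zlist ?_ h
    rw [hrf]
    exact lt_of_le_of_lt hCle (by norm_num)
  rcases ten_cent f' hf'mem hf11 r hr (Nat.mod_eq_zero_of_dvd (hrf ▸ hCd)) (z c0) hm0 with
    ⟨hC', hz0⟩ | ⟨hC', hz0⟩
  · -- the least centraliser
    rw [hrf] at hC'
    rw [hC'] at hcol
    rw [← Finset.add_sum_erase S _ hc0, hz0] at hcol
    have hle : ∀ χ ∈ S.erase c0, z χ * z χ ≤ 1439 := fun χ hχ => by
      have := Finset.single_le_sum (fun ψ _ => mul_self_nonneg (z ψ)) hχ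
      push_cast at hcol
      linarith
    set s := (S.erase c0).val.map fun χ => (A χ * (charDegree (χ : G → ℂ) : ℤ),
      sv (A χ * (charDegree (χ : G → ℂ) : ℤ)) (z χ), (z χ).natAbs * (z χ).natAbs)
    have hmem : ∀ u ∈ s, u ∈ tenItems := by
      intro u hu
      obtain ⟨χ, hχ, rfl⟩ := Multiset.mem_map.1 hu
      have hχS : χ ∈ S := Finset.mem_of_mem_erase hχ
      refine mem_tenItems (hAd χ hχS) ?_
      have h := hzok 15840 1439 (dvd_of_eq hC'.symm) χ hχS (by exact_mod_cast hle χ hχ)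
      rwa [show (244823040 : ℕ) / 15840 = 15456 by norm_num] at h
    have hw : (s.map fun u => u.2.2).sum ≤ 1439 := by
      rw [Multiset.map_map]
      change ∑ χ ∈ S.erase c0, (z χ).natAbs * (z χ).natAbs ≤ 1439
      rw [← Int.ofNat_le]
      push_cast
      simp only [← sq, sq_abs, Nat.cast_ofNat] at hcol ⊢
      linarith
    have hcard : Multiset.card s = 9 := by
      rw [Multiset.card_map]
      change (S.erase c0).card = 9
      rw [Finset.card_erase_of_mem hc0, hS, Finset.card_insert_of_notMem hθnX,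
        Finset.card_erase_of_mem D.one_mem, D.pp.cardX]
    have hp : (s.map fun u => u.1).sum = -3841 := by
      rw [Multiset.map_map]
      change ∑ χ ∈ S.erase c0, A χ * (charDegree (χ : G → ℂ) : ℤ) = -3841
      have h := Finset.add_sum_erase S (fun χ => A χ * (charDegree (χ : G → ℂ) : ℤ)) hc0
      rw [hd0, hS, Finset.sum_insert hθnX, Finset.sum_congr rfl (s₁ := X.erase oneChar)
        (g := fun χ => a χ * (charDegree (χ : G → ℂ) : ℤ)) (fun χ hχ => by
          simp only [hA, if_neg (fun e' => hθnX (e' ▸ hχ) : χ ≠ θ)])] at h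
      have h2 := rel_one D.pp D.one_mem D.one_sign hθ
      simp only [hA, if_true, neg_mul] at h
      rw [← hS] at h
      linarith
    have hq : (s.map fun u => u.2.1).sum = 119 := by
      rw [Multiset.map_map]
      change ∑ χ ∈ S.erase c0, sv (A χ * (charDegree (χ : G → ℂ) : ℤ)) (z χ) = 119
      rw [Finset.sum_congr rfl (g := fun χ => A χ * z χ) (fun χ hχ =>
        sv_mul (hAs χ (Finset.mem_of_mem_erase hχ)) (d := charDegree (χ : G → ℂ)) (deg_pos χ.2) (z χ))]
      have hA0 : A c0 = 1 := by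
        rw [hdeg0] at hd0
        rcases hAs c0 hc0 with e' | e' <;> rw [e'] at hd0 ⊢ <;> norm_num at hd0
      have h := Finset.add_sum_erase S (fun χ => A χ * z χ) hc0
      rw [hA0, hz0, hS, Finset.sum_insert hθnX, Finset.sum_congr rfl (s₁ := X.erase oneChar)
        (g := fun χ => a χ * z χ) (fun χ hχ => by
          simp only [hA, if_neg (fun e' => hθnX (e' ▸ hχ) : χ ≠ θ)])] at h
      simp only [hA, if_true, neg_mul] at h
      rw [← hS] at h
      have h2 := rel_erase D.pp D.one_mem D.one_sign hθ hv11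
      rw [Finset.sum_congr rfl (g := fun χ => ((a χ * z χ : ℤ) : ℂ)) (fun χ hχ => by
        rw [hzS χ (Finset.mem_insert_of_mem hχ)]; push_cast; ring), hzS θ (Finset.mem_insert_self _ _),
        ← Int.cast_sum] at h2
      have h3 : δ * z θ = 1 + ∑ χ ∈ X.erase oneChar, a χ * z χ := by
        apply (Int.cast_injective (α := ℂ))
        push_cast at h2 ⊢
        exact h2
      linarith
    have hpick := pick_of_multiset tenItems s 1439 hmem hw
    rw [hcard, hp, hq, ten_pick] at hpick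
    exact Bool.false_ne_true hpick
  -- the great centralisers
  rw [hrf] at hC'
  obtain ⟨c, hcb, hcC⟩ : ∃ c ∈ budgets, C = c.1 := by
    rcases hC' with h | h
    · exact ⟨_, List.mem_cons_self, h⟩
    · exact ⟨_, List.mem_cons_of_mem _ List.mem_cons_self, h⟩
  obtain ⟨hdvd, hBC, hR⟩ := budgets_spec c hcb
  obtain ⟨c5, hc5, hx5, h10⟩ : ∃ χ ∈ S, (A χ * (charDegree (χ : G → ℂ) : ℤ)) % 5 = 4 ∧
      (10 : ℤ) ∣ (charDegree (χ : G → ℂ) : ℤ) - z χ := by
    rcases member_five D hθ hvC hv hf hfv with ⟨χ, hχ, h1, h2⟩ | ⟨h1, h2⟩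
    · refine ⟨χ, Finset.mem_insert_of_mem hχ, ?_, h2 _ (hzS χ (Finset.mem_insert_of_mem hχ))⟩
      simpa [hA, if_neg (fun e' => hθnX (e' ▸ hχ) : χ ≠ θ)] using h1
    · refine ⟨θ, Finset.mem_insert_self _ _, ?_, h2 _ (hzS θ (Finset.mem_insert_self _ _))⟩
      simpa [hA, neg_mul] using h1
  have hne05 : c0 ≠ c5 := by
    rintro rfl
    rw [hd0] at hx5
    norm_num at hx5
  have hpair : z c0 * z c0 + z c5 * z c5 + 1 ≤ (C : ℤ) := by
    have h := Finset.sum_le_sum_of_subset_of_nonneg (f := fun χ => z χ * z χ)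
      (show ({c0, c5} : Finset (IrrCharacter G)) ⊆ S by
        intro χ hχ
        simp only [Finset.mem_insert, Finset.mem_singleton] at hχ
        rcases hχ with rfl | rfl <;> assumption) (fun χ _ _ => mul_self_nonneg _)
    rw [Finset.sum_pair hne05] at h
    linarith
  rw [hz0] at hpair
  have hm5 := mem_zlist (R := 942) (by rcases hC' with h | h <;> rw [← hcC, h] <;> norm_num)
    (hzok c.1 c.1 (dvd_of_eq hcC.symm) c5 hc5 (by rw [← hcC]; have := hsq c5 hc5; linarith))
  obtain ⟨h20, -, hs5⟩ := ten_five c hcb _ (hAd c5 hc5) hx5 (z c5) hm5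
    (by rw [natAbs_mul (hAs c5 hc5)]; exact Int.emod_eq_zero_of_dvd h10) (by rw [← hcC]; linarith)
  rw [natAbs_mul (hAs c5 hc5)] at hs5
  refine not_great D hθ hv hcb hcC (by rcases hC' with h | h <;> rw [← hcC, h] <;> norm_num)
    (fun χ hne hχ => ⟨z χ, (hz χ hne hχ).1, (hz χ hne hχ).2.2.1, (hz χ hne hχ).2.2.2⟩)
    hne05 (hSmem c0 hc0).1 (hSmem c5 hc5).1 (hzS c0 hc0) (hzS c5 hc5) (by rw [hz0]; linarith) ?_ hs5
  rw [hdeg0, hz0]
  decide

end Cfsg.Agent.MTwentyFour.ByOrder.Eleven
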