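import Cfsg.Agent.Lib.Spor.MTwentyFourOrder.SylowElevenTwo
import Cfsg.Agent.Lib.Spor.MTwentyFourOrder.SylowElevenTen

/-!
The Sylow subgroup of order eleven of a simple group of the order of the Mathieu group of degree twenty-four is
self-centralising and has an automiser of order ten.
-/

set_option autoImplicit false
set_option linter.unusedSectionVars false

namespace Cfsg.Agent.MTwentyFour.ByOrder

open Cfsg Cfsg.Agent.Char
open scoped Classical

universe u

variable {G : Type u} [Group G] [Fintype G] [IsSimpleGroup G]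

local instance fact_elevenResult : Fact (Nat.Prime 11) := ⟨by norm_num⟩

/-- The Sylow subgroup of order eleven: self-centralising, of automiser ten. -/
theorem exists_eleven (hG : Nat.card G = 244823040) :
    ∃ P : Sylow 11 G, Nat.card P = 11 ∧
      Nat.card (Subgroup.centralizer ((P : Subgroup G) : Set G)) = 11 ∧
      (Subgroup.centralizer ((P : Subgroup G) : Set G)).relIndex
        (Subgroup.normalizer ((P : Subgroup G) : Set G)) = 10 := by
  obtain ⟨P, e, k, M, X, Y, a, δ, D⟩ := Eleven.exists_ctx hG
  have hcase := D.case_mem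
  simp only [Eleven.cases, List.mem_cons, List.not_mem_nil, or_false, Prod.mk.injEq] at hcase
  obtain ⟨hlin5, hlin10⟩ := Eleven.not_linear D
  rcases (show e = 2 ∨ e = 5 ∨ (e = 10 ∧ (k = 1 ∨ k = 12 ∨ k = 144 ∨ k = 1728)) by omega) with
    rfl | rfl | ⟨rfl, hk⟩
  · exact (Eleven.not_two D).elim
  · exact (Eleven.not_five D).elim
  · rcases hk with rfl | rfl | rfl | rfl
    · exact ⟨P, D.card, by rw [D.cent], D.index⟩
    · exact (Eleven.not_ten D).elim
    · exact (hlin10 ⟨rfl, Or.inl rfl⟩).elim
    · exact (hlin10 ⟨rfl, Or.inr rfl⟩).elim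

end Cfsg.Agent.MTwentyFour.ByOrder
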