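import Cfsg.Agent.Lib.Spor.MTwentyFourOrder.ThreeCase.Main
import Cfsg.Agent.Lib.Spor.MTwentyFourOrder.FiveSide
import Cfsg.Agent.Lib.Spor.MTwentyFourOrder.SevenLocal
import Cfsg.Agent.Lib.Spor.MTwentyFourOrder.SylowEleven
import Cfsg.Agent.Lib.Spor.MTwentyFourIso.Front

/-!
Simple groups of the order of the Mathieu group of degree twenty-four: the join of the cases.
-/

set_option autoImplicit false
set_option linter.unusedSectionVars false

namespace Cfsg.Agent.MTwentyFour.ByOrder.Assemble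

open Cfsg Cfsg.Agent.Char Cfsg.Agent.Char.PrimeSylowCount
open Cfsg.Agent.MTwentyFour.ByOrder.Ten (TCol)
open Cfsg.Agent.MTwentyFour.ByOrder.FiveRow (FiveData rowA rowB listB)
open Cfsg.Agent.MTwentyFour.ByOrder.SevenRow (SevenData)
open scoped _root_.Classical

universe u

variable {G : Type u} [Group G] [Fintype G] [IsSimpleGroup G]

/-- Elements of order five are conjugate to their powers. -/
theorem const_five (hG : Nat.card G = 244823040) (χ : IrrCharacter G) :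
    ∀ g : G, orderOf g = 5 → ∀ k : ℕ, k.Coprime (Nat.card G) → (χ : G → ℂ) (g ^ k) = (χ : G → ℂ) g := by
  haveI : Fact (Nat.Prime 5) := ⟨by norm_num⟩
  obtain ⟨Q, k5, hQ, -, -, he⟩ := exists_five hG
  intro g hg k hk
  have hz : IsPGroup 5 (Subgroup.zpowers g) := IsPGroup.of_card (n := 1) (by rw [Nat.card_zpowers, hg, pow_one])
  obtain ⟨R, hR⟩ := hz.exists_le_sylow
  obtain ⟨a, ha⟩ := MulAction.exists_smul_eq G R Q
  have hy : a * g * a⁻¹ ∈ (Q : Subgroup G) := by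
    rw [← ha]; exact ⟨g, hR (Subgroup.mem_zpowers g), rfl⟩
  have hy1 : a * g * a⁻¹ ≠ 1 := fun e => by
    rw [conj_eq_one_iff] at e; rw [e, orderOf_one] at hg; norm_num at hg
  have hk5 : ¬ 5 ∣ k := fun h => by
    have := Nat.dvd_gcd h (show 5 ∣ Nat.card G by rw [hG]; norm_num)
    rw [hk] at this; norm_num at this
  have hx1 : (a * g * a⁻¹) ^ k ≠ 1 := fun e => by
    rw [conj_pow, conj_eq_one_iff] at e
    exact hk5 (hg ▸ orderOf_dvd_of_pow_eq_one e)
  obtain ⟨b, hb⟩ := isConj_iff.1 (FiveColumn.fuse Q hQ he (by norm_num) hy hy1 (pow_mem hy k) hx1)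
  rw [conj_pow] at hb
  have hcl : ∀ c d : G, (χ : G → ℂ) (c * d * c⁻¹) = (χ : G → ℂ) d := fun c d =>
    isClassFunction_character (irr_isCharacter χ.2) d c
  rw [← hcl a (g ^ k), ← hb, hcl b, hcl a]

/-- What is left when the automiser at seven has order six. -/
def SixCase (G : Type u) [Group G] [Fintype G] : Prop :=
  ∀ {P : Sylow 11 G} {g : G} {z : IrrCharacter G → ℤ} {C : ℕ}, TCol P g z C →
  ∀ {Q : Sylow 5 G} {k : ℕ} {M : Ideal AlgInt} {c : Fin 4 → IrrCharacter G} {r : List ℤ}, FiveData g Q k M c r →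
  ((r = rowA ∧ k = 12) ∨ (r = rowB ∧ k = 12 ∧ C = 7680) ∨ (r = rowB ∧ k = 32 ∧ C = 3840)) →
  ∀ {Q7 : Sylow 7 G} {k7 : ℕ}, Nat.card Q7 = 7 →
  (Subgroup.centralizer ((Q7 : Subgroup G) : Set G)).relIndex
    (Subgroup.normalizer ((Q7 : Subgroup G) : Set G)) = 6 →
  Nat.card (Subgroup.centralizer ((Q7 : Subgroup G) : Set G)) = 7 * k7 → k7 ∈ [3, 24, 192, 1536] →
  ∃ χ : IrrCharacter G, charDegree (χ : G → ℂ) = 23

/-- The character, from the closing of the three remaining cases. -/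
theorem exists_chi (hG : Nat.card G = 244823040)
    (hsix : SixCase G) :
    ∃ χ : IrrCharacter G, charDegree (χ : G → ℂ) = 23 ∧
      ∀ g : G, orderOf g = 5 → ∀ k : ℕ, k.Coprime (Nat.card G) → (χ : G → ℂ) (g ^ k) = (χ : G → ℂ) g := by
  suffices h : ∃ χ : IrrCharacter G, charDegree (χ : G → ℂ) = 23 by
    obtain ⟨χ, hχ⟩ := h; exact ⟨χ, hχ, const_five hG χ⟩
  obtain ⟨P, g, z, C, T⟩ := Ten.exists_tcol hG
  obtain ⟨Q, k, M, c, h5⟩ := FiveRow.exists_five_row T
  rcases SevenRow.exists_seven hG with h | ⟨Q7, e, k7, hQ7, he7, hC7, h7⟩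
  · exact h
  rcases h7 with ⟨-, hk7, M7, c1, c2, t1, t2, S⟩ | ⟨rfl, hk7⟩
  · rcases h5 with ⟨D, hk⟩ | ⟨D, hk⟩
    · exact ThreeCase.exists_deg23_of_three T (Or.inl ⟨rfl, hk⟩) D hk7 S
    · exact ThreeCase.exists_deg23_of_three T (Or.inr ⟨rfl, hk⟩) D hk7 S
  rcases h5 with ⟨D, hk⟩ | ⟨D, hk⟩
  · rcases FiveSide.small T (Or.inl rfl) D with h | h
    · exact h
    · exact hsix T D (Or.inl ⟨rfl, hk.resolve_right h⟩) hQ7 he7 hC7 hk7
  · rcases FiveSide.small T (Or.inr rfl) D with h | h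
    · exact h
    · refine hsix T D (Or.inr ?_) hQ7 he7 hC7 hk7
      simp only [listB, List.mem_cons, List.not_mem_nil, or_false, Prod.mk.injEq] at hk
      rcases hk with ⟨rfl, rfl⟩ | ⟨rfl, rfl⟩ | ⟨rfl, rfl⟩ | ⟨rfl, rfl⟩
      exacts [Or.inr ⟨rfl, rfl, rfl⟩, Or.inl ⟨rfl, rfl, rfl⟩, absurd rfl h, absurd rfl h]

/-- The identification, from the closing of the cases of automiser six. -/
theorem iso_of_six (hG : Nat.card G = 244823040) (hsix : SixCase G) : Nonempty (G ≃* ↥Cfsg.M24) :=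
  Iso.iso_of_front hG (exists_eleven hG) (exists_chi hG hsix)

end Cfsg.Agent.MTwentyFour.ByOrder.Assemble
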