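import Mathlib

/-!
Numerical facts for the values of the principal block of five at the involution inverting a Sylow subgroup of order
eleven, in a group of the order of the Mathieu group of degree twenty-four: the search over the values.
-/

set_option autoImplicit false
set_option maxRecDepth 100000

namespace Cfsg.Agent.MTwentyFour.ByOrder.FiveRow

/-- the sign of a signed degree -/
def sg (x : ℤ) : ℤ := if 0 ≤ x then 1 else -1

/-- the dimension of the fixed space of an element of order eleven, from the degree -/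
def mOf (d : ℕ) : ℤ :=
  ((d : ℤ) + 10 * (if d % 11 = 1 then 1 else if d % 11 = 10 then -1 else 0)) / 11

/-- the conditions on a value of a member of signed degree `x` -/
def zok (C : ℕ) (x z : ℤ) : Bool :=
  decide (z * z ≤ (C : ℤ)) && decide (((x.natAbs : ℤ) - z) % 4 = 0) &&
    decide ((mOf x.natAbs - z) % 10 = 0) && decide (0 ≤ mOf x.natAbs + z + 8 * sg x) &&
    decide (0 ≤ mOf x.natAbs + z - 2 * sg x) && decide (z ≤ mOf x.natAbs) &&
    decide ((((244823040 / C : ℕ) : ℤ) * z) % (x.natAbs : ℤ) = 0)

/-- the candidates for a value: congruent to the fixed-space dimension modulo ten and of square at most sixteen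
thousand -/
def zlist (C : ℕ) (x : ℤ) : List ℤ :=
  ((List.range 26).map fun i : ℕ => mOf x.natAbs % 10 + 10 * ((i : ℤ) - 13)).filter (zok C x)

theorem zok_iff {C : ℕ} {x z : ℤ} :
    zok C x z = true ↔ z * z ≤ (C : ℤ) ∧ ((x.natAbs : ℤ) - z) % 4 = 0 ∧ (mOf x.natAbs - z) % 10 = 0 ∧
      0 ≤ mOf x.natAbs + z + 8 * sg x ∧ 0 ≤ mOf x.natAbs + z - 2 * sg x ∧ z ≤ mOf x.natAbs ∧
      (((244823040 / C : ℕ) : ℤ) * z) % (x.natAbs : ℤ) = 0 := by
  simp only [zok, Bool.and_eq_true, decide_eq_true_eq, and_assoc]

theorem mem_zlist {C : ℕ} (hC : C ≤ 15646) {x z : ℤ} (h : zok C x z = true) : z ∈ zlist C x := by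
  obtain ⟨h1, -, h3, -⟩ := zok_iff.1 h
  have hb : -125 ≤ z ∧ z ≤ 125 := by
    have hC' : (C : ℤ) ≤ 15646 := by exact_mod_cast hC
    constructor <;> nlinarith [sq_nonneg (z - 126), sq_nonneg (z + 126)]
  refine List.mem_filter.2 ⟨List.mem_map.2 ⟨((z - mOf x.natAbs % 10) / 10 + 13).toNat, List.mem_range.2 ?_, ?_⟩, h⟩
  · omega
  · omega

/-- the linear sum -/
def lin (l : List (ℤ × ℤ)) : ℤ := 1 + (l.map fun p => sg p.1 * p.2).sum

/-- the sum of the squares -/
def sq (l : List (ℤ × ℤ)) : ℤ := 1 + (l.map fun p => p.2 * p.2).sum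

/-- the product of the degrees -/
def den (l : List (ℤ × ℤ)) : ℤ := (l.map fun p => (p.1.natAbs : ℤ)).prod

/-- the product of the degrees times the sum over the block -/
def num (l : List (ℤ × ℤ)) : ℤ :=
  den l + (l.map fun p => sg p.1 * (p.2 * p.2) * (den l / (p.1.natAbs : ℤ))).sum

/-- the squares of the pair count -/
def squareOk (k C : ℕ) (l : List (ℤ × ℤ)) : Bool :=
  (List.range (k + 1)).any fun x : ℕ =>
    decide ((5 : ℤ) * 244823040 * ((x : ℤ) * x) * den l =
      (k : ℤ) * (((244823040 / C : ℕ) : ℤ) * ((244823040 / C : ℕ) : ℤ)) * num l)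

/-- the checks on a full choice -/
def final (k C : ℕ) (l : List (ℤ × ℤ)) : Bool :=
  decide (lin l = 0) && decide (sq l ≤ (C : ℤ)) && squareOk k C l

/-- Is there a choice of values passing the checks? -/
def srch (k C : ℕ) : List ℤ → List (ℤ × ℤ) → Bool
  | [], acc => final k C acc
  | [x], acc =>
    let z := -(sg x * lin acc)
    zok C x z && final k C ((x, z) :: acc)
  | x :: y :: l, acc => (zlist C x).any fun z => srch k C (y :: l) ((x, z) :: acc)

theorem srch_sound {k C : ℕ} (hC : C ≤ 15646) : ∀ (l acc : List (ℤ × ℤ)), (∀ p ∈ l, zok C p.1 p.2 = true) →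
    final k C (l.reverse ++ acc) = true → srch k C (l.map Prod.fst) acc = true
  | [], acc, _, h => by simpa [srch] using h
  | [(x, z)], acc, hz, h => by
    have hl : lin ((x, z) :: acc) = 0 := by
      simp only [final, Bool.and_eq_true, decide_eq_true_eq, List.reverse_singleton, List.singleton_append] at h
      exact h.1.1
    have hz' : -(sg x * lin acc) = z := by
      simp only [lin, List.map_cons, List.sum_cons] at hl ⊢
      have hsg : sg x = 1 ∨ sg x = -1 := by unfold sg; split <;> simp
      rcases hsg with e | e <;> rw [e] at hl ⊢ <;> linarith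
    simp only [List.map_cons, List.map_nil, srch, Bool.and_eq_true, hz']
    exact ⟨hz (x, z) (by simp), by simpa using h⟩
  | (x, z) :: (y, w) :: l, acc, hz, h => by
    simp only [List.map_cons, srch, List.any_eq_true]
    refine ⟨z, mem_zlist hC (hz (x, z) (by simp)), ?_⟩
    have := srch_sound hC ((y, w) :: l) ((x, z) :: acc) (fun p hp => hz p (List.mem_cons_of_mem _ hp))
      (by simpa using h)
    simpa using this

/-- the possible orders of the centraliser of the involution -/
def cents : List ℕ := ((List.range 1565).map fun i => 10 * (i + 1)).filter fun C => 967680 % C == 0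

theorem mem_cents {C : ℕ} (h : C ∣ 967680) (h10 : 10 ∣ C) (hle : C ≤ 15646) : C ∈ cents := by
  obtain ⟨i, rfl⟩ := h10
  have hi : 0 < i := Nat.pos_of_ne_zero fun h0 => by rw [h0] at h; norm_num at h
  refine List.mem_filter.2 ⟨List.mem_map.2 ⟨i - 1, List.mem_range.2 (by omega), by omega⟩, ?_⟩
  simp [Nat.mod_eq_zero_of_dvd h]

/-- the row of degrees of the Mathieu group -/
def rowA : List ℤ := [1771, -2024, -5544, 5796]

/-- the other row -/
def rowB : List ℤ := [506, -759, -5544, 5796]

/-- the centraliser orders left for the other row -/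
def listB : List (ℕ × ℕ) := [(3840, 32), (7680, 12), (7680, 192), (15360, 192)]

/-- the row is one of the two that are left -/
def allowed (k C : ℕ) (r : List ℤ) : Bool :=
  (r.isPerm rowA && (k == 12 || k == 192)) || (r.isPerm rowB && listB.contains (C, k))

end Cfsg.Agent.MTwentyFour.ByOrder.FiveRow
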