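import Cfsg.Agent.Lib.Spor.MTwentyFourOrder.ThreeCase.Sound

/-!
The arithmetic of the block of twenty-three against the blocks of five: pairs of a degree and a value at the element
of order five, the blocks of five containing a given pair, and the check of the lists closed under them.
-/

set_option autoImplicit false
set_option maxRecDepth 100000
set_option maxHeartbeats 1000000

namespace Cfsg.Agent.MTwentyFour.ByOrder.FiveSide

open Cfsg.Agent.MTwentyFour.ByOrder.ThreeCase (It go prep c23 wt nd ordM s11 arrange go_sound arrange_perm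
  arrange_pairwise arrange_map sL sQ sB sM)

/-- a degree and a value at the element of order five -/
abbrev Pr := ℕ × ℤ

/-- the degree lies in the principal block of twenty-three -/
def b23 (x : Pr) : Bool := x.1 % 23 != 0

/-- the degree is that of an exceptional member of that block -/
def exc (x : Pr) : Bool := x.1 % 23 == 11 || x.1 % 23 == 12

/-- the degree with the sign of the value -/
def xv (x : Pr) : ℤ := if x.2 < 0 then -(x.1 : ℤ) else x.1

/-- the value at eleven with the sign of the value -/
def av (x : Pr) : ℤ := if x.2 < 0 then -s11 x.1 else s11 x.1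

/-- the degrees prime to five -/
def dv5 : List ℕ :=
  [12, 22, 231, 252, 253, 264, 276, 483, 506, 528, 736, 759, 1012, 1024, 1242, 1288, 1518, 1771, 2024, 2277, 2772,
    3024, 3036, 3312, 3542, 4048, 4554, 5313, 5544, 5796, 6072, 6336, 6831, 7084, 8096, 8832, 9108, 9856, 10626,
    12144, 12672, 13662, 14168, 15456]

/-- what the squares of the known degrees leave -/
def room : ℕ := ordM - (1 + 5544 * 5544 + 5796 * 5796)

/-- the conditions on a value -/
def fok (k d : ℕ) (f : ℤ) : Bool :=
  decide (f * f ≤ 5 * (k : ℤ) - 5) && decide (((d : ℤ) - f) % 5 = 0) && decide (f ≤ FiveRow.mOf d) &&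
    decide (0 ≤ FiveRow.mOf d + 4 * f) && decide ((((ordM / (5 * k) : ℕ) : ℤ) * f) % (d : ℤ) = 0)

/-- the values -/
def opts (k d : ℕ) : List ℤ := ((List.range 63).map fun i : ℕ => (i : ℤ) - 31).filter (fok k d)

theorem mem_opts {k d : ℕ} (hk : k ≤ 192) {f : ℤ} (h : fok k d f = true) : f ∈ opts k d := by
  have h1 : f * f ≤ 5 * (k : ℤ) - 5 := by
    simp only [fok, Bool.and_eq_true, decide_eq_true_eq] at h
    exact h.1.1.1.1
  have hk' : (k : ℤ) ≤ 192 := by exact_mod_cast hk
  have hb : -31 ≤ f ∧ f ≤ 31 := by constructor <;> nlinarith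
  exact List.mem_filter.2 ⟨List.mem_map.2 ⟨(f + 31).toNat, List.mem_range.2 (by omega), by omega⟩, h⟩

/-- a possible member prime to five -/
def isItem (k : ℕ) (x : Pr) : Bool := dv5.contains x.1 && fok k x.1 x.2

theorem isItem_iff {k : ℕ} {x : Pr} : isItem k x = true ↔ x.1 ∈ dv5 ∧ fok k x.1 x.2 = true := by
  simp [isItem, List.contains_iff_mem]

theorem isItem_ne {k : ℕ} {x : Pr} (h : isItem k x = true) : x.2 ≠ 0 := by
  obtain ⟨hd, hf⟩ := isItem_iff.1 h
  intro h0
  simp only [fok, Bool.and_eq_true, decide_eq_true_eq, h0, sub_zero] at hf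
  have h5 : ∀ d ∈ dv5, d % 5 ≠ 0 := by decide +kernel
  have := h5 _ hd
  omega

theorem isItem_pos {k : ℕ} {x : Pr} (h : isItem k x = true) : 0 < x.1 := by
  have h5 : ∀ d ∈ dv5, 0 < d := by decide +kernel
  exact h5 _ (isItem_iff.1 h).1

/-- the members, by absolute value -/
abbrev CTbl := List (ℕ × List Pr)

/-- the members with a given absolute value -/
def cget : CTbl → ℕ → List Pr
  | [], _ => []
  | (w, l) :: ct, v => if w = v then l else cget ct v

/-- all possible members -/
def allItems (k : ℕ) : List Pr := dv5.flatMap fun d => (opts k d).map fun f => (d, f)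

theorem mem_allItems {k : ℕ} (hk : k ≤ 192) {x : Pr} (h : isItem k x = true) : x ∈ allItems k :=
  List.mem_flatMap.2 ⟨x.1, (isItem_iff.1 h).1, List.mem_map.2 ⟨x.2, mem_opts hk (isItem_iff.1 h).2, rfl⟩⟩

/-- all possible members are in the table -/
def ctOk (k : ℕ) (ct : CTbl) : Bool := (allItems k).all fun x => (cget ct x.2.natAbs).contains x

theorem mem_cget {k : ℕ} (hk : k ≤ 192) {ct : CTbl} (hct : ctOk k ct = true) {x : Pr} (h : isItem k x = true) :
    x ∈ cget ct x.2.natAbs :=
  List.contains_iff_mem.1 (List.all_eq_true.1 hct x (mem_allItems hk h))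

/-- the members of the block of twenty-three prime to five -/
def selfs (k : ℕ) : List Pr := (allItems k).filter b23

theorem mem_selfs {k : ℕ} (hk : k ≤ 192) {x : Pr} (h : isItem k x = true) (hb : b23 x = true) : x ∈ selfs k :=
  List.mem_filter.2 ⟨mem_allItems hk h, hb⟩

/-- the first list is contained in the second, with multiplicities -/
def subBag {α : Type} [DecidableEq α] : List α → List α → Bool
  | [], _ => true
  | a :: as, l => l.contains a && subBag as (l.erase a)

theorem subBag_of_le {α : Type} [DecidableEq α] : ∀ {A B : List α}, (A : Multiset α) ≤ (B : Multiset α) →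
    subBag A B = true
  | [], _, _ => rfl
  | a :: as, B, h => by
    have h0 : a ∈ (B : Multiset α) := Multiset.mem_of_le h (by simp)
    simp only [subBag, Bool.and_eq_true, List.contains_iff_mem]
    refine ⟨by simpa using h0, subBag_of_le ?_⟩
    rw [← Multiset.coe_erase]
    have h1 := Multiset.erase_le_erase a h
    simpa using h1

theorem le_of_subBag {α : Type} [DecidableEq α] : ∀ {A B : List α}, subBag A B = true →
    (A : Multiset α) ≤ (B : Multiset α)
  | [], _, _ => by simp
  | a :: as, B, h => by
    simp only [subBag, Bool.and_eq_true, List.contains_iff_mem] at h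
    have h1 := le_of_subBag h.2
    rw [← Multiset.coe_erase] at h1
    have h2 : a ∈ (B : Multiset α) := by simpa using h.1
    have h3 := Multiset.cons_le_cons a h1
    rwa [Multiset.cons_erase h2, Multiset.cons_coe] at h3

/-- every member passes, with the list from it on -/
def sufAll {α : Type} (g : α → List α → Bool) : List α → Bool
  | [] => true
  | a :: as => g a (a :: as) && sufAll g as

/-- all sorted lists of a given length from the candidates pass -/
def pick {α : Type} : ℕ → List α → List α → (List α → Bool) → Bool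
  | 0, _, acc, f => f acc
  | n + 1, cs, acc, f => sufAll (fun a rest => pick n rest (a :: acc) f) cs

theorem pick_sound {α : Type} [DecidableEq α] : ∀ (n : ℕ) (cs acc : List α) (f : List α → Bool) (m : Multiset α),
    m.card = n → (∀ a ∈ m, a ∈ cs) → pick n cs acc f = true →
    ∃ l : List α, (l : Multiset α) = m + (acc : Multiset α) ∧ f l = true
  | 0, cs, acc, f, m, hm, _, h => ⟨acc, by rw [Multiset.card_eq_zero.1 hm, zero_add], by simpa [pick] using h⟩
  | n + 1, cs, acc, f, m, hm, hmem, h => by
    simp only [pick] at h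
    induction cs with
    | nil =>
      obtain ⟨a, ha⟩ := Multiset.card_pos_iff_exists_mem.1 (show 0 < m.card by omega)
      exact absurd (hmem a ha) (List.not_mem_nil)
    | cons a as ih =>
      simp only [sufAll, Bool.and_eq_true] at h
      by_cases ha : a ∈ m
      · obtain ⟨l, hl, hf⟩ := pick_sound n (a :: as) (a :: acc) f (m.erase a)
          (by rw [Multiset.card_erase_of_mem ha, hm]; rfl) (fun b hb => hmem b (Multiset.mem_of_mem_erase hb)) h.1
        refine ⟨l, ?_, hf⟩
        rw [hl, ← Multiset.cons_coe, Multiset.add_cons, ← Multiset.cons_add, Multiset.cons_erase ha]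
      · exact ih (fun b hb => (List.mem_cons.1 (hmem b hb)).resolve_left fun e => ha (e ▸ hb)) h.2

/-- the exceptional members are at most two and equal -/
def gOK : List Pr → Bool
  | [] => true
  | [_] => true
  | [a, b] => a == b
  | _ => false

/-- the sums of squares fit and the exceptional members are in order -/
def valid (k : ℕ) (l : List Pr) : Bool :=
  decide ((l.map fun x => x.1 * x.1).sum ≤ room) && decide ((l.map fun x => x.2 * x.2).sum ≤ 5 * (k : ℤ) - 5) &&
    gOK (l.filter exc)

/-- the sums of squares fit and the exceptional members are in order -/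
def Valid (k : ℕ) (m : Multiset Pr) : Prop :=
  (m.map fun x => x.1 * x.1).sum ≤ room ∧ (m.map fun x => x.2 * x.2).sum ≤ 5 * (k : ℤ) - 5 ∧
    (m.filter fun x => exc x = true).card ≤ 2 ∧
    ∀ a ∈ m, ∀ b ∈ m, exc a = true → exc b = true → a = b

theorem valid_of {k : ℕ} {l : List Pr} (h : Valid k (l : Multiset Pr)) : valid k l = true := by
  obtain ⟨h1, h2, h3, h4⟩ := h
  simp only [Multiset.map_coe, Multiset.sum_coe, Multiset.filter_coe, Multiset.coe_card, Multiset.mem_coe] at h1 h2 h3 h4
  simp only [valid, Bool.and_eq_true, decide_eq_true_eq]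
  refine ⟨⟨h1, h2⟩, ?_⟩
  have h5 : ∀ a ∈ l.filter exc, ∀ b ∈ l.filter exc, a = b := fun a ha b hb => by
    obtain ⟨ha, ha'⟩ := List.mem_filter.1 ha
    obtain ⟨hb, hb'⟩ := List.mem_filter.1 hb
    exact h4 a ha b hb ha' hb'
  simp only [decide_eq_true_eq, Bool.decide_eq_true] at h3
  match he : l.filter exc, h3 with
  | [], _ => rfl
  | [_], _ => rfl
  | [a, b], _ => simp [gOK, h5 a (by simp [he]) b (by simp [he])]
  | _ :: _ :: _ :: _, h3 => simp at h3

/-- the lists of partners -/
abbrev Tbl := List (Pr × List (List Pr))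

/-- the lists of partners of a member -/
def reqOf (tb : Tbl) (x : Pr) : List (List Pr) := (tb.filter fun e => e.1 == x).flatMap Prod.snd

/-- a block with the given further members passes -/
def good (k : ℕ) (tb : Tbl) (x : Pr) (o : List Pr) : Bool :=
  !valid k (x :: o) || (reqOf tb x).any fun r => subBag r (o.filter b23)

/-- the blocks of one shape: some free members of one absolute value and a last one fixed by the sum -/
def run (k : ℕ) (ct : CTbl) (tb : Tbl) (x : Pr) (n v1 v2 mult : ℕ) (extra : List Pr) : Bool :=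
  pick n (cget ct v1) [] fun l =>
    let S := xv x + (l.map xv).sum
    let p : Pr := (S.natAbs, if S < 0 then (v2 : ℤ) else -(v2 : ℤ))
    !(decide (av x + (l.map av).sum + av p = 0) && (cget ct v2).contains p) ||
      good k tb x (extra ++ l ++ List.replicate mult p)

/-- all blocks of five of a member pass -/
def goodSelf (k : ℕ) (ct : CTbl) (tb : Tbl) (x : Pr) : Bool :=
  run k ct tb x 3 x.2.natAbs x.2.natAbs 1 [] &&
  (decide (x.2.natAbs % 2 ≠ 0) || run k ct tb x 1 x.2.natAbs (x.2.natAbs / 2) 2 []) &&
  run k ct tb x 1 (2 * x.2.natAbs) (2 * x.2.natAbs) 1 [x] &&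
  (decide (x.2.natAbs % 4 ≠ 0) || run k ct tb x 0 x.2.natAbs (x.2.natAbs / 4) 4 []) &&
  run k ct tb x 0 x.2.natAbs (4 * x.2.natAbs) 1 [x, x, x]

theorem run_sound {k : ℕ} (hk : k ≤ 192) {ct : CTbl} (hct : ctOk k ct = true) {tb : Tbl} {x : Pr} {n v1 v2 mult : ℕ} {extra : List Pr}
    (h : run k ct tb x n v1 v2 mult extra = true) (m : Multiset Pr) (hm : m.card = n)
    (hm' : ∀ a ∈ m, isItem k a = true ∧ a.2.natAbs = v1) (p : Pr) (hp : isItem k p = true) (hp' : p.2.natAbs = v2)
    (hx : xv x + (m.map xv).sum + xv p = 0) (ha : av x + (m.map av).sum + av p = 0)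
    (hV : Valid k (x ::ₘ ((extra : Multiset Pr) + m + Multiset.replicate mult p))) :
    ∃ r ∈ reqOf tb x, (r : Multiset Pr) ≤
      ((extra : Multiset Pr) + m + Multiset.replicate mult p).filter fun y => b23 y = true := by
  obtain ⟨l, hl, hf⟩ := pick_sound n _ [] _ m hm (fun a ha => (hm' a ha).2 ▸ mem_cget hk hct (hm' a ha).1) h
  rw [Multiset.coe_nil, add_zero] at hl
  subst hl
  simp only [Multiset.map_coe, Multiset.sum_coe] at hx ha
  generalize hS : xv x + (l.map xv).sum = S at hx hf
  have hne := isItem_ne hp
  have hpos := isItem_pos hp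
  have hpe : p = (S.natAbs, if S < 0 then (v2 : ℤ) else -(v2 : ℤ)) := by
    obtain ⟨d, f⟩ := p
    simp only [xv] at hx hne hpos hp'
    refine Prod.ext ?_ ?_
    · dsimp only; split_ifs at hx <;> omega
    · dsimp only; split_ifs at hx ⊢ <;> omega
  have hpc : (cget ct v2).contains p = true := List.contains_iff_mem.2 (hp' ▸ mem_cget hk hct hp)
  simp only [← hpe, hpc, decide_eq_true ha, Bool.and_self, Bool.not_true, Bool.false_or, good, Bool.or_eq_true,
    List.any_eq_true, Bool.not_eq_true'] at hf
  have he : ((extra ++ l ++ List.replicate mult p : List Pr) : Multiset Pr) =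
      (extra : Multiset Pr) + (l : Multiset Pr) + Multiset.replicate mult p := by
    rw [← Multiset.coe_replicate, Multiset.coe_add, Multiset.coe_add]
  rcases hf with hf | ⟨r, hr, hr'⟩
  · rw [valid_of (by rw [← Multiset.cons_coe, he]; exact hV)] at hf
    exact absurd hf (by simp)
  · refine ⟨r, hr, ?_⟩
    have := le_of_subBag hr'
    rw [← he, Multiset.filter_coe]
    simpa using this

/-- The partners of a member of a block of five: the exceptional members are one pair repeated. -/
theorem covered {k : ℕ} (hk : k ≤ 192) {ct : CTbl} (hct : ctOk k ct = true) {tb : Tbl} (ht : ∀ x ∈ selfs k, goodSelf k ct tb x = true) {e N : ℕ}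
    (he : e * N = 4) (X : Multiset Pr) (y : Pr) (hX : X.card = e)
    (hXi : ∀ a ∈ X, isItem k a = true ∧ a.2.natAbs = N * y.2.natAbs) (hy : isItem k y = true)
    (hs : (X.map xv).sum + xv y = 0) (ha : (X.map av).sum + av y = 0) {x : Pr}
    (hx : x ∈ X + Multiset.replicate N y) (hb : b23 x = true) (hV : Valid k (X + Multiset.replicate N y)) :
    ∃ r ∈ reqOf tb x, (r : Multiset Pr) ≤
      ((X + Multiset.replicate N y).erase x).filter fun a => b23 a = true := by
  have hN : e = 4 ∧ N = 1 ∨ e = 2 ∧ N = 2 ∨ e = 1 ∧ N = 4 := by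
    have h1 : e ≤ 4 := Nat.le_of_dvd (by norm_num) ⟨N, he.symm⟩
    interval_cases e <;> omega
  by_cases hxX : x ∈ X
  · obtain ⟨X', rfl⟩ := Multiset.exists_cons_of_mem hxX
    obtain ⟨hxi, hxv⟩ := hXi x (Multiset.mem_cons_self _ _)
    have hg := ht x (mem_selfs hk hxi hb)
    simp only [goodSelf, Bool.and_eq_true, Bool.or_eq_true, decide_eq_true_eq] at hg
    rw [Multiset.card_cons] at hX
    rw [Multiset.map_cons, Multiset.sum_cons] at hs ha
    rw [Multiset.cons_add, Multiset.erase_cons_head]
    rw [Multiset.cons_add] at hV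
    have hm' : ∀ a ∈ X', isItem k a = true ∧ a.2.natAbs = x.2.natAbs := fun a h =>
      ⟨(hXi a (Multiset.mem_cons_of_mem h)).1, by rw [(hXi a (Multiset.mem_cons_of_mem h)).2, hxv]⟩
    rcases hN with ⟨rfl, rfl⟩ | ⟨rfl, rfl⟩ | ⟨rfl, rfl⟩
    · simpa using run_sound hk hct hg.1.1.1.1 X' (by omega) hm' y hy (by omega) hs ha (by simpa using hV)
    · simpa using run_sound hk hct (hg.1.1.1.2.resolve_left (by omega)) X' (by omega) hm' y hy (by omega) hs ha
        (by simpa using hV)
    · simpa using run_sound hk hct (hg.1.2.resolve_left (by omega)) X' (by omega) hm' y hy (by omega) hs ha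
        (by simpa using hV)
  · have hxy : x = y := Multiset.eq_of_mem_replicate ((Multiset.mem_add.1 hx).resolve_left hxX)
    subst hxy
    have hg := ht x (mem_selfs hk hy hb)
    simp only [goodSelf, Bool.and_eq_true, Bool.or_eq_true, decide_eq_true_eq] at hg
    obtain ⟨a, haX⟩ := Multiset.card_pos_iff_exists_mem.1 (show 0 < X.card by
      rcases hN with h | h | h <;> omega)
    obtain ⟨X', rfl⟩ := Multiset.exists_cons_of_mem haX
    obtain ⟨hai, hav⟩ := hXi a (Multiset.mem_cons_self _ _)
    rw [Multiset.card_cons] at hX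
    rw [Multiset.map_cons, Multiset.sum_cons] at hs ha
    have hm' : ∀ b ∈ X', isItem k b = true ∧ b.2.natAbs = N * x.2.natAbs := fun b h =>
      hXi b (Multiset.mem_cons_of_mem h)
    have hre : ∀ M : ℕ, (a ::ₘ X') + Multiset.replicate (M + 1) x =
        x ::ₘ (Multiset.replicate M x + X' + Multiset.replicate 1 a) := fun M => by
      rw [Multiset.replicate_succ, Multiset.add_cons, Multiset.replicate_one, ← Multiset.singleton_add a X']
      congr 1
      abel
    have hn : N = (N - 1) + 1 := by rcases hN with h | h | h <;> omega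
    rw [hn, hre] at hV ⊢
    rw [Multiset.erase_cons_head]
    rcases hN with ⟨rfl, rfl⟩ | ⟨rfl, rfl⟩ | ⟨rfl, rfl⟩
    · exact run_sound hk hct hg.1.1.1.1 X' (by omega) (fun b h => by simpa using hm' b h) a hai (by omega)
        (by linarith) (by linarith) hV
    · exact run_sound hk hct hg.1.1.2 X' (by omega) (fun b h => by simpa using hm' b h) a hai (by omega)
        (by linarith) (by linarith) hV
    · obtain rfl : X' = 0 := Multiset.card_eq_zero.1 (by omega)
      exact run_sound hk hct hg.2 0 rfl (by simp) a hai (by omega) (by linarith) (by linarith) hV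

/-- the members with a list of partners among the given ones -/
def shrink (tb : Tbl) (S : List Pr) : List Pr :=
  S.filter fun x => (reqOf tb x).any fun r => r.all S.contains

/-- repeated shrinking -/
def shrinkN (tb : Tbl) : ℕ → List Pr → List Pr
  | 0, S => S
  | n + 1, S => shrinkN tb n (shrink tb S)

theorem shrink_sound (tb : Tbl) (R : Multiset Pr) (hR : ∀ x ∈ R, ∃ r ∈ reqOf tb x, (r : Multiset Pr) ≤ R.erase x) :
    ∀ (n : ℕ) (S : List Pr), (∀ x ∈ R, x ∈ S) → ∀ x ∈ R, x ∈ shrinkN tb n S
  | 0, _, h => h
  | n + 1, S, h => shrink_sound tb R hR n _ fun x hx => by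
    obtain ⟨r, hr, hle⟩ := hR x hx
    refine List.mem_filter.2 ⟨h x hx, List.any_eq_true.2 ⟨r, hr, List.all_eq_true.2 fun a ha => ?_⟩⟩
    exact List.contains_iff_mem.2 (h a (Multiset.mem_of_mem_erase (Multiset.mem_of_le hle (by simpa using ha))))

/-- the degrees of the block of twenty-three divisible by five, ordinary -/
def fills : List ℕ := [10395, 3840, 3520, 1540, 990, 45]

/-- the least signed degree -/
def low : List ℕ → ℤ
  | [] => 0
  | d :: ds => min (c23 d * d) (low ds)

/-- the largest signed degree -/
def high : List ℕ → ℤ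
  | [] => 0
  | d :: ds => max (c23 d * d) (high ds)

/-- Are there so many degrees with the given signed sum and bounded squares? -/
def fillOk : List ℕ → ℕ → ℤ → ℕ → Bool
  | [], r, T, _ => decide (r = 0) && decide (T = 0)
  | [d], r, T, R => decide (T = (r : ℤ) * (c23 d * d)) && decide (r * (d * d) ≤ R)
  | d :: e :: ds, r, T, R =>
    decide ((r : ℤ) * low (d :: e :: ds) ≤ T) && decide (T ≤ (r : ℤ) * high (d :: e :: ds)) &&
      (List.range (r + 1)).any fun c => decide (c * (d * d) ≤ R) &&
        fillOk (e :: ds) (r - c) (T - (c : ℤ) * (c23 d * d)) (R - c * (d * d))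

theorem low_high : ∀ (ds : List ℕ) (m : Multiset ℕ), (∀ a ∈ m, a ∈ ds) →
    (m.card : ℤ) * low ds ≤ (m.map fun a : ℕ => c23 a * (a : ℤ)).sum ∧
      (m.map fun a : ℕ => c23 a * (a : ℤ)).sum ≤ (m.card : ℤ) * high ds := by
  intro ds m h
  have hb : ∀ (ds : List ℕ), ∀ a ∈ ds, low ds ≤ c23 a * (a : ℤ) ∧ c23 a * (a : ℤ) ≤ high ds := by
    intro ds
    induction ds with
    | nil => simp
    | cons d ds ih =>
      intro a ha
      simp only [low, high]
      rcases List.mem_cons.1 ha with rfl | ha
      · exact ⟨min_le_left _ _, le_max_left _ _⟩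
      · exact ⟨(min_le_right _ _).trans (ih a ha).1, (ih a ha).2.trans (le_max_right _ _)⟩
  induction m using Multiset.induction with
  | empty => simp
  | cons a m ih =>
    obtain ⟨h1, h2⟩ := ih fun b hb => h b (Multiset.mem_cons_of_mem hb)
    obtain ⟨h3, h4⟩ := hb ds a (h a (Multiset.mem_cons_self _ _))
    simp only [Multiset.map_cons, Multiset.sum_cons, Multiset.card_cons, Nat.cast_add, Nat.cast_one, add_mul, one_mul]
    constructor <;> linarith

theorem fillOk_sound : ∀ (ds : List ℕ) (m : Multiset ℕ) (R : ℕ), (∀ a ∈ m, a ∈ ds) →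
    (m.map fun a => a * a).sum ≤ R → fillOk ds m.card (m.map fun a : ℕ => c23 a * (a : ℤ)).sum R = true
  | [], m, R, h, _ => by
    obtain rfl : m = 0 := Multiset.eq_zero_of_forall_notMem fun a ha => absurd (h a ha) (List.not_mem_nil)
    simp [fillOk]
  | [d], m, R, h, hR => by
    have hm : m = Multiset.replicate m.card d :=
      Multiset.eq_replicate_card.2 fun a ha => by simpa using h a ha
    generalize m.card = r at hm
    subst hm
    simp only [Multiset.map_replicate, Multiset.sum_replicate, smul_eq_mul, nsmul_eq_mul] at hR ⊢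
    simp [fillOk, hR]
  | d :: e :: ds, m, R, h, hR => by
    obtain ⟨h1, h2⟩ := low_high _ m h
    simp only [fillOk, Bool.and_eq_true, decide_eq_true_eq, List.any_eq_true, List.mem_range]
    refine ⟨⟨h1, h2⟩, m.count d, Nat.lt_succ_of_le (Multiset.count_le_card d m), ?_⟩
    have hsplit : m = Multiset.replicate (m.count d) d + m.filter (fun a => ¬a = d) := by
      rw [← Multiset.filter_eq', Multiset.filter_add_not]
    set m' := m.filter (fun a => ¬a = d) with hm'
    set c := m.count d
    have hmem : ∀ a ∈ m', a ∈ e :: ds := fun a ha =>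
      (List.mem_cons.1 (h a (Multiset.mem_filter.1 ha).1)).resolve_left (Multiset.mem_filter.1 ha).2
    have hc : m.card = c + m'.card := by rw [hsplit, Multiset.card_add, Multiset.card_replicate]
    have hsq : (m.map fun a => a * a).sum = c * (d * d) + (m'.map fun a => a * a).sum := by
      rw [hsplit, Multiset.map_add, Multiset.sum_add, Multiset.map_replicate, Multiset.sum_replicate, smul_eq_mul]
    have hT : (m.map fun a : ℕ => c23 a * (a : ℤ)).sum =
        (c : ℤ) * (c23 d * d) + (m'.map fun a : ℕ => c23 a * (a : ℤ)).sum := by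
      rw [hsplit, Multiset.map_add, Multiset.sum_add, Multiset.map_replicate, Multiset.sum_replicate, nsmul_eq_mul]
    rw [hsq] at hR
    refine ⟨by omega, ?_⟩
    rw [hc, Nat.add_sub_cancel_left, hT, add_sub_cancel_left]
    exact fillOk_sound (e :: ds) m' _ hmem (by omega)

/-- the degrees of the places -/
def rowDs (ord : List ℕ) (g : ℕ) (x : List ℕ) : List ℕ :=
  arrange id ord ((if g % 5 = 0 then [] else [g]) ++ x)

/-- members with their multiplicities -/
def expandP (L : List Pr) : List Pr := L.flatMap fun x => List.replicate (wt x.1).toNat x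

/-- the values left for a degree -/
def rowOpts (tb : Tbl) (live : List Pr) (R : List ℕ) (d : ℕ) : List ℤ :=
  ((live.filter fun p => p.1 == d).filter fun p =>
    (reqOf tb p).any fun r => r.all live.contains && subBag (r.map Prod.fst) (R.erase d)).map Prod.snd

/-- the places -/
def rowIts (tb : Tbl) (live : List Pr) (ds : List ℕ) : List It :=
  let R := ds.flatMap fun d => List.replicate (wt d).toNat d
  ds.map fun d => ⟨(d, 0), rowOpts tb live R d, c23 d, c23 d * nd d, wt d, 0⟩

/-- every member has its partners -/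
def closedP (tb : Tbl) (E : List Pr) : Bool := E.all fun p => (reqOf tb p).any fun r => subBag (p :: r) E

/-- Are there values closed under the blocks of five and kept? -/
def rowHit (k : ℕ) (tb : Tbl) (live : List Pr) (ds : List ℕ) (keep : List Pr → Bool) : Bool :=
  go (25 * k * k) 1 (5 * (k : ℤ) - 5) (prep (25 * k * k) 1 (rowIts tb live ds)) none 0 ((ordM : ℤ) + nd 5544) 0 0
    fun fs => closedP tb (expandP (ds.zip fs)) && keep (ds.zip fs)

/-- the degrees left can be filled -/
def fillRow (m : ℕ) (g : ℕ) (x : List ℕ) : Bool :=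
  let used := (x.map fun d => d * d).sum + 2 * (g * g)
  let T : ℤ := -(5545 + (x.map fun d => c23 d * (d : ℤ)).sum + c23 g * g)
  decide (used ≤ room) && decide (T % 5 = 0) && fillOk fills (9 - m) T (room - used)

/-- no list with this exceptional degree is kept -/
def rowsOk (k : ℕ) (tb : Tbl) (live : List Pr) (ord xs : List ℕ) (g : ℕ) (keep : List Pr → Bool) : Bool :=
  (List.range 10).all fun m => pick m xs [] fun x => !fillRow m g x || !rowHit k tb live (rowDs ord g x) keep

end Cfsg.Agent.MTwentyFour.ByOrder.FiveSide
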