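import Cfsg.Agent.Lib.Spor.MTwentyFourOrder.FiveSideTableThirtyTwo

/-!
The partners, for a centraliser of order one hundred and sixty.
-/

set_option autoImplicit false
set_option maxRecDepth 100000
set_option maxHeartbeats 4000000
set_option Elab.async false

namespace Cfsg.Agent.MTwentyFour.ByOrder.FiveSide

theorem goodSelfSndThirtyTwo0 :
    (((selfsThirtyTwo.drop 19).drop 0).take 3).all (goodSelf 32 ctThirtyTwo tblThirtyTwo) = true := by
  decide +kernel

theorem goodSelfSndThirtyTwo3 :
    (((selfsThirtyTwo.drop 19).drop 3).take 3).all (goodSelf 32 ctThirtyTwo tblThirtyTwo) = true := by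
  decide +kernel

theorem goodSelfSndThirtyTwo6 :
    (((selfsThirtyTwo.drop 19).drop 6).take 3).all (goodSelf 32 ctThirtyTwo tblThirtyTwo) = true := by
  decide +kernel

theorem goodSelfSndThirtyTwo9 :
    (((selfsThirtyTwo.drop 19).drop 9).take 3).all (goodSelf 32 ctThirtyTwo tblThirtyTwo) = true := by
  decide +kernel

theorem goodSelfSndThirtyTwo12 :
    (((selfsThirtyTwo.drop 19).drop 12).take 3).all (goodSelf 32 ctThirtyTwo tblThirtyTwo) = true := by
  decide +kernel

theorem goodSelfSndThirtyTwo15 :
    (((selfsThirtyTwo.drop 19).drop 15).take 3).all (goodSelf 32 ctThirtyTwo tblThirtyTwo) = true := by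
  decide +kernel

theorem goodSelfSndThirtyTwo18 :
    (((selfsThirtyTwo.drop 19).drop 18).take 3).all (goodSelf 32 ctThirtyTwo tblThirtyTwo) = true := by
  decide +kernel

/-- These members pass. -/
theorem goodSelfSndThirtyTwo : (selfsThirtyTwo.drop 19).all (goodSelf 32 ctThirtyTwo tblThirtyTwo) = true := by
  rw [show selfsThirtyTwo.drop 19 =
      (((selfsThirtyTwo.drop 19).drop 0).take 3) ++
      (((selfsThirtyTwo.drop 19).drop 3).take 3) ++
      (((selfsThirtyTwo.drop 19).drop 6).take 3) ++
      (((selfsThirtyTwo.drop 19).drop 9).take 3) ++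
      (((selfsThirtyTwo.drop 19).drop 12).take 3) ++
      (((selfsThirtyTwo.drop 19).drop 15).take 3) ++
      (((selfsThirtyTwo.drop 19).drop 18).take 3) by decide +kernel]
  simp only [List.all_append, Bool.and_self,
    goodSelfSndThirtyTwo0,
    goodSelfSndThirtyTwo3,
    goodSelfSndThirtyTwo6,
    goodSelfSndThirtyTwo9,
    goodSelfSndThirtyTwo12,
    goodSelfSndThirtyTwo15,
    goodSelfSndThirtyTwo18]

end Cfsg.Agent.MTwentyFour.ByOrder.FiveSide
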