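import Cfsg.Agent.Lib.Spor.MTwentyFourOrder.FiveSideTableTwelve

/-!
The partners, for a centraliser of order sixty.
-/

set_option autoImplicit false
set_option maxRecDepth 100000
set_option maxHeartbeats 4000000
set_option Elab.async false

namespace Cfsg.Agent.MTwentyFour.ByOrder.FiveSide

theorem goodSelfSndTwelve0 :
    (((selfsTwelve.drop 15).drop 0).take 3).all (goodSelf 12 ctTwelve tblTwelve) = true := by
  decide +kernel

theorem goodSelfSndTwelve3 :
    (((selfsTwelve.drop 15).drop 3).take 3).all (goodSelf 12 ctTwelve tblTwelve) = true := by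
  decide +kernel

theorem goodSelfSndTwelve6 :
    (((selfsTwelve.drop 15).drop 6).take 3).all (goodSelf 12 ctTwelve tblTwelve) = true := by
  decide +kernel

theorem goodSelfSndTwelve9 :
    (((selfsTwelve.drop 15).drop 9).take 3).all (goodSelf 12 ctTwelve tblTwelve) = true := by
  decide +kernel

theorem goodSelfSndTwelve12 :
    (((selfsTwelve.drop 15).drop 12).take 3).all (goodSelf 12 ctTwelve tblTwelve) = true := by
  decide +kernel

theorem goodSelfSndTwelve15 :
    (((selfsTwelve.drop 15).drop 15).take 3).all (goodSelf 12 ctTwelve tblTwelve) = true := by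
  decide +kernel

/-- These members pass. -/
theorem goodSelfSndTwelve : (selfsTwelve.drop 15).all (goodSelf 12 ctTwelve tblTwelve) = true := by
  rw [show selfsTwelve.drop 15 =
      (((selfsTwelve.drop 15).drop 0).take 3) ++
      (((selfsTwelve.drop 15).drop 3).take 3) ++
      (((selfsTwelve.drop 15).drop 6).take 3) ++
      (((selfsTwelve.drop 15).drop 9).take 3) ++
      (((selfsTwelve.drop 15).drop 12).take 3) ++
      (((selfsTwelve.drop 15).drop 15).take 3) by decide +kernel]
  simp only [List.all_append, Bool.and_self,
    goodSelfSndTwelve0,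
    goodSelfSndTwelve3,
    goodSelfSndTwelve6,
    goodSelfSndTwelve9,
    goodSelfSndTwelve12,
    goodSelfSndTwelve15]

end Cfsg.Agent.MTwentyFour.ByOrder.FiveSide
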