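import Cfsg.Agent.Lib.Spor.MTwentyFourOrder.FiveSideTableThirtyTwo

/-!
The lists left for a centraliser of order one hundred and sixty.
-/

set_option autoImplicit false
set_option maxRecDepth 100000
set_option maxHeartbeats 4000000
set_option Elab.async false

namespace Cfsg.Agent.MTwentyFour.ByOrder.FiveSide

/-- Every list is among those left. -/
theorem rowsThirtyTwo : ∀ d ∈ gsThirtyTwo,
    rowsOk 32 tblThirtyTwo liveThirtyTwo ordThirtyTwo xsThirtyTwo d (fun L => !survThirtyTwo.contains L) = true := by
  decide +kernel

end Cfsg.Agent.MTwentyFour.ByOrder.FiveSide
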