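import Cfsg.Agent.Lib.Spor.MTwentyFourOrder.FiveSideTableTwelve

/-!
The lists left for a centraliser of order sixty.
-/

set_option autoImplicit false
set_option maxRecDepth 100000
set_option maxHeartbeats 4000000
set_option Elab.async false

namespace Cfsg.Agent.MTwentyFour.ByOrder.FiveSide

/-- Every list is among those left. -/
theorem rowsTwelve : ∀ d ∈ gsTwelve,
    rowsOk 12 tblTwelve liveTwelve ordTwelve xsTwelve d (fun L => !survTwelve.contains L) = true := by
  decide +kernel

end Cfsg.Agent.MTwentyFour.ByOrder.FiveSide
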