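import Cfsg.Agent.Lib.Spor.MTwentyFourOrder.FiveSideTableThirtyTwo

/-!
The tables for a centraliser of order one hundred and sixty: partners and lists.
-/

set_option autoImplicit false
set_option maxRecDepth 100000
set_option maxHeartbeats 4000000
set_option Elab.async false

namespace Cfsg.Agent.MTwentyFour.ByOrder.FiveSide

theorem goodSelfFstThirtyTwo0 :
    (((selfsThirtyTwo.take 19).drop 0).take 3).all (goodSelf 32 ctThirtyTwo tblThirtyTwo) = true := by
  decide +kernel

theorem goodSelfFstThirtyTwo3 :
    (((selfsThirtyTwo.take 19).drop 3).take 3).all (goodSelf 32 ctThirtyTwo tblThirtyTwo) = true := by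
  decide +kernel

theorem goodSelfFstThirtyTwo6 :
    (((selfsThirtyTwo.take 19).drop 6).take 3).all (goodSelf 32 ctThirtyTwo tblThirtyTwo) = true := by
  decide +kernel

theorem goodSelfFstThirtyTwo9 :
    (((selfsThirtyTwo.take 19).drop 9).take 3).all (goodSelf 32 ctThirtyTwo tblThirtyTwo) = true := by
  decide +kernel

theorem goodSelfFstThirtyTwo12 :
    (((selfsThirtyTwo.take 19).drop 12).take 3).all (goodSelf 32 ctThirtyTwo tblThirtyTwo) = true := by
  decide +kernel

theorem goodSelfFstThirtyTwo15 :
    (((selfsThirtyTwo.take 19).drop 15).take 3).all (goodSelf 32 ctThirtyTwo tblThirtyTwo) = true := by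
  decide +kernel

theorem goodSelfFstThirtyTwo18 :
    (((selfsThirtyTwo.take 19).drop 18).take 3).all (goodSelf 32 ctThirtyTwo tblThirtyTwo) = true := by
  decide +kernel

/-- These members pass. -/
theorem goodSelfFstThirtyTwo : (selfsThirtyTwo.take 19).all (goodSelf 32 ctThirtyTwo tblThirtyTwo) = true := by
  rw [show selfsThirtyTwo.take 19 =
      (((selfsThirtyTwo.take 19).drop 0).take 3) ++
      (((selfsThirtyTwo.take 19).drop 3).take 3) ++
      (((selfsThirtyTwo.take 19).drop 6).take 3) ++
      (((selfsThirtyTwo.take 19).drop 9).take 3) ++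
      (((selfsThirtyTwo.take 19).drop 12).take 3) ++
      (((selfsThirtyTwo.take 19).drop 15).take 3) ++
      (((selfsThirtyTwo.take 19).drop 18).take 3) by decide +kernel]
  simp only [List.all_append, Bool.and_self,
    goodSelfFstThirtyTwo0,
    goodSelfFstThirtyTwo3,
    goodSelfFstThirtyTwo6,
    goodSelfFstThirtyTwo9,
    goodSelfFstThirtyTwo12,
    goodSelfFstThirtyTwo15,
    goodSelfFstThirtyTwo18]

/-- The members in the block of twenty-three. -/
theorem selfsEqThirtyTwo : selfs 32 = selfsThirtyTwo := by
  decide +kernel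

/-- All members are listed by absolute value. -/
theorem ctOkThirtyTwo : ctOk 32 ctThirtyTwo = true := by
  decide +kernel

/-- The members left after shrinking. -/
theorem liveEqThirtyTwo : shrinkN tblThirtyTwo 2 (selfs 32) = liveThirtyTwo := by
  decide +kernel


end Cfsg.Agent.MTwentyFour.ByOrder.FiveSide
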