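import Cfsg.Agent.Lib.Spor.MTwentyFourOrder.FiveSideTableTwelve

/-!
The tables for a centraliser of order sixty: partners and lists.
-/

set_option autoImplicit false
set_option maxRecDepth 100000
set_option maxHeartbeats 4000000
set_option Elab.async false

namespace Cfsg.Agent.MTwentyFour.ByOrder.FiveSide

theorem goodSelfFstTwelve0 :
    (((selfsTwelve.take 15).drop 0).take 3).all (goodSelf 12 ctTwelve tblTwelve) = true := by
  decide +kernel

theorem goodSelfFstTwelve3 :
    (((selfsTwelve.take 15).drop 3).take 3).all (goodSelf 12 ctTwelve tblTwelve) = true := by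
  decide +kernel

theorem goodSelfFstTwelve6 :
    (((selfsTwelve.take 15).drop 6).take 3).all (goodSelf 12 ctTwelve tblTwelve) = true := by
  decide +kernel

theorem goodSelfFstTwelve9 :
    (((selfsTwelve.take 15).drop 9).take 3).all (goodSelf 12 ctTwelve tblTwelve) = true := by
  decide +kernel

theorem goodSelfFstTwelve12 :
    (((selfsTwelve.take 15).drop 12).take 3).all (goodSelf 12 ctTwelve tblTwelve) = true := by
  decide +kernel

/-- These members pass. -/
theorem goodSelfFstTwelve : (selfsTwelve.take 15).all (goodSelf 12 ctTwelve tblTwelve) = true := by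
  rw [show selfsTwelve.take 15 =
      (((selfsTwelve.take 15).drop 0).take 3) ++
      (((selfsTwelve.take 15).drop 3).take 3) ++
      (((selfsTwelve.take 15).drop 6).take 3) ++
      (((selfsTwelve.take 15).drop 9).take 3) ++
      (((selfsTwelve.take 15).drop 12).take 3) by decide +kernel]
  simp only [List.all_append, Bool.and_self,
    goodSelfFstTwelve0,
    goodSelfFstTwelve3,
    goodSelfFstTwelve6,
    goodSelfFstTwelve9,
    goodSelfFstTwelve12]

/-- The members in the block of twenty-three. -/
theorem selfsEqTwelve : selfs 12 = selfsTwelve := by
  decide +kernel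

/-- All members are listed by absolute value. -/
theorem ctOkTwelve : ctOk 12 ctTwelve = true := by
  decide +kernel

/-- The members left after shrinking. -/
theorem liveEqTwelve : shrinkN tblTwelve 2 (selfs 12) = liveTwelve := by
  decide +kernel


end Cfsg.Agent.MTwentyFour.ByOrder.FiveSide
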