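import Cfsg.Agent.Lib.Spor.MTwentyFourOrder.FiveSideArith

/-!
The partners in blocks of five for a centraliser of order one hundred and sixty, and the lists they leave.
-/

set_option autoImplicit false
set_option maxRecDepth 100000
set_option maxHeartbeats 4000000
set_option Elab.async false

namespace Cfsg.Agent.MTwentyFour.ByOrder.FiveSide

/-- the possible members, by absolute value -/
def ctThirtyTwo : CTbl :=
  [(1, [(231, 1), (264, -1), (276, 1), (506, 1), (736, 1), (759, -1), (1771, 1), (2024, -1), (3024, -1),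
    (3036, 1), (4554, -1), (5544, -1), (5796, 1), (6831, 1), (7084, -1), (8096, 1), (10626, 1), (12144, -1),
    (15456, 1)]), (2, [(12, 2), (22, 2), (252, 2), (253, -2), (483, -2), (528, -2), (1012, 2), (1242, 2),
    (1288, -2), (1518, -2), (2277, 2), (2772, 2), (3312, 2), (3542, 2), (4048, -2), (5313, -2), (6072, 2),
    (9108, -2), (13662, 2), (14168, -2)]), (3, [(252, -3), (253, 3), (483, 3), (528, 3), (1012, -3), (1242, -3),
    (1288, 3), (1518, 3), (2277, -3), (2772, -3), (3312, -3), (3542, -3), (4048, 3), (5313, 3), (6072, -3),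
    (9108, 3), (13662, -3), (14168, 3)]), (4, [(231, -4), (264, 4), (276, -4), (506, -4), (736, -4), (759, 4),
    (1771, -4), (2024, 4), (3024, 4), (3036, -4), (4554, 4), (5544, 4), (5796, -4), (6336, -4), (6831, -4),
    (7084, 4), (8096, -4), (9856, -4), (10626, -4), (12144, 4), (15456, -4)]), (6, [(231, 6), (264, -6), (276, 6),
    (506, 6), (736, 6), (759, -6), (1771, 6), (2024, -6), (3024, -6), (3036, 6), (4554, -6), (5544, -6),
    (5796, 6), (6336, 6), (6831, 6), (7084, -6), (8096, 6), (10626, 6), (12144, -6), (15456, 6)]), (7, [(252, 7),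
    (483, -7), (528, -7), (1012, 7), (1242, 7), (1288, -7), (1518, -7), (2277, 7), (2772, 7), (3312, 7),
    (3542, 7), (4048, -7), (5313, -7), (6072, 7), (9108, -7), (13662, 7), (14168, -7)]), (8, [(253, 8), (483, 8),
    (528, 8), (1012, -8), (1242, -8), (1288, 8), (1518, 8), (2277, -8), (2772, -8), (3312, -8), (3542, -8),
    (4048, 8), (5313, 8), (6072, -8), (8832, -8), (9108, 8), (12672, -8), (13662, -8), (14168, 8)]), (9,
    [(264, 9), (506, -9), (736, -9), (759, 9), (1771, -9), (2024, 9), (3024, 9), (3036, -9), (4554, 9), (5544, 9),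
    (5796, -9), (6831, -9), (7084, 9), (8096, -9), (10626, -9), (12144, 9), (15456, -9)]), (11, [(231, 11),
    (276, 11), (506, 11), (736, 11), (759, -11), (1771, 11), (2024, -11), (3024, -11), (3036, 11), (4554, -11),
    (5544, -11), (5796, 11), (6831, 11), (7084, -11), (8096, 11), (10626, 11), (12144, -11), (15456, 11)]), (12,
    [(252, 12), (528, -12), (1012, 12), (1242, 12), (1288, -12), (1518, -12), (2277, 12), (2772, 12), (3312, 12),
    (3542, 12), (4048, -12), (5313, -12), (6072, 12), (8832, 12), (9108, -12), (12672, 12), (13662, 12),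
    (14168, -12)])]

/-- the possible members in the block of twenty-three -/
def selfsThirtyTwo : List Pr :=
  [(12, 2), (22, 2), (231, -4), (231, 1), (231, 6), (231, 11), (252, -3), (252, 2), (252, 7), (252, 12),
    (264, -6), (264, -1), (264, 4), (264, 9), (528, -12), (528, -7), (528, -2), (528, 3), (528, 8), (2772, -8),
    (2772, -3), (2772, 2), (2772, 7), (2772, 12), (3024, -11), (3024, -6), (3024, -1), (3024, 4), (3024, 9),
    (5544, -11), (5544, -6), (5544, -1), (5544, 4), (5544, 9), (6336, -4), (6336, 6), (9856, -4), (12672, -8),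
    (12672, 12)]

/-- the lists of partners -/
def tblThirtyTwo : Tbl :=
  [((12, 2), [[(12, 2), (22, 2)], [(12, 2), (252, 2)]]), ((22, 2), [[(528, -2)], [(12, 2), (12, 2)], [(231, 1),
    (231, 1)], [(2772, 2), (2772, 2)]]), ((231, -4), [[(5544, 4)], [(528, -2), (528, -2)], [(231, 1), (231, 1),
    (231, 1), (231, 1)]]), ((231, 1), [[(5544, -1)], [(22, 2), (231, 1)], [(231, 1), (252, 2)], [(231, -4),
    (231, 1), (231, 1), (231, 1)]]), ((231, 6), [[(5544, -6)], [(528, 3), (528, 3)]]), ((252, -3), [[(528, 3)],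
    [(252, -3), (5544, -6)], [(2772, -3), (2772, -3)]]), ((252, 2), [[(528, -2)], [(12, 2), (12, 2)], [(231, 1),
    (231, 1)], [(252, 2), (5544, 4)], [(2772, 2), (2772, 2)]]), ((264, -6), [[(264, -6), (528, 3), (528, 3)]]),
    ((264, -1), [[(264, -1), (5544, -1)]]), ((264, 4), [[(264, 4), (5544, 4)], [(264, 4), (528, -2), (528, -2)]]),
    ((528, -2), [[(22, 2)], [(252, 2)], [(231, -4), (528, -2)], [(5544, -1), (5544, -1)], [(264, 4), (264, 4),
    (528, -2)], [(528, -2), (528, -2), (528, -2), (528, 8)]]), ((528, 3), [[(252, -3)], [(231, 6), (528, 3)],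
    [(264, -6), (264, -6), (528, 3)]]), ((528, 8), [[(528, -2), (528, -2), (528, -2), (528, -2)]]), ((2772, -3),
    [[(252, -3), (2772, -3)]]), ((2772, 2), [[(22, 2), (2772, 2)], [(252, 2), (2772, 2)], [(2772, 2), (5544, -1),
    (5544, -1)]]), ((3024, -1), [[(3024, -1), (5544, -1)]]), ((3024, 4), [[(3024, 4), (5544, 4)]]), ((5544, -6),
    [[(231, 6)], [(252, -3), (252, -3)]]), ((5544, -1), [[(231, 1)], [(264, -1), (264, -1)], [(528, -2),
    (5544, -1)], [(3024, -1), (3024, -1)], [(2772, 2), (2772, 2), (5544, -1)], [(5544, -1), (5544, -1),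
    (5544, -1), (5544, 4)]]), ((5544, 4), [[(231, -4)], [(252, 2), (252, 2)], [(264, 4), (264, 4)], [(3024, 4),
    (3024, 4)], [(5544, -1), (5544, -1), (5544, -1), (5544, -1)]])]

/-- the members left after shrinking -/
def liveThirtyTwo : List Pr :=
  [(12, 2), (22, 2), (231, -4), (231, 1), (231, 6), (252, -3), (252, 2), (264, -6), (264, -1), (264, 4),
    (528, -2), (528, 3), (528, 8), (2772, -3), (2772, 2), (3024, -1), (3024, 4), (5544, -6), (5544, -1),
    (5544, 4)]

/-- the order of search -/
def ordThirtyTwo : List ℕ := [3024, 528, 264, 5544, 12, 252, 2772, 22, 231]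

/-- the ordinary degrees left, prime to five -/
def xsThirtyTwo : List ℕ := [22, 231, 252, 528, 5544]

/-- the exceptional degrees left -/
def gsThirtyTwo : List ℕ := [12, 264, 2772, 3024, 495, 540, 770, 1760, 11880]

/-- the lists left -/
def survThirtyTwo : List (List Pr) :=
  [[(528, -2), (528, -2), (528, 3), (528, 3), (12, 2), (22, 2), (231, -4), (231, 6)], [(528, -2), (528, -2),
    (528, 3), (528, 3), (22, 2), (22, 2), (231, 6)], [(528, -2), (528, -2), (528, 3), (528, 3), (231, -4),
    (231, 6)], [(528, -2), (528, -2), (528, 3), (528, 3), (252, 2), (22, 2), (231, 6)], [(528, -2), (528, -2),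
    (528, 3), (528, 3), (264, 4), (22, 2), (231, -4), (231, 6), (231, 6)], [(528, -2), (528, -2), (528, 3),
    (528, 3), (264, 4), (22, 2), (231, 1), (231, 1), (231, 6)], [(528, -2), (528, -2), (528, 3), (528, 3),
    (264, 4), (231, 6)], [(528, -2), (5544, -1), (12, 2), (22, 2), (22, 2), (231, 1)], [(528, -2), (5544, -1),
    (12, 2), (252, 2), (22, 2), (231, 1)], [(528, -2), (5544, -1), (22, 2), (22, 2), (231, 1), (231, 1),
    (231, 1)], [(528, -2), (5544, -1), (22, 2), (231, 1)], [(528, -2), (5544, -1), (252, 2), (22, 2), (231, 1),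
    (231, 1), (231, 1)], [(528, -2), (5544, -1), (252, 2), (231, 1)], [(528, -2), (5544, -1), (252, 2), (252, 2),
    (2772, 2), (231, 1)], [(528, -2), (5544, -1), (252, 2), (2772, 2), (22, 2), (231, 1)], [(528, -2), (5544, -1),
    (2772, 2), (22, 2), (22, 2), (231, 1)], [(528, 3), (528, 3), (12, 2), (252, -3), (252, -3), (22, 2)],
    [(528, 3), (528, 3), (252, -3), (252, -3)], [(528, 3), (528, 3), (252, -3), (252, -3), (22, 2), (231, 1),
    (231, 1)], [(528, 3), (528, 3), (252, -3), (252, -3), (2772, 2), (22, 2)], [(528, 3), (528, 3), (252, -3),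
    (2772, -3), (22, 2), (231, 1), (231, 1), (231, 6)], [(528, 3), (528, 3), (252, -3), (2772, -3), (231, 6)],
    [(528, 3), (528, 3), (264, -6)], [(528, 3), (528, 3), (264, -6), (22, 2), (231, 1), (231, 1)], [(528, 3),
    (528, 3), (264, -6), (231, -4), (231, 1), (231, 1), (231, 1), (231, 1)], [(528, 3), (528, 3), (264, -6),
    (252, 2), (231, 1), (231, 1)], [(528, 3), (528, 3), (264, -6), (5544, -6), (252, -3), (252, -3)], [(528, 3),
    (528, 3), (264, -6), (5544, 4), (22, 2), (231, -4), (231, 1), (231, 1)], [(528, 3), (528, 3), (264, -6),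
    (5544, 4), (231, -4)], [(528, 3), (528, 3), (264, -6), (5544, 4), (252, 2), (252, 2)], [(528, 3), (528, 3),
    (264, -1), (5544, -1), (22, 2), (231, 1), (231, 1), (231, 6)], [(528, 3), (528, 3), (264, -1), (5544, -1),
    (231, 6)], [(528, 3), (528, 3), (264, 4), (5544, 4), (252, -3), (252, -3)], [(528, 3), (528, 3), (5544, -6),
    (12, 2), (22, 2), (231, 6), (231, 6)], [(528, 3), (528, 3), (5544, -6), (22, 2), (231, 1), (231, 1), (231, 6),
    (231, 6)], [(528, 3), (528, 3), (5544, -6), (231, 6), (231, 6)], [(528, 3), (528, 3), (5544, -6), (2772, 2),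
    (22, 2), (231, 6), (231, 6)], [(528, 3), (528, 3), (5544, 4), (252, -3), (252, -3), (231, -4)], [(3024, 4),
    (528, -2), (5544, -1), (5544, 4), (252, 2), (231, 1)]]

end Cfsg.Agent.MTwentyFour.ByOrder.FiveSide
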