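import Cfsg.Agent.Lib.Spor.MTwentyFourOrder.FiveSideZedArith
import Cfsg.Agent.Lib.Spor.MTwentyFourOrder.FiveSideTableThirtyTwo

/-!
The values at the involution for a centraliser of order one hundred and sixty: those of the principal block are
fixed and none are left on the block of twenty-three.
-/

set_option autoImplicit false
set_option maxRecDepth 100000
set_option maxHeartbeats 4000000
set_option Elab.async false

namespace Cfsg.Agent.MTwentyFour.ByOrder.FiveSide

open Cfsg.Agent.MTwentyFour.ByOrder.ThreeCase (nd ordM)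

/-- the order of search -/
def ordZedThirtyTwo : List Pr :=
  [
    (3840, 0), (540, 0), (3520, 0), (12, 2), (45, 0), (10395, 0), (22, 2),
    (11880, 0), (1760, 0), (495, 0), (990, 0), (770, 0), (1540, 0), (3024, 4),
    (252, 2), (231, 1), (528, -2), (5544, -1), (5544, 4), (2772, 2), (231, -4),
    (231, 6), (252, -3), (264, -6), (264, -1), (264, 4), (528, 3), (2772, -3),
    (5544, -6)]

/-- the square of the number of inverters -/
def okSqB (k C : ℕ) (a b c d : ℤ) : Bool :=
  (List.range (k + 1)).any fun x : ℕ =>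
    decide ((5 : ℤ) * ((x : ℤ) * x) * ((ordM : ℤ) * ordM) =
      (k : ℤ) * (((ordM / C : ℕ) : ℤ) * ((ordM / C : ℕ) : ℤ)) *
        ((ordM : ℤ) + nd 506 * (a * a) - nd 759 * (b * b) - nd 5544 * (c * c) + nd 5796 * (d * d)))

/-- the values left on the principal block of five -/
def localThirtyTwo : List (List ℤ) :=
  (FiveRow.zlist 3840 506).flatMap fun a => (FiveRow.zlist 3840 (-759)).flatMap fun b =>
    (FiveRow.zlist 3840 (-5544)).flatMap fun c =>
      if FiveRow.zok 3840 5796 (-(1 + a - b - c)) &&
          decide (1 + a * a + b * b + c * c + (1 + a - b - c) * (1 + a - b - c) ≤ 3840) &&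
          okSqB 32 3840 a b c (-(1 + a - b - c)) then
        [[a, b, c, -(1 + a - b - c)]] else []

theorem local_table_thirty_two : ∀ l ∈ localThirtyTwo, l = [6, 19, -36, -24] := by decide +kernel

theorem ord_nodup_thirty_two : (ordZedThirtyTwo.map enc).Nodup := by decide +kernel

theorem ord_five_thirty_two : ∀ d ∈ fills ++ gfive, ((d, 0) : Pr) ∈ ordZedThirtyTwo := by decide +kernel

theorem surv_ord_thirty_two : ∀ L ∈ survThirtyTwo, ∀ x ∈ L, x ∈ ordZedThirtyTwo := by decide +kernel

theorem noZedThirtyTwo0 :
    ((survThirtyTwo.drop 0).take 7).all (noZed 32 3840 (-36) 1570 ordZedThirtyTwo) = true := by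
  decide +kernel

theorem noZedThirtyTwo7 :
    ((survThirtyTwo.drop 7).take 1).all (noZed 32 3840 (-36) 1570 ordZedThirtyTwo) = true := by
  decide +kernel

theorem noZedThirtyTwo8 :
    ((survThirtyTwo.drop 8).take 1).all (noZed 32 3840 (-36) 1570 ordZedThirtyTwo) = true := by
  decide +kernel

theorem noZedThirtyTwo9 :
    ((survThirtyTwo.drop 9).take 1).all (noZed 32 3840 (-36) 1570 ordZedThirtyTwo) = true := by
  decide +kernel

theorem noZedThirtyTwo10 :
    ((survThirtyTwo.drop 10).take 1).all (noZed 32 3840 (-36) 1570 ordZedThirtyTwo) = true := by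
  decide +kernel

theorem noZedThirtyTwo11 :
    ((survThirtyTwo.drop 11).take 1).all (noZed 32 3840 (-36) 1570 ordZedThirtyTwo) = true := by
  decide +kernel

theorem noZedThirtyTwo12 :
    ((survThirtyTwo.drop 12).take 1).all (noZed 32 3840 (-36) 1570 ordZedThirtyTwo) = true := by
  decide +kernel

theorem noZedThirtyTwo13 :
    ((survThirtyTwo.drop 13).take 1).all (noZed 32 3840 (-36) 1570 ordZedThirtyTwo) = true := by
  decide +kernel

theorem noZedThirtyTwo14 :
    ((survThirtyTwo.drop 14).take 1).all (noZed 32 3840 (-36) 1570 ordZedThirtyTwo) = true := by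
  decide +kernel

theorem noZedThirtyTwo15 :
    ((survThirtyTwo.drop 15).take 1).all (noZed 32 3840 (-36) 1570 ordZedThirtyTwo) = true := by
  decide +kernel

theorem noZedThirtyTwo16 :
    ((survThirtyTwo.drop 16).take 23).all (noZed 32 3840 (-36) 1570 ordZedThirtyTwo) = true := by
  decide +kernel

/-- No survivor has values at the involution. -/
theorem no_zed_thirty_two : ∀ L ∈ survThirtyTwo, noZed 32 3840 (-36) 1570 ordZedThirtyTwo L = true := by
  rw [show survThirtyTwo =
      ((survThirtyTwo.drop 0).take 7) ++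
      ((survThirtyTwo.drop 7).take 1) ++
      ((survThirtyTwo.drop 8).take 1) ++
      ((survThirtyTwo.drop 9).take 1) ++
      ((survThirtyTwo.drop 10).take 1) ++
      ((survThirtyTwo.drop 11).take 1) ++
      ((survThirtyTwo.drop 12).take 1) ++
      ((survThirtyTwo.drop 13).take 1) ++
      ((survThirtyTwo.drop 14).take 1) ++
      ((survThirtyTwo.drop 15).take 1) ++
      ((survThirtyTwo.drop 16).take 23) by decide +kernel]
  intro L hL
  simp only [List.mem_append] at hL
  rcases hL with (((((((((h | h) | h) | h) | h) | h) | h) | h) | h) | h) | h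
  exacts [List.all_eq_true.1 noZedThirtyTwo0 L h,
    List.all_eq_true.1 noZedThirtyTwo7 L h,
    List.all_eq_true.1 noZedThirtyTwo8 L h,
    List.all_eq_true.1 noZedThirtyTwo9 L h,
    List.all_eq_true.1 noZedThirtyTwo10 L h,
    List.all_eq_true.1 noZedThirtyTwo11 L h,
    List.all_eq_true.1 noZedThirtyTwo12 L h,
    List.all_eq_true.1 noZedThirtyTwo13 L h,
    List.all_eq_true.1 noZedThirtyTwo14 L h,
    List.all_eq_true.1 noZedThirtyTwo15 L h,
    List.all_eq_true.1 noZedThirtyTwo16 L h]

end Cfsg.Agent.MTwentyFour.ByOrder.FiveSide
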