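import Cfsg.Agent.Lib.Spor.MTwentyFourOrder.FiveSideZedArith
import Cfsg.Agent.Lib.Spor.MTwentyFourOrder.FiveSideTableTwelve
import Cfsg.Agent.Lib.Spor.MTwentyFourOrder.FiveSideRunZedThirtyTwo

/-!
The values at the involution for a centraliser of order sixty and the second row: those of the principal block are
fixed and none are left on the block of twenty-three.
-/

set_option autoImplicit false
set_option maxRecDepth 100000
set_option maxHeartbeats 4000000
set_option Elab.async false

namespace Cfsg.Agent.MTwentyFour.ByOrder.FiveSide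

open Cfsg.Agent.MTwentyFour.ByOrder.ThreeCase (nd ordM)

/-- the order of search -/
def ordZedTwelve : List Pr :=
  [
    (3840, 0), (540, 0), (3520, 0), (12, 2), (45, 0), (22, 2), (11880, 0),
    (1760, 0), (10395, 0), (495, 0), (990, 0), (770, 0), (1540, 0), (252, -3),
    (252, 2), (231, -4), (231, 1), (528, -2), (528, 3), (264, -1), (264, 4),
    (5544, -1), (5544, 4), (2772, -3), (2772, 2)]

/-- the values left on the principal block of five -/
def localTwelveB : List (List ℤ) :=
  (FiveRow.zlist 7680 506).flatMap fun a => (FiveRow.zlist 7680 (-759)).flatMap fun b =>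
    (FiveRow.zlist 7680 (-5544)).flatMap fun c =>
      if FiveRow.zok 7680 5796 (-(1 + a - b - c)) &&
          decide (1 + a * a + b * b + c * c + (1 + a - b - c) * (1 + a - b - c) ≤ 7680) &&
          okSqB 12 7680 a b c (-(1 + a - b - c)) then
        [[a, b, c, -(1 + a - b - c)]] else []

theorem local_table_twelve_b : ∀ l ∈ localTwelveB, l = [26, 39, -56, -44] := by decide +kernel

theorem ord_nodup_twelve : (ordZedTwelve.map enc).Nodup := by decide +kernel

theorem ord_five_twelve : ∀ d ∈ fills ++ gfive, ((d, 0) : Pr) ∈ ordZedTwelve := by decide +kernel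

theorem surv_ord_twelve : ∀ L ∈ survTwelve, ∀ x ∈ L, x ∈ ordZedTwelve := by decide +kernel

theorem noZedTwelveB0 :
    ((survTwelve.drop 0).take 4).all (noZed 12 7680 (-56) 410 ordZedTwelve) = true := by
  decide +kernel

theorem noZedTwelveB4 :
    ((survTwelve.drop 4).take 4).all (noZed 12 7680 (-56) 410 ordZedTwelve) = true := by
  decide +kernel

theorem noZedTwelveB8 :
    ((survTwelve.drop 8).take 4).all (noZed 12 7680 (-56) 410 ordZedTwelve) = true := by
  decide +kernel

theorem noZedTwelveB12 :
    ((survTwelve.drop 12).take 4).all (noZed 12 7680 (-56) 410 ordZedTwelve) = true := by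
  decide +kernel

theorem noZedTwelveB16 :
    ((survTwelve.drop 16).take 4).all (noZed 12 7680 (-56) 410 ordZedTwelve) = true := by
  decide +kernel

theorem noZedTwelveB20 :
    ((survTwelve.drop 20).take 4).all (noZed 12 7680 (-56) 410 ordZedTwelve) = true := by
  decide +kernel

theorem noZedTwelveB24 :
    ((survTwelve.drop 24).take 4).all (noZed 12 7680 (-56) 410 ordZedTwelve) = true := by
  decide +kernel

theorem noZedTwelveB28 :
    ((survTwelve.drop 28).take 4).all (noZed 12 7680 (-56) 410 ordZedTwelve) = true := by
  decide +kernel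

theorem noZedTwelveB32 :
    ((survTwelve.drop 32).take 4).all (noZed 12 7680 (-56) 410 ordZedTwelve) = true := by
  decide +kernel

theorem noZedTwelveB36 :
    ((survTwelve.drop 36).take 4).all (noZed 12 7680 (-56) 410 ordZedTwelve) = true := by
  decide +kernel

theorem noZedTwelveB40 :
    ((survTwelve.drop 40).take 4).all (noZed 12 7680 (-56) 410 ordZedTwelve) = true := by
  decide +kernel

theorem noZedTwelveB44 :
    ((survTwelve.drop 44).take 4).all (noZed 12 7680 (-56) 410 ordZedTwelve) = true := by
  decide +kernel

theorem noZedTwelveB48 :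
    ((survTwelve.drop 48).take 4).all (noZed 12 7680 (-56) 410 ordZedTwelve) = true := by
  decide +kernel

theorem noZedTwelveB52 :
    ((survTwelve.drop 52).take 4).all (noZed 12 7680 (-56) 410 ordZedTwelve) = true := by
  decide +kernel

theorem noZedTwelveB56 :
    ((survTwelve.drop 56).take 4).all (noZed 12 7680 (-56) 410 ordZedTwelve) = true := by
  decide +kernel

theorem noZedTwelveB60 :
    ((survTwelve.drop 60).take 4).all (noZed 12 7680 (-56) 410 ordZedTwelve) = true := by
  decide +kernel

/-- No survivor has values at the involution in the second row. -/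
theorem no_zed_twelve_b : ∀ L ∈ survTwelve, noZed 12 7680 (-56) 410 ordZedTwelve L = true := by
  rw [show survTwelve =
      ((survTwelve.drop 0).take 4) ++
      ((survTwelve.drop 4).take 4) ++
      ((survTwelve.drop 8).take 4) ++
      ((survTwelve.drop 12).take 4) ++
      ((survTwelve.drop 16).take 4) ++
      ((survTwelve.drop 20).take 4) ++
      ((survTwelve.drop 24).take 4) ++
      ((survTwelve.drop 28).take 4) ++
      ((survTwelve.drop 32).take 4) ++
      ((survTwelve.drop 36).take 4) ++
      ((survTwelve.drop 40).take 4) ++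
      ((survTwelve.drop 44).take 4) ++
      ((survTwelve.drop 48).take 4) ++
      ((survTwelve.drop 52).take 4) ++
      ((survTwelve.drop 56).take 4) ++
      ((survTwelve.drop 60).take 4) by decide +kernel]
  intro L hL
  simp only [List.mem_append] at hL
  rcases hL with ((((((((((((((h | h) | h) | h) | h) | h) | h) | h) | h) | h) | h) | h) | h) | h) | h) | h
  exacts [List.all_eq_true.1 noZedTwelveB0 L h,
    List.all_eq_true.1 noZedTwelveB4 L h,
    List.all_eq_true.1 noZedTwelveB8 L h,
    List.all_eq_true.1 noZedTwelveB12 L h,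
    List.all_eq_true.1 noZedTwelveB16 L h,
    List.all_eq_true.1 noZedTwelveB20 L h,
    List.all_eq_true.1 noZedTwelveB24 L h,
    List.all_eq_true.1 noZedTwelveB28 L h,
    List.all_eq_true.1 noZedTwelveB32 L h,
    List.all_eq_true.1 noZedTwelveB36 L h,
    List.all_eq_true.1 noZedTwelveB40 L h,
    List.all_eq_true.1 noZedTwelveB44 L h,
    List.all_eq_true.1 noZedTwelveB48 L h,
    List.all_eq_true.1 noZedTwelveB52 L h,
    List.all_eq_true.1 noZedTwelveB56 L h,
    List.all_eq_true.1 noZedTwelveB60 L h]

end Cfsg.Agent.MTwentyFour.ByOrder.FiveSide
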