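import Cfsg.Agent.Lib.Spor.MTwentyFourOrder.FiveSideArith

/-!
The check of the lists of the block of twenty-three closed under the blocks of five finds every such list.
-/

set_option autoImplicit false
set_option maxRecDepth 100000
set_option maxHeartbeats 1000000

namespace Cfsg.Agent.MTwentyFour.ByOrder.FiveSide

open Cfsg.Agent.MTwentyFour.ByOrder.ThreeCase (It go prep c23 wt nd ordM xl gl arrange go_sound arrange_perm
  arrange_pairwise arrange_map sL sQ sB sM c23_sq wt_pos)

/-- a sum over pairs -/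
def sumP (F : Pr → ℤ) (L : List Pr) : ℤ := (L.map F).sum

theorem sumP_perm (F : Pr → ℤ) {A B : List Pr} (h : A.Perm B) : sumP F A = sumP F B := (h.map F).sum_eq

theorem sumP_filter (F : Pr → ℤ) (q : Pr → Bool) (h : ∀ x, q x = false → F x = 0) :
    ∀ {A : List Pr}, sumP F (A.filter q) = sumP F A
  | [] => rfl
  | a :: A => by
    have := sumP_filter F q h (A := A)
    simp only [sumP] at this ⊢
    cases hq : q a <;> simp [hq, this, h a]

/-- arrangements of degrees only depend on the multiset -/
theorem arrange_id_perm (ks : List ℕ) {A B : List ℕ} (h : A.Perm B) : arrange id ks A = arrange id ks B := by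
  refine List.flatMap_congr fun d _ => ?_
  have hp := h.filter fun x => id x == d
  have e1 : ∀ l : List ℕ, l.filter (fun x => id x == d) = List.replicate (l.filter fun x => id x == d).length d :=
    fun l => List.eq_replicate_iff.2 ⟨rfl, fun x hx => by simpa using (List.mem_filter.1 hx).2⟩
  rw [e1 A, e1 B, hp.length_eq]

/-- The lists which are closed under the blocks of five and satisfy the conditions at twenty-three are found. -/
theorem rows_false {k : ℕ} (hk : k ≤ 192) {tb : Tbl} {live : List Pr} {n : ℕ} (hlive : shrinkN tb n (selfs k) = live)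
    {ord xs gs : List ℕ} (hord : ord.Nodup)
    (hdeg : ∀ p ∈ live, p.1 ∈ ord ∧ (p.1 ∈ gl → p.1 ∈ gs) ∧ (p.1 ∈ xl → p.1 ∈ xs))
    (hgs : ∀ g ∈ gl, g % 5 = 0 → g ∈ gs) {keep : List Pr → Bool}
    (hrows : ∀ g ∈ gs, rowsOk k tb live ord xs g keep = true)
    (gv : Pr) (L : List Pr) (hlen : L.length = 9) (hg : gv.1 ∈ gl) (hL : ∀ x ∈ L, x.1 ∈ xl)
    (h0 : ∀ x ∈ gv :: L, x.1 % 5 = 0 → x.2 = 0)
    (hR : ∀ x ∈ (expandP (gv :: L)).filter (fun y => y.1 % 5 != 0), isItem k x = true ∧
      ∃ r ∈ reqOf tb x,
        (r : Multiset Pr) ≤ (((expandP (gv :: L)).filter (fun y => y.1 % 5 != 0) : List Pr) : Multiset Pr).erase x)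
    (hd : 5545 + sumP (fun x => c23 x.1 * (x.1 : ℤ)) (gv :: L) = 0)
    (hp : sumP (fun x => c23 x.1 * x.2) (gv :: L) = 0)
    (hq : ((ordM : ℤ) + nd 5544 + sumP (fun x => c23 x.1 * nd x.1 * (x.2 * x.2)) (gv :: L)) % (25 * k * k : ℕ) = 0)
    (hq' : 0 ≤ (ordM : ℤ) + nd 5544 + sumP (fun x => c23 x.1 * nd x.1 * (x.2 * x.2)) (gv :: L))
    (hD : sumP (fun x => wt x.1 * ((x.1 : ℤ) * x.1)) (gv :: L) ≤ (room : ℤ))
    (hP : sumP (fun x => wt x.1 * (x.2 * x.2)) (gv :: L) ≤ 5 * (k : ℤ) - 5) :
    ∃ L' : List Pr, L'.Perm ((gv :: L).filter fun y => y.1 % 5 != 0) ∧ keep L' = false := by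
  set q : Pr → Bool := fun y => y.1 % 5 != 0 with hqd
  have hwtx : ∀ d ∈ xl, wt d = 1 ∧ (d % 5 = 0 → d ∈ fills) := by decide +kernel
  have hwtg : ∀ d ∈ gl, wt d = 2 ∧ d % 23 ≠ 0 := by decide +kernel
  have hb : ∀ d ∈ xl, d % 23 ≠ 0 := by decide +kernel
  have hexp : ∀ A : List Pr, (expandP A).filter q = expandP (A.filter q) := fun A => by
    induction A with
    | nil => rfl
    | cons a A ih =>
      simp only [expandP, List.flatMap_cons, List.filter_append] at ih ⊢
      rw [ih]
      cases ha : q a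
      · rw [List.filter_eq_nil_iff.2 fun x hx => by rw [(List.mem_replicate.1 hx).2, ha]; simp]
        simp [List.filter_cons, ha]
      · rw [List.filter_eq_self.2 fun x hx => by rw [(List.mem_replicate.1 hx).2, ha]]
        simp [List.filter_cons, ha]
  rw [hexp] at hR
  set P := (gv :: L).filter q with hPd
  have hmemE : ∀ {A : List Pr} {x : Pr}, x ∈ expandP A ↔ x ∈ A := fun {A x} => by
    simp only [expandP, List.mem_flatMap, List.mem_replicate]
    refine ⟨fun ⟨a, ha, _, e⟩ => (by subst e; exact ha), fun h => ⟨x, h, ?_, rfl⟩⟩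
    have := wt_pos x.1
    omega
  -- the members are among those left
  have hsel : ∀ x ∈ P, x ∈ selfs k := fun x hx => by
    refine mem_selfs hk (hR x (hmemE.2 hx)).1 ?_
    rcases List.mem_cons.1 (List.mem_of_mem_filter hx) with rfl | h
    · simp [b23, (hwtg _ hg).2]
    · simp [b23, hb _ (hL x h)]
  have hlv : ∀ x ∈ P, x ∈ live := fun x hx => hlive ▸ shrink_sound tb (expandP P : List Pr)
    (fun y hy => (hR y (by simpa using hy)).2) n _ (fun y hy => hsel y (hmemE.1 (by simpa using hy))) x
    (by simpa using hmemE.2 hx)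
  have hgs' : gv.1 ∈ gs := by
    by_cases h5 : gv.1 % 5 = 0
    · exact hgs _ hg h5
    · exact (hdeg gv (hlv gv (List.mem_filter.2 ⟨by simp, by simp [hqd, h5]⟩))).2.1 hg
  -- the ordinary degrees prime to five
  set A5 := L.filter q with hA5
  set A0 := L.filter (fun y => !q y) with hA0
  have hsplit : (A5 ++ A0).Perm L := List.filter_append_perm q L
  have hm : A5.length ≤ 9 := hlen ▸ List.length_filter_le _ _
  have hxs : ∀ d ∈ ((A5.map Prod.fst : List ℕ) : Multiset ℕ), d ∈ xs := fun d hd => by
    obtain ⟨x, hx, rfl⟩ := List.mem_map.1 (by simpa using hd : d ∈ A5.map Prod.fst)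
    obtain ⟨hx1, hx2⟩ := List.mem_filter.1 hx
    exact (hdeg x (hlv x (List.mem_filter.2 ⟨List.mem_cons_of_mem _ hx1, hx2⟩))).2.2 (hL x hx1)
  have hok := hrows gv.1 hgs'
  simp only [rowsOk, List.all_eq_true, List.mem_range] at hok
  obtain ⟨x, hx, hf⟩ := pick_sound A5.length xs [] _ _ (by simp) hxs (hok A5.length (by omega))
  rw [Multiset.coe_nil, add_zero, Multiset.coe_eq_coe] at hx
  have hperm : ∀ F : ℕ → ℤ, (x.map F).sum = sumP (fun y => F y.1) A5 := fun F => by
    rw [(hx.map F).sum_eq, sumP, List.map_map]; rfl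
  have hfill : fillRow A5.length gv.1 x = true := by
    set A0d : Multiset ℕ := ((A0.map Prod.fst : List ℕ) : Multiset ℕ) with hA0d
    have h0m : ∀ a ∈ A0d, a ∈ fills ∧ (5 : ℤ) ∣ (a : ℤ) := fun a ha => by
      obtain ⟨y, hy, rfl⟩ := List.mem_map.1 (by simpa [hA0d] using ha : a ∈ A0.map Prod.fst)
      obtain ⟨hy1, hy2⟩ := List.mem_filter.1 hy
      have h5 : y.1 % 5 = 0 := by simpa [hqd] using hy2
      exact ⟨(hwtx _ (hL y hy1)).2 h5, by exact_mod_cast Nat.dvd_of_mod_eq_zero h5⟩
    have hcard : A0d.card = 9 - A5.length := by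
      have := hsplit.length_eq
      simp only [List.length_append, hlen] at this
      simp only [hA0d, Multiset.coe_card, List.length_map]
      omega
    have hsum : ∀ F : ℕ → ℤ, (A0d.map F).sum = sumP (fun y => F y.1) L - (x.map F).sum := fun F => by
      rw [hperm, ← sumP_perm _ hsplit, sumP, List.map_append, List.sum_append, hA0d, Multiset.map_coe,
        Multiset.sum_coe, List.map_map]
      simp [sumP, Function.comp_def]
    have hT : (A0d.map fun a : ℕ => c23 a * (a : ℤ)).sum =
        -(5545 + (x.map fun d => c23 d * (d : ℤ)).sum + c23 gv.1 * (gv.1 : ℤ)) := by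
      rw [hsum fun a => c23 a * (a : ℤ)]
      simp only [sumP, List.map_cons, List.sum_cons] at hd ⊢
      linarith
    have hS : (((x.map fun d : ℕ => d * d).sum : ℕ) : ℤ) + 2 * ((gv.1 : ℤ) * gv.1) +
        (((A0d.map fun a : ℕ => a * a).sum : ℕ) : ℤ) ≤
        (room : ℤ) := by
      have h1 := hsum fun a => (a : ℤ) * (a : ℤ)
      have h2 : sumP (fun y => wt y.1 * ((y.1 : ℤ) * y.1)) L = sumP (fun y => (y.1 : ℤ) * y.1) L :=
        congrArg List.sum (List.map_congr_left fun y hy => by rw [(hwtx _ (hL y hy)).1, one_mul])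
      simp only [sumP, List.map_cons, List.sum_cons, (hwtg _ hg).1] at hD h2
      rw [h2] at hD
      have e1 : (((A0d.map fun a => a * a).sum : ℕ) : ℤ) = (A0d.map fun a : ℕ => (a : ℤ) * (a : ℤ)).sum := by
        rw [← Nat.coe_castAddMonoidHom, map_multiset_sum, Multiset.map_map]
        simp [Function.comp_def]
      have e2 : (((x.map fun d => d * d).sum : ℕ) : ℤ) = (x.map fun d : ℕ => (d : ℤ) * (d : ℤ)).sum := by
        rw [Nat.cast_list_sum, List.map_map]
        simp [Function.comp_def]
      rw [e1, e2, h1]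
      simp only [sumP]
      linarith
    have key : (x.map fun d => d * d).sum + 2 * (gv.1 * gv.1) + (A0d.map fun a => a * a).sum ≤ room := by
      exact_mod_cast hS
    simp only [fillRow, Bool.and_eq_true, decide_eq_true_eq]
    refine ⟨⟨by omega, ?_⟩, ?_⟩
    · rw [← hT]
      refine Int.emod_eq_zero_of_dvd (Multiset.dvd_sum fun v hv => ?_)
      obtain ⟨a, ha, rfl⟩ := Multiset.mem_map.1 hv
      exact dvd_mul_of_dvd_right (h0m a ha).2 _
    · rw [← hT, ← hcard]
      refine fillOk_sound fills A0d _ (fun a ha => (h0m a ha).1) ?_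
      omega
  rw [hfill, Bool.not_true, Bool.false_or, Bool.not_eq_true'] at hf
  -- the arranged list
  set srt : List Pr := P.mergeSort (fun a b => decide (a.2 ≤ b.2)) with hsrt
  set L' := arrange (fun y : Pr => y.1) ord srt with hL'
  have hLp : L'.Perm P := (arrange_perm _ ord srt hord fun y hy =>
    (hdeg y (hlv y ((List.mergeSort_perm P _).mem_iff.1 hy))).1).trans (List.mergeSort_perm P _)
  have hds : L'.map Prod.fst = rowDs ord gv.1 x := by
    rw [hL', show (Prod.fst : Pr → ℕ) = fun y => y.1 from rfl, arrange_map, rowDs]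
    refine arrange_id_perm ord ?_
    refine ((List.mergeSort_perm P _).map _).trans ?_
    rw [hPd, List.filter_cons]
    by_cases h5 : gv.1 % 5 = 0
    · simp only [hqd, h5, bne_self_eq_false, Bool.false_eq_true, if_false, if_true, List.nil_append]
      exact hx.symm
    · rw [if_pos (by simp [hqd, h5]), if_neg h5, List.map_cons, List.singleton_append]
      exact hx.symm.cons _
  have hzero : ∀ y ∈ gv :: L, q y = false → y.2 = 0 := fun y hy h => h0 y hy (by simpa [hqd] using h)
  have htot : ∀ F : Pr → ℤ, (∀ d : ℕ, F (d, 0) = 0) → sumP F L' = sumP F (gv :: L) := fun F hF => by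
    rw [sumP_perm F hLp]
    suffices ∀ A : List Pr, (∀ y ∈ A, q y = false → y.2 = 0) → sumP F (A.filter q) = sumP F A from this _ hzero
    intro A hA
    induction A with
    | nil => rfl
    | cons a A ih =>
      have h1 := ih fun y hy => hA y (List.mem_cons_of_mem _ hy)
      simp only [sumP] at h1 ⊢
      cases ha : q a
      · have hz : F a = 0 := by rw [show a = (a.1, 0) from Prod.ext rfl (hA a (by simp) ha)]; exact hF _
        rw [List.filter_cons_of_neg (by simp [ha]), List.map_cons, List.sum_cons, hz, zero_add, h1]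
      · simp [List.filter_cons, ha, h1]
  set E := expandP L' with hE
  have hEp : E.Perm (expandP P) := hLp.flatMap_right _
  have hEd : (L'.map Prod.fst).flatMap (fun d => List.replicate (wt d).toNat d) = E.map Prod.fst := by
    simp [hE, expandP, List.map_flatMap, List.flatMap_map]
  let mk : Pr → It := fun a =>
    ⟨(a.1, 0), rowOpts tb live (E.map Prod.fst) a.1, c23 a.1, c23 a.1 * nd a.1, wt a.1, 0⟩
  set p := L'.map fun a => (mk a, a.2) with hp'
  have hp1 : p.map Prod.fst = rowIts tb live (rowDs ord gv.1 x) := by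
    rw [← hds]
    simp only [rowIts, hEd, hp', List.map_map]
    rfl
  by_contra hc
  push Not at hc
  have hkeep : keep L' = true := by
    cases h : keep L' with
    | true => rfl
    | false => exact absurd h (hc L' hLp)
  refine absurd hf ?_
  rw [Bool.not_eq_false, rowHit, ← hp1]
  refine go_sound (25 * k * k) 1 _ p none 0 _ 0 0 _ ?_ ?_ (by simp) ?_ ?_ ?_ ?_ ?_ ?_ ?_
  · intro a ha
    obtain ⟨y, hy, rfl⟩ := List.mem_map.1 ha
    refine ⟨?_, c23_sq _, wt_pos _⟩
    have hyP : y ∈ P := hLp.mem_iff.1 hy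
    obtain ⟨-, r, hr, hle⟩ := hR y (hmemE.2 hyP)
    refine List.mem_map.2 ⟨y, List.mem_filter.2 ⟨List.mem_filter.2 ⟨hlv y hyP, by simp [mk]⟩, ?_⟩, rfl⟩
    simp only [List.any_eq_true, Bool.and_eq_true, List.all_eq_true, List.contains_iff_mem]
    refine ⟨r, hr, fun b hb => hlv b (hmemE.1 ?_), subBag_of_le ?_⟩
    · have := Multiset.mem_of_mem_erase (Multiset.mem_of_le hle (by simpa using hb))
      simpa using this
    · rw [← Multiset.coe_erase, ← Multiset.map_coe, ← Multiset.map_coe, Multiset.coe_eq_coe.2 hEp,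
        ← Multiset.map_erase_of_mem Prod.fst _ (by simpa using hmemE.2 hyP)]
      exact Multiset.map_le_map hle
  · refine List.pairwise_map.2 ?_
    have hs : srt.Pairwise fun a b : Pr => a.1 = b.1 → a.2 ≤ b.2 :=
      (List.pairwise_mergeSort (le := fun a b : Pr => decide (a.2 ≤ b.2))
        (fun a b c h1 h2 => by simp only [decide_eq_true_eq] at h1 h2 ⊢; omega)
        (fun a b => by simp only [Bool.or_eq_true, decide_eq_true_eq]; omega) P).imp
        (S := fun a b : Pr => a.1 = b.1 → a.2 ≤ b.2) fun {a b} h _ => of_decide_eq_true h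
    refine (arrange_pairwise (fun y : Pr => y.1) (fun a b => a.2 ≤ b.2) ord srt hord hs).imp fun {a b} h he => ?_
    exact h (by simpa [mk] using he)
  · have h := htot (fun y => c23 y.1 * y.2) fun d => mul_zero _
    rw [hp] at h
    simpa [sL, hp', mk, sumP, Function.comp_def] using h
  · have h := htot (fun y => c23 y.1 * nd y.1 * (y.2 * y.2)) fun d => by simp
    simp only [sumP] at h hq
    rw [← h] at hq
    simpa [sQ, hp', mk, Function.comp_def] using hq
  · have h := htot (fun y => c23 y.1 * nd y.1 * (y.2 * y.2)) fun d => by simp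
    simp only [sumP] at h hq'
    rw [← h] at hq'
    simpa [sQ, hp', mk, Function.comp_def] using hq'
  · have h := htot (fun y => wt y.1 * (y.2 * y.2)) fun d => by simp
    simp only [sumP] at h hP
    rw [← h] at hP
    simpa [sB, hp', mk, Function.comp_def] using hP
  · simp
  · simp [sM, hp', mk, Function.comp_def]
  · have hz : (rowDs ord gv.1 x).zip (p.map Prod.snd) = L' := by
      rw [← hds, hp', List.map_map]
      rw [List.zip_map']
      simp
    simp only [hz, hkeep, Bool.and_true, closedP, List.all_eq_true, List.any_eq_true]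
    intro y hy
    obtain ⟨-, r, hr, hle⟩ := hR y (hEp.mem_iff.1 hy)
    refine ⟨r, hr, subBag_of_le ?_⟩
    rw [← Multiset.cons_coe, show ((expandP L' : List Pr) : Multiset Pr) = (expandP P : List Pr) from
      Multiset.coe_eq_coe.2 hEp]
    exact (Multiset.cons_le_cons y hle).trans_eq (Multiset.cons_erase (by simpa using hEp.mem_iff.1 hy))

end Cfsg.Agent.MTwentyFour.ByOrder.FiveSide
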