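import Cfsg.Agent.Lib.Spor.MTwentyFourOrder.FiveSideArith

/-!
The partners in blocks of five for a centraliser of order five times one hundred and ninety-two.
-/

set_option autoImplicit false
set_option maxRecDepth 100000

namespace Cfsg.Agent.MTwentyFour.ByOrder.FiveSide

/-- the possible members, by absolute value -/
def ctBig : CTbl :=
  [(1, [(231, 1), (264, -1), (276, 1), (506, 1), (759, -1), (1771, 1), (2024, -1), (3036, 1), (4554, -1),
      (5544, -1), (5796, 1), (7084, -1), (10626, 1), (12144, -1)]),
    (2, [(12, 2), (22, 2), (252, 2), (253, -2), (483, -2), (528, -2), (1012, 2), (1288, -2), (1518, -2),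
      (2277, 2), (2772, 2), (3312, 2), (3542, 2), (4048, -2), (5313, -2), (6072, 2), (9108, -2), (14168, -2)]),
    (3, [(252, -3), (253, 3), (483, 3), (528, 3), (1012, -3), (1242, -3), (1288, 3), (1518, 3), (2277, -3),
      (2772, -3), (3312, -3), (3542, -3), (4048, 3), (5313, 3), (6072, -3), (9108, 3), (13662, -3), (14168, 3)]),
    (4, [(231, -4), (264, 4), (276, -4), (506, -4), (736, -4), (759, 4), (1771, -4), (2024, 4), (3036, -4),
      (4554, 4), (5544, 4), (5796, -4), (6336, -4), (7084, 4), (8096, -4), (10626, -4), (12144, 4), (15456, -4)]),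
    (6, [(231, 6), (264, -6), (276, 6), (506, 6), (736, 6), (759, -6), (1771, 6), (2024, -6), (3024, -6),
      (3036, 6), (4554, -6), (5544, -6), (5796, 6), (6831, 6), (7084, -6), (8096, 6), (10626, 6), (12144, -6),
      (15456, 6)]),
    (7, [(252, 7), (483, -7), (528, -7), (1012, 7), (1288, -7), (1518, -7), (2277, 7), (2772, 7), (3312, 7),
      (3542, 7), (4048, -7), (5313, -7), (6072, 7), (9108, -7), (14168, -7)]),
    (8, [(253, 8), (483, 8), (528, 8), (1012, -8), (1288, 8), (1518, 8), (2277, -8), (2772, -8), (3312, -8),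
      (3542, -8), (4048, 8), (5313, 8), (6072, -8), (8832, -8), (9108, 8), (12672, -8), (14168, 8)]),
    (9, [(264, 9), (506, -9), (759, 9), (1771, -9), (2024, 9), (3024, 9), (3036, -9), (4554, 9), (5544, 9),
      (5796, -9), (6831, -9), (7084, 9), (10626, -9), (12144, 9)]),
    (11, [(231, 11), (276, 11), (506, 11), (759, -11), (1771, 11), (2024, -11), (3036, 11), (4554, -11),
      (5544, -11), (5796, 11), (7084, -11), (10626, 11), (12144, -11)]),
    (12, [(252, 12), (528, -12), (1012, 12), (1242, 12), (1288, -12), (1518, -12), (2277, 12), (2772, 12),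
      (3312, 12), (3542, 12), (4048, -12), (5313, -12), (6072, 12), (9108, -12), (13662, 12), (14168, -12)]),
    (13, [(253, 13), (483, 13), (528, 13), (1012, -13), (1288, 13), (1518, 13), (2277, -13), (2772, -13),
      (3312, -13), (3542, -13), (4048, 13), (5313, 13), (6072, -13), (9108, 13), (14168, 13)]),
    (14, [(264, 14), (736, -14), (759, 14), (1771, -14), (2024, 14), (3036, -14), (4554, 14), (5544, 14),
      (5796, -14), (7084, 14), (8096, -14), (10626, -14), (12144, 14), (15456, -14)]),
    (16, [(231, 16), (276, 16), (506, 16), (736, 16), (759, -16), (1771, 16), (2024, -16), (3036, 16),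
      (4554, -16), (5544, -16), (5796, 16), (6336, 16), (7084, -16), (8096, 16), (9856, 16), (10626, 16),
      (12144, -16), (15456, 16)]),
    (17, [(252, 17), (1012, 17), (1288, -17), (1518, -17), (2277, 17), (2772, 17), (3312, 17), (3542, 17),
      (4048, -17), (5313, -17), (6072, 17), (9108, -17), (14168, -17)]),
    (18, [(253, 18), (483, 18), (528, 18), (1012, -18), (1242, -18), (1288, 18), (1518, 18), (2277, -18),
      (2772, -18), (3312, -18), (3542, -18), (4048, 18), (5313, 18), (6072, -18), (9108, 18), (13662, -18),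
      (14168, 18)]),
    (19, [(264, 19), (759, 19), (1771, -19), (2024, 19), (3036, -19), (4554, 19), (5544, 19), (5796, -19),
      (7084, 19), (10626, -19), (12144, 19)]),
    (21, [(231, 21), (276, 21), (506, 21), (1771, 21), (2024, -21), (3024, -21), (3036, 21), (4554, -21),
      (5544, -21), (5796, 21), (6831, 21), (7084, -21), (10626, 21), (12144, -21)]),
    (22, [(252, 22), (1012, 22), (1288, -22), (1518, -22), (2277, 22), (2772, 22), (3312, 22), (3542, 22),
      (4048, -22), (5313, -22), (6072, 22), (9108, -22), (14168, -22)]),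
    (23, [(253, 23), (483, 23), (528, 23), (1012, -23), (1288, 23), (1518, 23), (2277, -23), (2772, -23),
      (3312, -23), (3542, -23), (4048, 23), (5313, 23), (6072, -23), (9108, 23), (14168, 23)]),
    (24, [(264, 24), (759, 24), (1771, -24), (2024, 24), (3024, 24), (3036, -24), (4554, 24), (5544, 24),
      (5796, -24), (6336, -24), (6831, -24), (7084, 24), (8096, -24), (9856, -24), (10626, -24), (12144, 24),
      (15456, -24)]),
    (26, [(276, 26), (506, 26), (736, 26), (1771, 26), (2024, -26), (3036, 26), (4554, -26), (5544, -26),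
      (5796, 26), (7084, -26), (8096, 26), (10626, 26), (12144, -26), (15456, 26)]),
    (27, [(1012, 27), (1242, 27), (1288, -27), (1518, -27), (2277, 27), (2772, 27), (3312, 27), (3542, 27),
      (4048, -27), (5313, -27), (6072, 27), (9108, -27), (13662, 27), (14168, -27)]),
    (28, [(483, 28), (528, 28), (1288, 28), (1518, 28), (2277, -28), (2772, -28), (3312, -28), (3542, -28),
      (4048, 28), (5313, 28), (6072, -28), (9108, 28), (14168, 28)]),
    (29, [(759, 29), (1771, -29), (2024, 29), (3036, -29), (4554, 29), (5544, 29), (5796, -29), (7084, 29),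
      (10626, -29), (12144, 29)])]

/-- the possible members in the block of twenty-three -/
def selfsBig : List Pr :=
  [(12, 2), (22, 2), (231, -4), (231, 1), (231, 6), (231, 11), (231, 16), (231, 21), (252, -3), (252, 2),
    (252, 7), (252, 12), (252, 17), (252, 22), (264, -6), (264, -1), (264, 4), (264, 9), (264, 14), (264, 19),
    (264, 24), (528, -12), (528, -7), (528, -2), (528, 3), (528, 8), (528, 13), (528, 18), (528, 23), (528, 28),
    (2772, -28), (2772, -23), (2772, -18), (2772, -13), (2772, -8), (2772, -3), (2772, 2), (2772, 7), (2772, 12),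
    (2772, 17), (2772, 22), (2772, 27), (3024, -21), (3024, -6), (3024, 9), (3024, 24), (5544, -26), (5544, -21),
    (5544, -16), (5544, -11), (5544, -6), (5544, -1), (5544, 4), (5544, 9), (5544, 14), (5544, 19), (5544, 24),
    (5544, 29), (6336, -24), (6336, -4), (6336, 16), (9856, -24), (9856, 16), (12672, -8)]

/-- the lists of partners -/
def tblBig : Tbl :=
  [((12, 2), [[(12, 2), (252, 2)]]), ((22, 2), [[(528, -2)], [(231, 1), (231, 1)], [(2772, 2), (2772, 2)]]),
    ((231, -4), [[(5544, 4)], [(528, -2), (528, -2)], [(231, -4), (231, -4), (231, -4), (231, 16)], [(231, 1),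
    (231, 1), (231, 1), (231, 1)]]), ((231, 1), [[(5544, -1)], [(22, 2), (231, 1)], [(231, 1), (252, 2)],
    [(231, -4), (231, 1), (231, 1), (231, 1)]]), ((231, 6), [[(5544, -6)], [(528, 3), (528, 3)]]), ((231, 11),
    [[(5544, -11)]]), ((231, 16), [[(5544, -16)], [(528, 8), (528, 8)], [(231, -4), (231, -4), (231, -4),
    (231, -4)]]), ((252, -3), [[(528, 3)], [(252, -3), (5544, -6)], [(2772, -3), (2772, -3)], [(252, -3), (252, -3),
    (252, -3), (252, 12)]]), ((252, 2), [[(528, -2)], [(12, 2), (12, 2)], [(231, 1), (231, 1)], [(252, 2),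
    (5544, 4)], [(2772, 2), (2772, 2)]]), ((252, 7), [[(528, -7)], [(252, 7), (5544, 14)], [(2772, 7), (2772, 7)]]),
    ((252, 12), [[(528, -12)], [(2772, 12), (2772, 12)], [(252, -3), (252, -3), (252, -3), (252, -3)]]), ((264, -6),
    [[(264, -6), (5544, -6)], [(264, -6), (528, 3), (528, 3)]]), ((264, -1), [[(264, -1), (5544, -1)]]), ((264, 4),
    [[(264, 4), (5544, 4)], [(264, 4), (528, -2), (528, -2)]]), ((264, 9), [[(264, 9), (5544, 9)]]), ((264, 14),
    [[(264, 14), (528, -7), (528, -7)]]), ((528, -12), [[(252, 12)], [(5544, -6), (5544, -6)], [(528, 3), (528, 3),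
    (528, 3), (528, 3)]]), ((528, -7), [[(252, 7)], [(264, 14), (264, 14), (528, -7)]]), ((528, -2), [[(22, 2)],
    [(252, 2)], [(231, -4), (528, -2)], [(5544, -1), (5544, -1)], [(264, 4), (264, 4), (528, -2)], [(528, -2),
    (528, -2), (528, -2), (528, 8)]]), ((528, 3), [[(252, -3)], [(231, 6), (528, 3)], [(264, -6), (264, -6),
    (528, 3)], [(528, -12), (528, 3), (528, 3), (528, 3)]]), ((528, 8), [[(231, 16), (528, 8)], [(5544, 4),
    (5544, 4)], [(528, -2), (528, -2), (528, -2), (528, -2)]]), ((528, 18), [[(5544, 9), (5544, 9)]]), ((2772, -18),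
    [[(2772, -18), (5544, 9), (5544, 9)]]), ((2772, -8), [[(2772, -8), (5544, 4), (5544, 4)]]), ((2772, -3),
    [[(252, -3), (2772, -3)]]), ((2772, 2), [[(22, 2), (2772, 2)], [(252, 2), (2772, 2)], [(2772, 2), (5544, -1),
    (5544, -1)]]), ((2772, 7), [[(252, 7), (2772, 7)]]), ((2772, 12), [[(252, 12), (2772, 12)], [(2772, 12),
    (5544, -6), (5544, -6)]]), ((3024, -6), [[(3024, -6), (5544, -6)]]), ((3024, 9), [[(3024, 9), (5544, 9)]]),
    ((5544, -16), [[(231, 16)], [(5544, 4), (5544, 4), (5544, 4), (5544, 4)]]), ((5544, -11), [[(231, 11)]]),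
    ((5544, -6), [[(231, 6)], [(252, -3), (252, -3)], [(264, -6), (264, -6)], [(528, -12), (5544, -6)], [(3024, -6),
    (3024, -6)], [(2772, 12), (2772, 12), (5544, -6)], [(5544, -6), (5544, -6), (5544, -6), (5544, 24)]]),
    ((5544, -1), [[(231, 1)], [(264, -1), (264, -1)], [(528, -2), (5544, -1)], [(2772, 2), (2772, 2), (5544, -1)],
    [(5544, -1), (5544, -1), (5544, -1), (5544, 4)]]), ((5544, 4), [[(231, -4)], [(252, 2), (252, 2)], [(264, 4),
    (264, 4)], [(528, 8), (5544, 4)], [(2772, -8), (2772, -8), (5544, 4)], [(5544, -16), (5544, 4), (5544, 4),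
    (5544, 4)], [(5544, -1), (5544, -1), (5544, -1), (5544, -1)]]), ((5544, 9), [[(264, 9), (264, 9)], [(528, 18),
    (5544, 9)], [(3024, 9), (3024, 9)], [(2772, -18), (2772, -18), (5544, 9)]]), ((5544, 14), [[(252, 7),
    (252, 7)]]), ((5544, 24), [[(5544, -6), (5544, -6), (5544, -6), (5544, -6)]])]

/-- the members left after shrinking -/
def liveBig : List Pr :=
  [(12, 2), (22, 2), (231, -4), (231, 1), (231, 6), (231, 11), (231, 16), (252, -3), (252, 2), (252, 7), (252, 12),
    (264, -6), (264, -1), (264, 4), (264, 9), (264, 14), (528, -12), (528, -7), (528, -2), (528, 3), (528, 8),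
    (528, 18), (2772, -18), (2772, -8), (2772, -3), (2772, 2), (2772, 7), (2772, 12), (3024, -6), (3024, 9),
    (5544, -16), (5544, -11), (5544, -6), (5544, -1), (5544, 4), (5544, 9), (5544, 14), (5544, 24)]

/-- the order of search -/
def ordBig : List ℕ := [3024, 5544, 528, 252, 2772, 264, 12, 22, 231]

/-- the ordinary degrees left, prime to five -/
def xsBig : List ℕ := [22, 231, 252, 528, 5544]

end Cfsg.Agent.MTwentyFour.ByOrder.FiveSide
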