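import Cfsg.Agent.Lib.Spor.MTwentyFourOrder.FiveSide
import Cfsg.Agent.Lib.Spor.MTwentyFourOrder.FiveSideRunTwelve
import Cfsg.Agent.Lib.Spor.MTwentyFourOrder.FiveSideRestTwelve
import Cfsg.Agent.Lib.Spor.MTwentyFourOrder.FiveSideRowsTwelve

/-!
The block of twenty-three at the element of order five, for a centraliser
of order sixty.
-/

set_option autoImplicit false
set_option maxRecDepth 100000
set_option maxHeartbeats 4000000
set_option Elab.async false
set_option linter.unusedSectionVars false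

namespace Cfsg.Agent.MTwentyFour.ByOrder.FiveSide

open Cfsg Cfsg.Agent.Char Cfsg.Agent.Small.Order459648 Cfsg.Agent.Char.PrimeSylowCount
open Cfsg.Agent.MTwentyFour.ByOrder.Ten (TCol w23)
open Cfsg.Agent.MTwentyFour.ByOrder.FiveColumn (FCol)
open Cfsg.Agent.MTwentyFour.ByOrder.FiveRow (FiveData rowA rowB)
open Cfsg.Agent.MTwentyFour.ByOrder.ThreeCase (xl gl)
open scoped _root_.Classical

universe u

variable {G : Type u} [Group G] [Fintype G] [IsSimpleGroup G]

/-- Without a character of degree twenty-three the block is one of the lists left. -/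
theorem list_twelve {P : Sylow 11 G} {g : G} {z : IrrCharacter G → ℤ} {C : ℕ} (T : TCol P g z C)
    {Q : Sylow 5 G} {M : Ideal AlgInt} {c : Fin 4 → IrrCharacter G} {r : List ℤ}
    (hr : r = rowA ∨ r = rowB) (D : FiveData g Q 12 M c r) {φ : IrrCharacter G → ℤ} (F : FCol g z C 12 c φ)
    (hno : ∀ χ : IrrCharacter G, charDegree (χ : G → ℂ) ≠ 23) :
    ∃ (η η' : IrrCharacter G) (A : Finset (IrrCharacter G)) (L' : List Pr), η ≠ η' ∧ η ∉ A ∧ η' ∉ A ∧ A.card = 9 ∧
      (∀ χ, χ ∈ A ↔ (w23 (charDegree (χ : G → ℂ))).natAbs = 2 ∧ χ ≠ oneChar ∧ χ ≠ c 2) ∧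
      (∀ χ, χ = η ∨ χ = η' ↔ (w23 (charDegree (χ : G → ℂ))).natAbs = 1) ∧
      charDegree (η' : G → ℂ) = charDegree (η : G → ℂ) ∧ φ η' = φ η ∧
      L'.Perm ((((η :: A.toList).map fun χ : IrrCharacter G => ((charDegree (χ : G → ℂ), φ χ) : Pr)).filter
        fun y => y.1 % 5 != 0)) ∧ L' ∈ survTwelve := by
  obtain ⟨η, η', A, L', h1, h2, h3, h4, h5, h6, h7, h8, h9, h10⟩ :=
    exists_list T hr D F hno (by norm_num) ctOkTwelve
      (fun x hx => by
        rw [selfsEqTwelve, ← List.take_append_drop 15 selfsTwelve, List.mem_append] at hx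
        rcases hx with hx | hx
        exacts [List.all_eq_true.1 goodSelfFstTwelve x hx, List.all_eq_true.1 goodSelfSndTwelve x hx])
      (m := 2) liveEqTwelve (ord := ordTwelve) (xs := xsTwelve) (gs := gsTwelve)
      (by decide +kernel) (by decide +kernel) (by decide +kernel) rowsTwelve
  refine ⟨η, η', A, L', h1, h2, h3, h4, h5, h6, h7, h8, h9, ?_⟩
  simpa [List.contains_iff_mem] using h10

end Cfsg.Agent.MTwentyFour.ByOrder.FiveSide
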