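import Cfsg.Agent.Lib.Spor.MTwentyFourOrder.FiveSideArith

/-!
The search for the values at the involution on the block of twenty-three, given the values at the element of order
five: the candidates, the search and the rows completed by degrees divisible by five.
-/

set_option autoImplicit false
set_option maxRecDepth 100000
set_option maxHeartbeats 1000000

namespace Cfsg.Agent.MTwentyFour.ByOrder.FiveSide

open Cfsg.Agent.MTwentyFour.ByOrder.ThreeCase (It go prep c23 wt nd ordM arrange)

/-- the value at the element of order five allows the value at the involution modulo five; a single member has one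
conjugate only -/
def vok (k : ℕ) (one : Bool) (f z : ℤ) : Bool :=
  [1, 2, 4].any fun n : ℕ => (decide (n = 1) || !one) && [-2, -1, 1, 2].any fun a : ℤ =>
    let m := ((n : ℤ) * f) / a
    decide (a * m = (n : ℤ) * f) && decide (0 < m) && decide (4 * (k : ℤ) % m = 0) &&
      (List.range (m.toNat + 1)).any fun i : ℕ => decide (((n : ℤ) * z - a * (2 * (i : ℤ) - m)) % 5 = 0)

/-- the values at the involution -/
def vopts (k C : ℕ) (one : Bool) (x : Pr) : List ℤ :=
  (ThreeCase.zopts C x.1).filter fun z => decide (x.1 % 5 = 0) || vok k one x.2 z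

/-- a number for a pair -/
def enc (x : Pr) : ℕ := x.1 * 128 + (x.2 + 64).toNat

/-- the member is the only one of its kind -/
def oneOf (ds : List Pr) (x : Pr) : Bool := decide (ds.count x = 1) && decide (wt x.1 = 1)

/-- the place of a member -/
def zIt (k C : ℕ) (ds : List Pr) (x : Pr) : It :=
  ⟨x, vopts k C (oneOf ds x) x, c23 x.1, c23 x.1 * nd x.1, wt x.1, c23 x.1 * nd x.1 * x.2⟩

/-- Are there values at the involution? -/
def zHit (k C : ℕ) (z2 bud : ℤ) (ds : List Pr) : Bool :=
  go 0 (5 * k * C) bud (prep 0 (5 * k * C) (ds.map (zIt k C ds))) none (1 + z2)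
    ((ordM : ℤ) + nd 5544 * (z2 * z2)) 0 ((ordM : ℤ) - nd 5544 * z2) fun _ => true

/-- the conditions on the degrees -/
def degOk (ds : List Pr) : Bool :=
  decide (5545 + (ds.map fun x => c23 x.1 * (x.1 : ℤ)).sum = 0) &&
    decide ((ds.map fun x => wt x.1 * ((x.1 : ℤ) * x.1)).sum ≤ (room : ℤ))

/-- the exceptional degrees divisible by five -/
def gfive : List ℕ := [495, 540, 770, 1760, 11880]

/-- the completed list in the order of search -/
def zRow (ord : List Pr) (L : List Pr) (l : List ℕ) : List Pr :=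
  arrange enc (ord.map enc) (L ++ l.map fun d => (d, (0 : ℤ)))

/-- No completion of the list has values at the involution. -/
def noZed (k C : ℕ) (z2 bud : ℤ) (ord : List Pr) (L : List Pr) : Bool :=
  L.any (fun x => (vopts k C false x).isEmpty) ||
    (if L.any (fun x => decide (wt x.1 = 2)) then [[]] else gfive.map fun g => [g]).all fun gl =>
      pick (9 - (L.filter fun x => decide (wt x.1 = 1)).length) fills [] fun fl =>
        !degOk (L ++ (gl ++ fl).map fun d => (d, (0 : ℤ))) || !zHit k C z2 bud (zRow ord L (gl ++ fl))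

theorem vok_mono {k : ℕ} {f z : ℤ} {one : Bool} (h : vok k one f z = true) : vok k false f z = true := by
  simp only [vok, List.any_eq_true, Bool.and_eq_true, Bool.or_eq_true] at h ⊢
  obtain ⟨n, hn, -, h⟩ := h
  exact ⟨n, hn, Or.inr rfl, h⟩

theorem vopts_mono {k C : ℕ} {one : Bool} {x : Pr} {z : ℤ} (h : z ∈ vopts k C one x) : z ∈ vopts k C false x := by
  obtain ⟨h1, h2⟩ := List.mem_filter.1 h
  refine List.mem_filter.2 ⟨h1, ?_⟩
  simp only [Bool.or_eq_true] at h2 ⊢
  exact h2.imp id vok_mono

theorem vok_intro {k n m : ℕ} {a w f z : ℤ} {one : Bool} (hn : n ∣ 4) (hone : one = true → n = 1)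
    (hm : m ∣ 4 * k) (ha : a * a ≤ 5) (hw : |w| ≤ (m : ℤ)) (hw2 : (2 : ℤ) ∣ w - m) (hf : f ≠ 0)
    (he : (n : ℤ) * f = a * m) (hz : (5 : ℤ) ∣ (n : ℤ) * z - a * w) : vok k one f z = true := by
  have hn4 : n = 1 ∨ n = 2 ∨ n = 4 := by
    have h1 : n ≤ 4 := Nat.le_of_dvd (by norm_num) hn
    interval_cases n <;> simp_all
  have hnf : (n : ℤ) * f ≠ 0 := mul_ne_zero (by omega) hf
  have ha0 : a ≠ 0 := fun h => hnf (by rw [he, h, zero_mul])
  have hm0 : (m : ℤ) ≠ 0 := fun h => hnf (by rw [he, h, mul_zero])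
  have hab : -2 ≤ a ∧ a ≤ 2 := by constructor <;> nlinarith
  simp only [vok, List.any_eq_true, Bool.and_eq_true, Bool.or_eq_true, decide_eq_true_eq, Bool.not_eq_true']
  refine ⟨n, by rcases hn4 with rfl | rfl | rfl <;> simp, ?_, a, ?_, ?_⟩
  · cases one
    · exact Or.inr rfl
    · exact Or.inl (hone rfl)
  · obtain ⟨h1, h2⟩ := hab
    interval_cases a <;> simp at ha0 ⊢
  · rw [he, Int.mul_ediv_cancel_left _ ha0]
    obtain ⟨h1, h2⟩ := abs_le.1 hw
    obtain ⟨j, hj⟩ := hw2
    refine ⟨⟨⟨rfl, by omega⟩, Int.emod_eq_zero_of_dvd (by exact_mod_cast hm)⟩, ((w + m) / 2).toNat,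
      List.mem_range.2 (by omega), ?_⟩
    rw [show 2 * ((((w + (m : ℤ)) / 2).toNat : ℕ) : ℤ) - (m : ℤ) = w by omega]
    exact Int.emod_eq_zero_of_dvd hz

/-- the rearrangement by an injective key only depends on the multiset -/
theorem arrange_enc_perm {ord : List Pr} (hord : (ord.map enc).Nodup) {A B : List Pr} (h : A.Perm B)
    (hA : ∀ x ∈ A, x ∈ ord) : arrange enc (ord.map enc) A = arrange enc (ord.map enc) B := by
  refine List.flatMap_congr fun d hd => ?_
  obtain ⟨o, ho, rfl⟩ := List.mem_map.1 hd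
  have hinj : ∀ x ∈ ord, enc x = enc o → x = o := fun x hx e => List.inj_on_of_nodup_map hord hx ho e
  have e1 : ∀ l : List Pr, (∀ x ∈ l, x ∈ ord) →
      l.filter (fun x => enc x == enc o) = List.replicate (l.filter fun x => enc x == enc o).length o :=
    fun l hl => List.eq_replicate_iff.2 ⟨rfl, fun x hx => by
      obtain ⟨h1, h2⟩ := List.mem_filter.1 hx
      exact hinj x (hl x h1) (by simpa using h2)⟩
  rw [e1 A hA, e1 B fun x hx => hA x (h.mem_iff.2 hx), (h.filter fun x => enc x == enc o).length_eq]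

end Cfsg.Agent.MTwentyFour.ByOrder.FiveSide
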