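import Cfsg.Agent.Lib.Spor.MTwelve.OrderFront.Block
import Cfsg.Agent.Lib.Char.FrobSylowSections
import Cfsg.Agent.Lib.Char.SmallOrderGraph.Block
import Cfsg.Agent.Lib.Solv.BrauerReynoldsBlock

/-!
Sections of a Sylow subgroup of prime order: the values of the principal block, their congruences at elements of
other prime order, and the relation between the principal blocks of two primes without common element.
-/

set_option autoImplicit false
set_option linter.unusedSectionVars false
set_option maxHeartbeats 1000000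

namespace Cfsg.Agent.MTwentyFour.ByOrder.Sections

open Cfsg Cfsg.Agent.Char Cfsg.Agent.Small.Order459648 Cfsg.Agent.Char.PrimeSylowCount
open Cfsg.Agent.MTwelve.OrderFront (val_one mult_nat column_le)
open scoped ComplexConjugate Classical

universe u

variable {G : Type u} [Group G] [Fintype G] {p : ℕ} [Fact p.Prime] {P : Sylow p G} {e : ℕ}
  {M : Ideal AlgInt}

/-- The Sylow subgroup is generated by each of its non-trivial elements. -/
theorem cent_eq (hP : Nat.card P = p) {y : G} (hy : y ∈ (P : Subgroup G)) (hy1 : y ≠ 1) :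
    Subgroup.centralizer ({y} : Set G) = Subgroup.centralizer ((P : Subgroup G) : Set G) := by
  rw [← eq_zpowers_of_prime_sylow hP hy hy1, centralizer_zpowers_eq]

theorem order_eq (hP : Nat.card P = p) {y : G} (hy : y ∈ (P : Subgroup G)) (hy1 : y ≠ 1) :
    orderOf y = p := by
  have h := (P : Subgroup G).orderOf_dvd_natCard hy
  rw [show Nat.card (P : Subgroup G) = p from hP] at h
  exact ((Nat.dvd_prime Fact.out).1 h).resolve_left fun h => hy1 (orderOf_eq_one_iff.1 h)

/-- An element of order `p` commuting with an element of order prime to `p`: the value in the principal block. -/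
theorem const (hM : IsPModular p M) (hf : FrobSylow P e) {χ : IrrCharacter G}
    (hχ : χ ∈ principalBlock M G) {y : G} (hy : y ∈ (P : Subgroup G)) (hy1 : y ≠ 1) {w : G}
    (hc : w * y = y * w) (hw : ¬ p ∣ orderOf w) : (χ : G → ℂ) (y * w) = (χ : G → ℂ) y :=
  hf.principal_const hM hχ (y := ⟨y, hy⟩) hy1 ⟨w, Subgroup.mem_centralizer_singleton_iff.2 hc⟩
    (by rwa [Subgroup.orderOf_mk])

/-- The split of a character of the block at an element of another prime order centralising the element. -/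
theorem split (hM : IsPModular p M) (hf : FrobSylow P e) (hP : Nat.card P = p) {χ : IrrCharacter G}
    (hχ : χ ∈ principalBlock M G) {y : G} (hy : y ∈ (P : Subgroup G)) (hy1 : y ≠ 1) {q : ℕ} (hq : q.Prime)
    (hqp : q ≠ p) {v : G} (hv : v ^ q = 1) (hc : v * y = y * v) {S : ℤ}
    (hS : ∑ j ∈ Finset.range q, (χ : G → ℂ) (v ^ j) = (S : ℂ)) :
    ((p * q : ℕ) : ℤ) ∣ S - (q : ℤ) * (charDegree (χ : G → ℂ) : ℤ) := by
  have hp : p.Prime := Fact.out
  have hcy : Commute y v := hc.symm
  have hoy : orderOf y = p := order_eq hP hy hy1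
  have hyp : y ^ p = 1 := by rw [← hoy, pow_orderOf_eq_one]
  have hconst : ∀ i j : ℕ, i < p → i ≠ 0 → (χ : G → ℂ) (y ^ i * v ^ j) = (χ : G → ℂ) (y ^ i) := by
    intro i j hi hi0
    have hyi : y ^ i ≠ 1 := fun h => by
      have := Nat.le_of_dvd (by omega) (hoy ▸ orderOf_dvd_of_pow_eq_one h)
      omega
    refine const hM hf hχ (pow_mem hy i) hyi (hcy.symm.pow_pow j i).eq ?_
    intro hd
    have h2 : orderOf (v ^ j) ∣ q := orderOf_dvd_of_pow_eq_one (by rw [← pow_mul, mul_comm, pow_mul, hv, one_pow])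
    exact hqp ((Nat.prime_dvd_prime_iff_eq hp hq).1 (hd.trans h2)).symm
  have hco : Nat.Coprime p q := (Nat.coprime_primes hp hq).2 (Ne.symm hqp)
  have hg : (y * v) ^ (p * q) = 1 := by
    rw [hcy.mul_pow, pow_mul, hyp, one_pow, one_mul, mul_comm p, pow_mul, hv, one_pow]
  obtain ⟨T, hT⟩ := mult_nat (irr_isCharacter χ.2) (n := p * q)
    (Nat.mul_ne_zero hp.ne_zero hq.ne_zero) hg (ζ := 1) (one_pow _)
  obtain ⟨Ty, hTy⟩ := mult_nat (irr_isCharacter χ.2) (n := p) hp.ne_zero hyp (ζ := 1) (one_pow _)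
  simp only [one_pow, one_mul] at hT hTy
  have hinj : Set.InjOn (fun i : ℕ => (i % p, i % q)) (Finset.range (p * q) : Set ℕ) := by
    intro i hi j hj hij
    simp only [Finset.coe_range, Set.mem_Iio, Prod.mk.injEq] at hi hj hij
    exact ((Nat.modEq_and_modEq_iff_modEq_mul hco).1 hij).eq_of_lt_of_lt hi hj
  have himg : (Finset.range (p * q)).image (fun i : ℕ => (i % p, i % q)) = Finset.range p ×ˢ Finset.range q := by
    refine Finset.eq_of_subset_of_card_le (fun x hx => ?_) ?_
    · obtain ⟨i, -, rfl⟩ := Finset.mem_image.1 hx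
      exact Finset.mem_product.2 ⟨Finset.mem_range.2 (Nat.mod_lt _ hp.pos),
        Finset.mem_range.2 (Nat.mod_lt _ hq.pos)⟩
    · rw [Finset.card_image_of_injOn hinj]; simp
  have hsum : ∑ i ∈ Finset.range (p * q), (χ : G → ℂ) ((y * v) ^ i) =
      ∑ a ∈ Finset.range p, ∑ b ∈ Finset.range q, (χ : G → ℂ) (y ^ a * v ^ b) := by
    rw [← Finset.sum_product', ← himg, Finset.sum_image hinj]
    refine Finset.sum_congr rfl fun i _ => ?_
    rw [hcy.mul_pow, pow_eq_pow_mod i hyp, pow_eq_pow_mod i hv]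
  obtain ⟨p', hp'⟩ : ∃ p', p = p' + 1 := ⟨p - 1, by have := hp.pos; omega⟩
  rw [hsum, hp', Finset.sum_range_succ'] at hT
  rw [hp', Finset.sum_range_succ'] at hTy
  simp only [pow_zero, one_mul, hS, val_one] at hT hTy
  rw [Finset.sum_congr rfl fun i hi => Finset.sum_congr rfl fun j _ =>
    hconst (i + 1) j (by have := Finset.mem_range.1 hi; omega) (by omega)] at hT
  simp only [Finset.sum_const, Finset.card_range, nsmul_eq_mul, ← Finset.mul_sum] at hT
  refine ⟨(T : ℤ) - Ty, ?_⟩
  have hE : ((S - (q : ℤ) * (charDegree (χ : G → ℂ) : ℤ) : ℤ) : ℂ) =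
      ((((p' + 1) * q : ℕ) : ℤ) * ((T : ℤ) - Ty) : ℤ) := by
    push_cast at hT hTy ⊢
    linear_combination hT - (q : ℂ) * hTy
  rw [hp']
  exact_mod_cast hE

/-- An involution commuting with the element: the value is congruent to the degree modulo twice the prime. -/
theorem invol_congr (hM : IsPModular p M) (hf : FrobSylow P e) (hP : Nat.card P = p) {χ : IrrCharacter G}
    (hχ : χ ∈ principalBlock M G) {y : G} (hy : y ∈ (P : Subgroup G)) (hy1 : y ≠ 1) (hp2 : p ≠ 2)
    {v : G} (hv : orderOf v = 2) (hc : v * y = y * v) {z : ℤ} (hz : (χ : G → ℂ) v = z) :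
    ((2 * p : ℕ) : ℤ) ∣ (charDegree (χ : G → ℂ) : ℤ) - z := by
  have h := split hM hf hP hχ hy hy1 Nat.prime_two (Ne.symm hp2) (v := v)
    (by rw [← hv]; exact pow_orderOf_eq_one v) hc (S := (charDegree (χ : G → ℂ) : ℤ) + z) (by
      simp only [Finset.sum_range_succ, Finset.sum_range_zero, pow_zero, pow_one, val_one, hz]
      push_cast; ring)
  rw [Nat.mul_comm 2 p, ← dvd_neg, show -((charDegree (χ : G → ℂ) : ℤ) - z) =
    (charDegree (χ : G → ℂ) : ℤ) + z - ((2 : ℕ) : ℤ) * (charDegree (χ : G → ℂ) : ℤ) by push_cast; ring]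
  exact h

/-- The regular elements of the centraliser of an element. -/
noncomputable def regs (p : ℕ) (y : G) : Finset (Subgroup.centralizer ({y} : Set G)) :=
  Finset.univ.filter fun w => ¬ p ∣ orderOf w

theorem mem_regs {y : G} {w : Subgroup.centralizer ({y} : Set G)} : w ∈ regs p y ↔ ¬ p ∣ orderOf w := by
  simp [regs]

theorem one_mem_regs (y : G) : (1 : Subgroup.centralizer ({y} : Set G)) ∈ regs p y := by
  simp [regs, (Fact.out : p.Prime).ne_one]

/-- The average over a section of a character: its value, in the principal block, and nothing otherwise. -/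
theorem sum_regs (hM : IsPModular p M) (hf : FrobSylow P e) {y : G} (hy : y ∈ (P : Subgroup G))
    (hy1 : y ≠ 1) (χ : IrrCharacter G) :
    ∑ w ∈ regs p y, (χ : G → ℂ) (y * (w : G)) =
      ((regs p y).card : ℂ) * (if χ ∈ principalBlock M G then (χ : G → ℂ) y else 0) := by
  split
  · rename_i hχ
    rw [Finset.sum_congr rfl fun w hw => hf.principal_const hM hχ (y := ⟨y, hy⟩) hy1 w (mem_regs.1 hw),
      Finset.sum_const, nsmul_eq_mul]
  · rename_i hχ
    rw [mul_zero, ← hf.nonprincipal_sum_zero hM hχ (y := ⟨y, hy⟩) hy1]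
    rfl

/-- A relation of the principal block of another prime, averaged over a section. -/
theorem avg_relation (hM : IsPModular p M) (hf : FrobSylow P e) {y : G} (hy : y ∈ (P : Subgroup G))
    (hy1 : y ≠ 1) {q : ℕ} (hreg : ∀ w ∈ regs p y, ¬ q ∣ orderOf (y * (w : G)))
    {X : Finset (IrrCharacter G)} {a : IrrCharacter G → ℤ} {δ : ℤ} {θ : IrrCharacter G}
    (hrel : ∀ g : G, ¬ q ∣ orderOf g → (δ : ℂ) * (θ : G → ℂ) g = ∑ χ ∈ X, (a χ : ℂ) * (χ : G → ℂ) g) :
    (δ : ℂ) * (if θ ∈ principalBlock M G then (θ : G → ℂ) y else 0) =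
      ∑ χ ∈ X, (a χ : ℂ) * (if χ ∈ principalBlock M G then (χ : G → ℂ) y else 0) := by
  refine mul_left_cancel₀ (Nat.cast_ne_zero.2 (Finset.card_pos.2 ⟨1, one_mem_regs y⟩).ne' :
    ((regs p y).card : ℂ) ≠ 0) ?_
  rw [mul_left_comm, ← sum_regs hM hf hy hy1, Finset.mul_sum, Finset.mul_sum,
    Finset.sum_congr rfl fun w hw => hrel _ (hreg w hw), Finset.sum_comm]
  refine Finset.sum_congr rfl fun χ _ => ?_
  rw [← Finset.mul_sum, sum_regs hM hf hy hy1, mul_left_comm]

/-- The products of an element of the Sylow subgroup and the elements of its section are regular for another prime,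
if no element has the product of the two primes as order. -/
theorem regular_of_no_mixed (hP : Nat.card P = p) {y : G} (hy : y ∈ (P : Subgroup G)) (hy1 : y ≠ 1)
    {q : ℕ} (hq : q.Prime) (hqp : q ≠ p) (hno : ∀ g : G, ¬ p * q ∣ orderOf g) :
    ∀ w ∈ regs p y, ¬ q ∣ orderOf (y * (w : G)) := by
  intro w _ hd
  have hp : p.Prime := Fact.out
  have hc : Commute y (w : G) := (Subgroup.mem_centralizer_singleton_iff.1 w.2).symm
  refine hno (y * (w : G)) (Nat.Coprime.mul_dvd_of_dvd_of_dvd ((Nat.coprime_primes hp hq).2 (Ne.symm hqp)) ?_ hd)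
  have h1 : (y * (w : G)) ^ orderOf (w : G) = y ^ orderOf (w : G) := by
    rw [hc.mul_pow, pow_orderOf_eq_one, mul_one]
  have h2 : orderOf (y ^ orderOf (w : G)) = p := by
    have hnd : ¬ p ∣ orderOf (w : G) := by
      rw [Subgroup.orderOf_coe]; exact mem_regs.1 ‹_›
    rw [orderOf_pow, order_eq hP hy hy1, ((hp.coprime_iff_not_dvd).2 hnd).gcd_eq_one, Nat.div_one]
  rw [← h2, ← h1]
  exact orderOf_pow_dvd _

/-- An element of mixed order gives a common element in the centraliser of the Sylow subgroup. -/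
theorem dvd_of_mixed (hP : Nat.card P = p) {q : ℕ} {k : ℕ}
    (hC : Nat.card (Subgroup.centralizer ((P : Subgroup G) : Set G)) = p * k) (hq : q.Prime) (hqp : q ≠ p)
    {g : G} (hg : p * q ∣ orderOf g) : q ∣ k := by
  have hp : p.Prime := Fact.out
  set x := g ^ (orderOf g / p)
  have hx : orderOf x = p := orderOf_pow_orderOf_div (orderOf_pos g).ne' (dvd_trans (dvd_mul_right p q) hg)
  have hp2 : IsPGroup p (Subgroup.zpowers x) := IsPGroup.of_card (n := 1) (by rw [Nat.card_zpowers, hx, pow_one])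
  obtain ⟨Q, hQ⟩ := hp2.exists_le_sylow
  have hQc : Nat.card Q = p := (Q.card_eq_multiplicity.trans P.card_eq_multiplicity.symm).trans hP
  obtain ⟨c, hc⟩ := MulAction.exists_smul_eq G P Q
  have hxQ : x ∈ (Q : Subgroup G) := hQ (Subgroup.mem_zpowers x)
  have hx1 : x ≠ 1 := fun h => by rw [h, orderOf_one] at hx; exact hp.ne_one hx.symm
  obtain ⟨y, hy, hyx⟩ : ∃ y ∈ (P : Subgroup G), c * y * c⁻¹ = x := by
    rw [← hc] at hxQ
    obtain ⟨y, hy, e'⟩ := hxQ
    exact ⟨y, hy, e'⟩
  have hy1 : y ≠ 1 := fun h => hx1 (by rw [← hyx, h]; group)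
  have hmem : c⁻¹ * g * c ∈ Subgroup.centralizer ({y} : Set G) := by
    rw [Subgroup.mem_centralizer_singleton_iff]
    have h1 : g * x = x * g := ((Commute.refl g).pow_right _).eq
    rw [← hyx] at h1
    calc c⁻¹ * g * c * y = c⁻¹ * (g * (c * y * c⁻¹)) * c := by group
      _ = c⁻¹ * ((c * y * c⁻¹) * g) * c := by rw [h1]
      _ = y * (c⁻¹ * g * c) := by group
  have hd := (Subgroup.centralizer ({y} : Set G)).orderOf_dvd_natCard hmem
  rw [cent_eq hP hy hy1, hC, show orderOf (c⁻¹ * g * c) = orderOf g by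
    rw [show c⁻¹ * g * c = MulAut.conj c⁻¹ g by simp, MulEquiv.orderOf_eq]] at hd
  exact (((Nat.coprime_primes hq hp).2 hqp).dvd_of_dvd_mul_left ((dvd_mul_left q p).trans (hg.trans hd)))

/-- The class sum is integral: the degree divides the index times the value. -/
theorem class_dvd (χ : IrrCharacter G) {v : G} {z : ℤ} (hz : (χ : G → ℂ) v = z) {r : ℕ}
    (hr : r ∣ Nat.card (Subgroup.centralizer ({v} : Set G))) :
    (charDegree (χ : G → ℂ) : ℤ) ∣ ((Nat.card G / r : ℕ) : ℤ) * z := by
  obtain ⟨t, ht⟩ := hr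
  have hcl := card_conjClass_mul_centralizer v
  rw [ht] at hcl
  have hr0 : r ≠ 0 := fun h => by
    rw [h, zero_mul] at ht
    exact Nat.card_pos.ne' ht
  have hN : Nat.card G / r = Nat.card {x : G // IsConj v x} * t :=
    Nat.div_eq_of_eq_mul_left (Nat.pos_of_ne_zero hr0) (by rw [← hcl]; ring)
  have hI := (omega_isIntegral χ.2 v).mul (isIntegral_algebraMap (R := ℤ) (A := ℂ) (x := (t : ℤ)))
  rw [omega, hz, val_one] at hI
  obtain ⟨w, hw⟩ := isIntegral_rat_cast_imp
    (q := ((Nat.card G / r : ℕ) : ℚ) * z / (charDegree (χ : G → ℂ) : ℚ)) (by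
      rw [hN]; simp only [eq_intCast, Int.cast_natCast] at hI; push_cast at hI ⊢; convert hI using 1
      · rfl
      · ring)
  rw [eq_div_iff (Nat.cast_ne_zero.mpr (deg_pos χ.2).ne')] at hw
  exact ⟨w, by
    have h' : ((((Nat.card G / r : ℕ) : ℤ) * z : ℤ) : ℚ) = ((w * (charDegree (χ : G → ℂ) : ℤ) : ℤ) : ℚ) := by
      generalize (Nat.card G / r) = Nr at hw ⊢
      push_cast
      linear_combination -hw
    have : (((Nat.card G / r : ℕ) : ℤ) * z : ℤ) = w * (charDegree (χ : G → ℂ) : ℤ) := Int.cast_injective h'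
    rw [this, mul_comm]⟩

/-- The squares of the values of distinct characters are bounded by the centraliser. -/
theorem column_int [IsSimpleGroup G] {v : G} (s : Finset (IrrCharacter G)) (z : IrrCharacter G → ℤ)
    (hz : ∀ χ ∈ s, (χ : G → ℂ) v = z χ) :
    ∑ χ ∈ s, z χ * z χ ≤ (Nat.card (Subgroup.centralizer ({v} : Set G)) : ℤ) := by
  have h := column_le v s
  rw [Finset.sum_congr rfl (g := fun χ => ((z χ * z χ : ℤ) : ℝ)) fun χ hχ => by
    rw [hz χ hχ, Complex.norm_intCast, sq_abs]; push_cast; ring] at h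
  exact_mod_cast h

end Cfsg.Agent.MTwentyFour.ByOrder.Sections
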