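import Cfsg.Agent.Lib.Spor.MTwentyFourOrder.FiveCol
import Cfsg.Agent.Lib.Spor.MTwentyFourOrder.SylowElevenTools
import Cfsg.Agent.Lib.Char.DefectOneSection
import Cfsg.Agent.Lib.Char.ConstantDrop.Converse

/-!
A simple group of the order of the Mathieu group of degree twenty-four: the values at the elements of order five and
two of a character of degree prime to five, through the canonical character of the centraliser of order five times
`k`.
-/

set_option autoImplicit false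
set_option linter.unusedSectionVars false
set_option maxRecDepth 100000
set_option maxHeartbeats 1000000

namespace Cfsg.Agent.MTwentyFour.ByOrder.FiveValue

open Cfsg Cfsg.Agent.Char Cfsg.Agent.Small.Order459648 Cfsg.Agent.Char.PrimeSylowCount
open Cfsg.Agent.MTwelve.OrderFront (val_one)
open Cfsg.Agent.MTwentyFour.ByOrder.Ten (TCol)
open Cfsg.Agent.MTwentyFour.ByOrder.FiveColumn (FCol)
open Cfsg.Agent.MTwentyFour.ByOrder.FiveRow (FiveData)
open scoped _root_.Classical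

universe u

/-- The value at an element of order dividing two: an integer of the parity and at most the size of the degree. -/
theorem invol_value {H : Type u} [Group H] [Fintype H] (θ : IrrCharacter H) {v : H} (hv : v * v = 1) :
    ∃ t : ℤ, (θ : H → ℂ) v = (t : ℂ) ∧ (2 : ℤ) ∣ t - (deg (θ : H → ℂ) : ℤ) ∧
      |t| ≤ (deg (θ : H → ℂ) : ℤ) := by
  obtain ⟨t, ht⟩ := ConstDrop.value_invol_int θ hv
  refine ⟨t, ht, ?_⟩
  by_cases h1 : v = 1
  · subst h1
    rw [char_one_eq_deg (irr_isCharacter θ.2)] at ht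
    have : t = (deg (θ : H → ℂ) : ℤ) := by exact_mod_cast ht.symm
    subst this
    simp
  have hord : orderOf v = 2 := orderOf_eq_prime (by rw [pow_two, hv]) h1
  obtain ⟨n, hn⟩ := TenTools.avg_int (irr_isCharacter θ.2) (Subgroup.zpowers v)
  obtain ⟨h0, hle⟩ := TenTools.fixed_mono (irr_isCharacter θ.2) (A := ⊥) (B := Subgroup.zpowers v) bot_le
    (a := (deg (θ : H → ℂ) : ℤ)) (by
      refine (Finset.sum_congr (s₂ := ({1} : Finset (⊥ : Subgroup H))) ?_ fun _ _ => rfl).trans ?_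
      · ext y
        exact iff_of_true (by simp [eq_iff_true_of_subsingleton]) (Finset.mem_singleton.2 (Subtype.ext (Subgroup.mem_bot.1 y.2)))
      · simp [char_one_eq_deg (irr_isCharacter θ.2)]) hn
  have hsum : ∑ g : Subgroup.zpowers v, (θ : H → ℂ) (g : H) = (θ : H → ℂ) 1 + (θ : H → ℂ) v := by
    have hne : (1 : Subgroup.zpowers v) ≠ ⟨v, Subgroup.mem_zpowers v⟩ := fun e => h1 (congrArg Subtype.val e).symm
    have huniv : (Finset.univ : Finset (Subgroup.zpowers v)) = {1, ⟨v, Subgroup.mem_zpowers v⟩} := by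
      symm
      refine Finset.eq_univ_of_card _ ?_
      rw [Finset.card_pair hne, ← Nat.card_eq_fintype_card, Nat.card_zpowers, hord]
    rw [huniv, Finset.sum_pair hne]
    rfl
  rw [hsum, Nat.card_zpowers, hord, ht, char_one_eq_deg (irr_isCharacter θ.2)] at hn
  have : (deg (θ : H → ℂ) : ℤ) + t = 2 * n := by
    have h' : (((deg (θ : H → ℂ) : ℤ) + t : ℤ) : ℂ) = ((2 * n : ℤ) : ℂ) := by
      push_cast; linear_combination hn
    exact_mod_cast h'
  exact ⟨⟨n - (deg (θ : H → ℂ) : ℤ), by omega⟩, abs_le.2 ⟨by omega, by omega⟩⟩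

variable {G : Type u} [Group G] [Fintype G] [IsSimpleGroup G]

local instance fact_fiveValue : Fact (Nat.Prime 5) := ⟨by norm_num⟩

/-- The values of a character of degree prime to five: `n` times each is an integer of square at most five times a
multiple of the degree of the canonical character, for the number `n` of its Galois conjugates. -/
theorem five_value {P : Sylow 11 G} {g : G} {z : IrrCharacter G → ℤ} {C : ℕ} (T : TCol P g z C)
    {Q : Sylow 5 G} {k : ℕ} {M : Ideal AlgInt} {c : Fin 4 → IrrCharacter G} {r : List ℤ}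
    (D : FiveData g Q k M c r) {φ : IrrCharacter G → ℤ} (F : FCol g z C k c φ) (χ0 : IrrCharacter G)
    (h0 : ¬ 5 ∣ charDegree (χ0 : G → ℂ)) :
    ∃ (n m : ℕ) (a w : ℤ), n ∣ 4 ∧ m ∣ 4 * k ∧ a * a ≤ 5 ∧ |w| ≤ (m : ℤ) ∧ (2 : ℤ) ∣ w - m ∧
      (n : ℤ) * φ χ0 = a * m ∧ (5 : ℤ) ∣ (n : ℤ) * z χ0 - a * w ∧
      (n = 1 ∨ ∃ χ : IrrCharacter G, χ ≠ χ0 ∧ χ ∈ blockOf M (χ0 : G → ℂ) ∧
        charDegree (χ : G → ℂ) = charDegree (χ0 : G → ℂ) ∧ φ χ = φ χ0 ∧ z χ = z χ0) := by
  have hM := D.modular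
  have hMp := pmod_prime hM
  have hG := T.order
  have hsq : ¬ 5 ^ 2 ∣ Nat.card G := by rw [hG]; norm_num
  have hfac : (Nat.card G).factorization 5 = 1 := by
    have hp : Nat.Prime 5 := by norm_num
    refine le_antisymm (not_lt.mp fun h => hsq ((hp.pow_dvd_iff_le_factorization Nat.card_pos.ne').mpr h)) ?_
    exact (hp.dvd_iff_one_le_factorization Nat.card_pos.ne').mp (by rw [hG]; norm_num)
  set B := blockOf M (χ0 : G → ℂ) with hBdef
  have hB : IsPBlock M B := isPBlock_blockOf M χ0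
  have h0B : χ0 ∈ B := self_mem_blockOf hMp χ0
  have hdef1 : blockDefect 5 B = 1 := by
    have h1 := dmin_add_defect (p := 5) (block_nonempty hMp hB)
    have h2 := dexp_eq_height_add (p := 5) h0B
    have h0' : ¬ 5 ∣ deg (χ0 : G → ℂ) := by rwa [← charDegree_eq_deg]
    have h3 : dexp 5 (χ0 : G → ℂ) = 0 := Nat.factorization_eq_zero_of_not_dvd h0'
    omega
  obtain ⟨D0, hD0⟩ := exists_isDefectGroup hM hB
  have hcard0 : Nat.card D0 = 5 := by rw [card_defectGroup hM hB hD0, hdef1, pow_one]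
  obtain ⟨Q', hQ'⟩ := (IsPGroup.of_card (p := 5) (n := 1)
    (by rw [hcard0, pow_one] : Nat.card D0 = 5 ^ 1)).exists_le_sylow
  have hQ'eq : D0 = (Q' : Subgroup G) := Subgroup.eq_of_le_of_card_ge hQ' (by
    rw [Sylow.card_eq_multiplicity, hfac, hcard0, pow_one])
  obtain ⟨x, hx⟩ := MulAction.exists_smul_eq G Q' Q
  have hQD : IsDefectGroup 5 M B (Q : Subgroup G) := by
    have h := isDefectGroup_conj hM hD0 x
    rw [hQ'eq] at h
    rw [← hx]
    exact h
  have hcard : Nat.card (Q : Subgroup G) = 5 := D.card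
  obtain ⟨b, hb⟩ := exists_pair_of_le_defect hM hB hQD le_rfl
  have hmax := maximal_of_defect hM hQD hb
  haveI := Fintype.ofFinite (Subgroup.centralizer ((Q : Subgroup G) : Set G))
  obtain ⟨θ, hθ, hθP⟩ := DefectOne.exists_trivial hM hmax hcard hsq
  let S : PConj.Setup G 5 := ⟨1, 48964608, by norm_num, by rw [hG]; norm_num, by norm_num⟩
  obtain ⟨N, Y, δ, hN, hem, hYB, hYc, -, horb, horb', -⟩ :=
    DefectOne.galois_main_values S hM hmax hcard hsq hθ hθP rfl
  generalize he : (Subgroup.centralizer ((Q : Subgroup G) : Set G)).relIndex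
    (pairStab (pmod_prime hM) hmax.1.1.2) = e at hem
  -- the closed set
  set O := S.orb χ0 with hO
  obtain ⟨hOB, hOc, hen⟩ : (∀ χ ∈ O, χ ∈ B) ∧ O.card ∣ 4 ∧ e * O.card ≤ 4 := by
    by_cases h : χ0 ∈ Y
    · rw [hO, horb χ0 h]
      exact ⟨hYB, hYc ▸ ⟨e, by rw [mul_comm]; exact hem.symm⟩, by rw [hYc]; exact hem.le⟩
    · rw [hO, horb' χ0 h0B h]
      refine ⟨fun χ hχ => (Finset.mem_singleton.1 hχ) ▸ h0B, by simp, ?_⟩
      rw [Finset.card_singleton, mul_one]
      exact Nat.le_of_dvd (by norm_num) ⟨N, hem.symm⟩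
  have hsame : ∀ χ ∈ O, charDegree (χ : G → ℂ) = charDegree (χ0 : G → ℂ) ∧ φ χ = φ χ0 ∧ z χ = z χ0 := by
    intro χ hχ
    obtain ⟨u, -, hu⟩ := S.mem_orb.1 hχ
    have h1 : (χ : G → ℂ) 1 = (χ0 : G → ℂ) 1 := S.deg_orb hχ
    simp only [val_one, Int.cast_natCast, Nat.cast_inj] at h1
    haveI := S.neZero
    have h2 : ¬ 5 ∣ (u : ZMod (5 ^ S.a * S.m)).val := fun h => by
      have h3 : (u : ZMod (5 ^ S.a * S.m)).val.Coprime (5 ^ S.a * S.m) := ZMod.val_coe_unit_coprime u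
      have h4 := Nat.Coprime.coprime_dvd_left h h3
      norm_num [S] at h4
    have h5 : (χ : G → ℂ) (g ^ 2) = (χ0 : G → ℂ) (g ^ 2) := by
      rw [hu, gal, ← pow_mul, F.val_pow χ0 _ h2, F.val]
    rw [F.val, F.val, Int.cast_inj] at h5
    obtain ⟨u', hu'⟩ := (DefectOne.mem_orb_iff S).1 hχ
    have h6 : (χ : G → ℂ) (g ^ 5) = (χ0 : G → ℂ) (g ^ 5) := by
      rw [hu']
      exact DefectOne.act_regular S u' χ0 (by rw [orderOf_pow, T.ord]; norm_num)
    rw [T.val, T.val, Int.cast_inj] at h6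
    exact ⟨h1, h5, h6⟩
  obtain ⟨a, W, hab, hW, hWN, hval⟩ := DefectOne.section_values hM hmax hcard hsq hθ S hθP he
    (DefectOne.closed_orb S χ0) hOB
  rw [D.index] at hW
  -- the element and its involution
  obtain ⟨q, hq⟩ := D.fused
  have hg2 : orderOf (g ^ 2) = 5 := by rw [orderOf_pow, T.ord]; rfl
  have hq1 : q * g ^ 2 * q⁻¹ ≠ 1 := fun e => by
    rw [conj_eq_one_iff] at e; rw [e, orderOf_one] at hg2; norm_num at hg2
  set v : (Q : Subgroup G) := ⟨q * g ^ 2 * q⁻¹, hq⟩ with hv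
  have hv1 : v ≠ 1 := fun e => hq1 (congrArg Subtype.val e)
  set s := q * g ^ 5 * q⁻¹ with hs
  have hsC : s ∈ Subgroup.centralizer ((Q : Subgroup G) : Set G) := by
    rw [← Sections.cent_eq D.card hq hq1, Subgroup.mem_centralizer_singleton_iff, hs, conj_mul, conj_mul,
      ← pow_add, ← pow_add]
  have hs5 : ¬ 5 ∣ orderOf s := by
    rw [show s = MulAut.conj q (g ^ 5) by simp [hs], MulEquiv.orderOf_eq, orderOf_pow, T.ord]; norm_num
  have hcl : ∀ (χ : IrrCharacter G) (y : G), (χ : G → ℂ) (q * y * q⁻¹) = (χ : G → ℂ) y := fun χ y =>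
    isClassFunction_character (irr_isCharacter χ.2) y q
  have hone := hval v hv1 1 (one_mem _) (by simp)
  set t1 : ℕ := deg (θ : Subgroup.centralizer ((Q : Subgroup G) : Set G) → ℂ) with ht1
  rw [Finset.sum_congr rfl (s₁ := O) (g := fun _ => (φ χ0 : ℂ)) fun χ hχ => by
      rw [mul_one, show ((v : (Q : Subgroup G)) : G) = q * g ^ 2 * q⁻¹ from rfl, hcl, F.val, (hsame χ hχ).2.1],
    Finset.sum_const, nsmul_eq_mul, Finset.sum_congr rfl (s₁ := W) (g := fun _ => (t1 : ℂ)) fun w _ => by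
      rw [dif_pos (by rw [mul_one, inv_mul_cancel]; exact one_mem _)]
      simp only [mul_one, inv_mul_cancel]
      exact char_one_eq_deg (irr_isCharacter θ.2), Finset.sum_const, nsmul_eq_mul] at hone
  have hφ : (O.card : ℤ) * φ χ0 = a * ((W.card * t1 : ℕ) : ℤ) := by
    have : (((O.card : ℤ) * φ χ0 : ℤ) : ℂ) = ((a * ((W.card * t1 : ℕ) : ℤ) : ℤ) : ℂ) := by
      push_cast; exact hone
    exact_mod_cast this
  -- the values at the product
  have hfun : ∀ w : G, ∃ tt : ℤ, (if h : w⁻¹ * s * w ∈ Subgroup.centralizer ((Q : Subgroup G) : Set G) then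
      (θ : Subgroup.centralizer ((Q : Subgroup G) : Set G) → ℂ) ⟨w⁻¹ * s * w, h⟩ else 0) = (tt : ℂ) ∧
      (w⁻¹ * s * w ∈ Subgroup.centralizer ((Q : Subgroup G) : Set G) →
        (2 : ℤ) ∣ tt - (t1 : ℤ) ∧ |tt| ≤ (t1 : ℤ)) := by
    intro w
    by_cases h : w⁻¹ * s * w ∈ Subgroup.centralizer ((Q : Subgroup G) : Set G)
    · have hss : s * s = 1 := by
        rw [hs, conj_mul, ← pow_add, show 5 + 5 = orderOf g by rw [T.ord], pow_orderOf_eq_one]; group
      obtain ⟨tt, h1, h2, h3⟩ := invol_value θ (v := ⟨w⁻¹ * s * w, h⟩) (Subtype.ext (by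
        show w⁻¹ * s * w * (w⁻¹ * s * w) = 1
        calc w⁻¹ * s * w * (w⁻¹ * s * w) = w⁻¹ * (s * s) * w := by group
          _ = 1 := by rw [hss]; group))
      exact ⟨tt, by rw [dif_pos h]; exact h1, fun _ => ⟨h2, h3⟩⟩
    · exact ⟨0, by rw [dif_neg h]; simp, fun h' => absurd h' h⟩
  choose tt htt htt2 using hfun
  have hsum := hval v hv1 s hsC hs5
  rw [Finset.sum_congr rfl (s₁ := W) fun w _ => htt w, ← Int.cast_sum, ← Int.cast_mul] at hsum
  have hWC : ∀ w ∈ W, (2 : ℤ) ∣ tt w - (t1 : ℤ) ∧ |tt w| ≤ (t1 : ℤ) := fun w hw => by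
    by_cases h : w⁻¹ * s * w ∈ Subgroup.centralizer ((Q : Subgroup G) : Set G)
    · exact htt2 w h
    · exfalso
      exact h (hWN w hw s hsC)
  have hz : (5 : ℤ) ∣ (O.card : ℤ) * z χ0 - a * ∑ w ∈ W, tt w := by
    rw [show ((5 : ℤ)) = ((5 : ℕ) : ℤ) from rfl, ← memLI_intCast_iff hM, Int.cast_sub, ← hsum]
    rw [Finset.sum_congr rfl (s₁ := O) (g := fun χ => (χ : G → ℂ) (g ^ 2 * g ^ 5)) fun χ _ => by
      rw [show ((v : (Q : Subgroup G)) : G) = q * g ^ 2 * q⁻¹ from rfl, hs, conj_mul, hcl]]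
    have hpre : preg 5 (g ^ 2 * g ^ 5) = g ^ 5 :=
      preg_of_mul (by norm_num) ((Commute.refl g).pow_pow 2 5) ⟨1, by rw [hg2, pow_one]⟩
        (by rw [orderOf_pow, T.ord]; norm_num)
    have h := memLI_sum hMp O _ fun χ hχ => memLI_symm hMp (char_congr_preg hM (irr_isCharacter χ.2) (g ^ 2 * g ^ 5))
    rw [hpre, Finset.sum_sub_distrib, Finset.sum_congr rfl (g := fun _ => (z χ0 : ℂ)) fun χ hχ => by
      rw [T.val, (hsame χ hχ).2.2], Finset.sum_const, nsmul_eq_mul] at h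
    push_cast
    exact h
  refine ⟨O.card, W.card * t1, a, ∑ w ∈ W, tt w, hOc, ?_, ?_, ?_, ?_, hφ, hz, ?_⟩
  · refine Nat.mul_dvd_mul ⟨e, hW.symm⟩ ?_
    have hd : t1 ∣ 5 * k := by
      rw [← D.cent]; exact deg_dvd_card θ.2
    refine (Nat.Coprime.dvd_mul_left ?_).1 hd
    refine Nat.Coprime.symm ((Nat.Prime.coprime_iff_not_dvd (by norm_num)).2 fun h5 => h0 ?_)
    have h1 : (5 : ℤ) ∣ (O.card : ℤ) * φ χ0 := by
      rw [hφ]; push_cast; exact dvd_mul_of_dvd_right (dvd_mul_of_dvd_right (by exact_mod_cast h5) _) _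
    have h2 : ¬ (5 : ℤ) ∣ (O.card : ℤ) := fun h => by
      have hle : O.card ≤ 4 := Nat.le_of_dvd (by norm_num) hOc
      have h' : 5 ∣ O.card := by exact_mod_cast h
      have hge : 5 ≤ O.card := Nat.le_of_dvd (Finset.card_pos.2 ⟨χ0, S.self_mem χ0⟩) h'
      omega
    have h3 := ((Nat.prime_iff_prime_int.1 (by norm_num : Nat.Prime 5)).dvd_or_dvd h1).resolve_left h2
    have h4 := dvd_add (F.congr χ0) h3
    rw [sub_add_cancel] at h4
    exact_mod_cast h4
  · have h1 : (e : ℤ) * O.card ≤ 4 := by exact_mod_cast hen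
    push_cast at hab
    nlinarith
  · refine (Finset.abs_sum_le_sum_abs _ _).trans ((Finset.sum_le_sum fun w hw => (hWC w hw).2).trans ?_)
    rw [Finset.sum_const, nsmul_eq_mul, Nat.cast_mul]
  · have h1 := Finset.dvd_sum fun w hw => (hWC w hw).1
    rw [Finset.sum_sub_distrib, Finset.sum_const, nsmul_eq_mul] at h1
    rw [Nat.cast_mul]
    exact h1
  · by_cases h : O.card = 1
    · exact Or.inl h
    · have h1 : 1 < O.card := lt_of_le_of_ne (Finset.card_pos.2 ⟨χ0, S.self_mem χ0⟩) (Ne.symm h)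
      obtain ⟨χ, hχ, hne⟩ := Finset.exists_mem_ne h1 χ0
      exact Or.inr ⟨χ, hne, hOB χ hχ, hsame χ hχ⟩

end Cfsg.Agent.MTwentyFour.ByOrder.FiveValue
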