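import Cfsg.Agent.Lib.Spor.MTwentyFourOrder.FiveSide
import Cfsg.Agent.Lib.Spor.MTwentyFourOrder.FiveSideZedArith
import Cfsg.Agent.Lib.Spor.MTwentyFourOrder.FiveValue

/-!
A simple group of the order of the Mathieu group of degree twenty-four: a list of the block of twenty-three at the
element of order five without values at the involution is impossible.
-/

set_option autoImplicit false
set_option linter.unusedSectionVars false
set_option maxRecDepth 100000
set_option maxHeartbeats 2000000

namespace Cfsg.Agent.MTwentyFour.ByOrder.FiveSide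

open Cfsg Cfsg.Agent.Char Cfsg.Agent.Small.Order459648 Cfsg.Agent.Char.PrimeSylowCount
open Cfsg.Agent.MTwelve.OrderFront (val_one)
open Cfsg.Agent.MTwentyFour.ByOrder.Ten (TCol mEl w23)
open Cfsg.Agent.MTwentyFour.ByOrder.FiveColumn (FCol)
open Cfsg.Agent.MTwentyFour.ByOrder.FiveRow (FiveData rowA rowB mOf_eq)
open Cfsg.Agent.MTwentyFour.ByOrder.ThreeCase (It c23 wt nd ordM xl gl arrange arrange_perm arrange_pairwise
  exists_split23 weighted_deg int_form deg_pos' sL sQ sB sM)
open scoped _root_.Classical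

universe u

variable {G : Type u} [Group G] [Fintype G] [IsSimpleGroup G]

local instance fact_fiveSideZed : Fact (Nat.Prime 5) := ⟨by norm_num⟩

theorem xl_five : ∀ d ∈ xl, d % 5 = 0 → d ∈ fills := by decide +kernel
theorem gl_five : ∀ d ∈ gl, d % 5 = 0 → d ∈ gfive := by decide +kernel
theorem enc_arrange (keys : List ℕ) (T : List (Pr × ℤ)) :
    (arrange (fun a : Pr × ℤ => enc a.1) keys T).map Prod.fst = arrange enc keys (T.map Prod.fst) := by
  simp only [arrange, List.map_flatMap]
  refine List.flatMap_congr fun d _ => ?_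
  rw [List.filter_map]
  rfl

/-- A list with no completion having values at the involution is not the one of the group. -/
theorem zed_false {P : Sylow 11 G} {g : G} {z : IrrCharacter G → ℤ} {C : ℕ} (T : TCol P g z C)
    {Q : Sylow 5 G} {k : ℕ} {M : Ideal AlgInt} {c : Fin 4 → IrrCharacter G} {r : List ℤ}
    (hr : r = rowA ∨ r = rowB) (D : FiveData g Q k M c r) {φ : IrrCharacter G → ℤ} (F : FCol g z C k c φ)
    (hno : ∀ χ : IrrCharacter G, charDegree (χ : G → ℂ) ≠ 23)
    {η η' : IrrCharacter G} {A : Finset (IrrCharacter G)} {L' : List Pr} (hne : η ≠ η') (hηA : η ∉ A)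
    (hη'A : η' ∉ A) (hA9 : A.card = 9)
    (hA : ∀ χ, χ ∈ A ↔ (w23 (charDegree (χ : G → ℂ))).natAbs = 2 ∧ χ ≠ oneChar ∧ χ ≠ c 2)
    (hη : ∀ χ, χ = η ∨ χ = η' ↔ (w23 (charDegree (χ : G → ℂ))).natAbs = 1)
    (hdη : charDegree (η' : G → ℂ) = charDegree (η : G → ℂ)) (hfη : φ η' = φ η)
    (hperm : L'.Perm ((((η :: A.toList).map fun χ : IrrCharacter G =>
      ((charDegree (χ : G → ℂ), φ χ) : Pr)).filter fun y => y.1 % 5 != 0)))
    {z2 bud : ℤ} (hz2 : z (c 2) = z2) (hbud : 1 + ∑ i, z (c i) * z (c i) + bud = (C : ℤ))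
    {ord : List Pr} (hord : (ord.map enc).Nodup) (hmem : ∀ x ∈ L', x ∈ ord)
    (hfive : ∀ d ∈ fills ++ gfive, ((d, 0) : Pr) ∈ ord) (hrun : noZed k C z2 bud ord L' = true) : False := by
  have hG := T.order
  let d : IrrCharacter G → ℕ := fun χ => charDegree (χ : G → ℂ)
  let tp : IrrCharacter G → Pr := fun χ => (d χ, φ χ)
  -- the known members
  have hd1 : d oneChar = 1 := by simp [d, oneChar, charDegree]
  have hcd : ∀ i, (i ≠ 2 → d (c i) % 23 = 0) ∧ (i = 2 → d (c i) = 5544) := by
    have h := D.row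
    intro i
    rcases hr with rfl | rfl <;>
    · simp only [List.ofFn_succ, List.ofFn_zero, rowA, rowB, List.cons.injEq, and_true] at h
      obtain ⟨h1, h2, h3, h4⟩ := h
      fin_cases i <;> simp only [d] at * <;> simp at * <;> split_ifs at * <;> omega
  have hd2 : d (c 2) = 5544 := (hcd 2).2 rfl
  have hf2 : φ (c 2) = -1 := by
    have h1 := F.member 2
    rw [show charDegree (c 2 : G → ℂ) = 5544 from hd2] at h1
    simpa using h1
  set All := η :: A.toList with hAll
  have hAllm : ∀ χ, χ ∈ All ↔ χ = η ∨ χ ∈ A := fun χ => by simp [hAll]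
  set S := A ∪ {η, η'} with hS
  have hw2A : ∀ χ ∈ A, (w23 (d χ)).natAbs = 2 := fun χ h => ((hA χ).1 h).1
  have hwη : ∀ χ ∈ ({η, η'} : Finset (IrrCharacter G)), (w23 (d χ)).natAbs = 1 := fun χ h =>
    (hη χ).1 (by simpa using h)
  have hnp : ∀ χ ∈ S, χ ∉ principalBlock M G := by
    intro χ hχ hp'
    have hwχ : (w23 (d χ)).natAbs = 1 ∨ (w23 (d χ)).natAbs = 2 ∧ χ ≠ oneChar ∧ χ ≠ c 2 := by
      rcases Finset.mem_union.1 hχ with h | h
      · exact Or.inr ((hA χ).1 h)
      · exact Or.inl (hwη χ h)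
    rcases (D.mem_iff χ).1 hp' with rfl | ⟨i, rfl⟩
    · rw [hd1] at hwχ; simp [w23] at hwχ
    · by_cases hi : i = 2
      · subst hi; rw [hd2] at hwχ; simp [w23] at hwχ
      · have h0 : (w23 (d (c i))).natAbs = 0 := by
          have := (hcd i).1 hi
          simp [w23, this]
        omega
  have hne1 : ∀ χ ∈ S, χ ≠ oneChar := fun χ h e => hnp χ h ((D.mem_iff χ).2 (Or.inl e))
  -- the degrees
  have hcls : ∀ χ ∈ S, if (w23 (d χ)).natAbs = 2 then d χ ∈ xl else d χ ∈ gl := by
    intro χ hχ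
    obtain ⟨h2, hoff⟩ := Eleven.deg_range hG (hne1 χ hχ)
    simp only [Eleven.off] at hoff
    have h := List.all_eq_true.1 deg_table (d χ) (List.mem_range.2 (by simp only [d]; omega))
    have h23 := Eleven.deg_res hG χ
    have h11 := deg_res_eleven hG χ
    simp only [Eleven.res, List.mem_cons, List.not_mem_nil, or_false] at h23
    simp only [Five.resEleven, List.mem_cons, List.not_mem_nil, or_false] at h11
    have hne11 : charDegree (χ : G → ℂ) ≠ 11 := MathieuByGraph.deg_ne_eleven (na hG) (by rw [hG]; norm_num)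
      (by rw [hG]; norm_num) (by rw [hG]; norm_num) (hne1 χ hχ)
    have hcond : (decide (2 ≤ d χ) && decide (ordM % d χ = 0) && decide (d χ ≠ 11) &&
        decide (d χ ≠ 23) && [0, 1, 22, 11, 12].contains (d χ % 23) &&
        [0, 1, 10].contains (d χ % 11)) = true := by
      simp only [Bool.and_eq_true, decide_eq_true_eq, List.contains_iff_mem, List.mem_cons, List.not_mem_nil,
        or_false, d]
      refine ⟨⟨⟨⟨⟨h2, Nat.mod_eq_zero_of_dvd (ThreeCase.deg_dvd hG χ)⟩, hne11⟩, hno χ⟩, ?_⟩, h11⟩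
      omega
    rw [hcond, Bool.not_true, Bool.false_or, Bool.and_eq_true] at h
    have h' := h.2
    have hw : (w23 (d χ)).natAbs = 1 ∨ (w23 (d χ)).natAbs = 2 := by
      rcases Finset.mem_union.1 hχ with h | h
      · exact Or.inr (hw2A χ h)
      · exact Or.inl (hwη χ h)
    split_ifs at h' ⊢ <;> first | exact List.contains_iff_mem.1 h' | omega
  have hxl : ∀ χ ∈ A, d χ ∈ xl := fun χ h => by
    have := hcls χ (Finset.mem_union_left _ h)
    rwa [if_pos (hw2A χ h)] at this
  have hgl : ∀ χ ∈ ({η, η'} : Finset (IrrCharacter G)), d χ ∈ gl := fun χ h => by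
    have := hcls χ (Finset.mem_union_right _ h)
    rwa [if_neg (by have := hwη χ h; omega)] at this
  have hwtA : ∀ χ ∈ A, wt (d χ) = 1 := fun χ h => (xl_weights _ (hxl χ h)).2.1
  have hwtη : wt (d η) = 2 := (gl_weights _ (hgl η (by simp))).2.1
  have hzη : z η' = z η := by
    obtain ⟨η0, η0', -, h0, -, hreg⟩ := exists_split23 (G := G) hG
    have h1 := hreg (g ^ 5) (by rw [orderOf_pow, T.ord]; norm_num)
    rw [T.val, T.val, Int.cast_inj] at h1
    rcases (h0 η).1 ((hη η).1 (Or.inl rfl)) with e | e <;>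
      rcases (h0 η').1 ((hη η').1 (Or.inr rfl)) with e' | e' <;> subst e <;> subst e'
    exacts [rfl, h1, h1.symm, rfl]
  -- the sums over the block
  have hw2 : ∀ χ ∈ A, w23 (d χ) = 2 * c23 (d χ) := fun χ h => (xl_weights _ (hxl χ h)).1
  have h2c : c 2 ≠ oneChar := D.ne_one 2
  have h23sum : ∀ f : IrrCharacter G → ℤ, f η' = f η → ∑ χ, w23 (d χ) * f χ =
      2 * (f oneChar + f (c 2) + ∑ χ ∈ A, c23 (d χ) * f χ + c23 (d η) * f η) := by
    intro f hf
    have hd' : Disjoint A {η, η'} := Finset.disjoint_left.2 fun χ h h' => by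
      have := hwη χ h'
      have := hw2A χ h
      omega
    have hd'' : Disjoint ({oneChar, c 2} : Finset (IrrCharacter G)) (A ∪ {η, η'}) :=
      Finset.disjoint_left.2 fun χ h h' => by
        rcases Finset.mem_insert.1 h with rfl | h
        · exact hne1 _ h' rfl
        · exact hnp _ h' ((D.mem_iff _).2 (Or.inr ⟨2, (Finset.mem_singleton.1 h).symm⟩))
    rw [← Finset.sum_subset (Finset.subset_univ ({oneChar, c 2} ∪ (A ∪ {η, η'}))) fun χ _ hχ => ?_]
    · rw [Finset.sum_union hd'', Finset.sum_union hd', Finset.sum_pair hne, Finset.sum_pair h2c.symm, hd1, hd2,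
        Finset.sum_congr rfl (s₁ := A) fun χ h => by rw [hw2 χ h, mul_assoc], ← Finset.mul_sum,
        (gl_weights _ (hgl η (by simp))).1, hf]
      rw [show d η' = d η from hdη, (gl_weights _ (hgl η (by simp))).1]
      norm_num [w23]
      ring
    · simp only [Finset.mem_union, Finset.mem_insert, Finset.mem_singleton, not_or] at hχ
      obtain ⟨⟨h1, h2⟩, h3, h4, h5⟩ := hχ
      have e2 : (w23 (d χ)).natAbs ≠ 2 := fun e => h3 ((hA χ).2 ⟨e, h1, h2⟩)
      have e1 : (w23 (d χ)).natAbs ≠ 1 := fun e => ((hη χ).2 e).elim h4 h5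
      have : w23 (d χ) = 0 := by
        revert e1 e2
        simp only [w23]
        split_ifs <;> simp
      rw [this, zero_mul]
  have e_deg := h23sum (fun χ => (d χ : ℤ)) (by rw [show d η' = d η from hdη])
  rw [show ∑ χ, w23 (d χ) * (d χ : ℤ) = 0 from (weighted_deg (G := G) hG T).2.2.2.1, hd1, hd2] at e_deg
  have e_lin := h23sum z hzη
  rw [show ∑ χ, w23 (d χ) * z χ = 0 from T.lin_twentythree, T.z_one, hz2] at e_lin
  have e_quad := h23sum (fun χ => nd (d χ) * (z χ * z χ)) (by rw [show d η' = d η from hdη, hzη])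
  rw [show ∑ χ, w23 (d χ) * (nd (d χ) * (z χ * z χ)) = 0 by
    have h := int_form (G := G) hG (fun χ => w23 (d χ)) fun χ => z χ * z χ
    have h' : ((∑ χ, w23 (d χ) * (nd (d χ) * (z χ * z χ)) : ℤ) : ℂ) = ((0 : ℤ) : ℂ) := by
      simp only [← mul_assoc] at h ⊢
      rw [h]
      have hq := T.quad_twentythree
      simp only [d, Int.cast_mul, pow_two, mul_assoc] at hq ⊢
      rw [hq]
      simp
    exact_mod_cast h', T.z_one, hz2, hd1, hd2] at e_quad
  obtain ⟨n, hn⟩ := F.mixed_twentythree
  have e_mix := h23sum (fun χ => nd (d χ) * (φ χ * z χ)) (by rw [show d η' = d η from hdη, hfη, hzη])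
  rw [show ∑ χ, w23 (d χ) * (nd (d χ) * (φ χ * z χ)) = 2 * (((5 * k * C : ℕ) : ℤ) * (n : ℤ)) by
    have h := int_form (G := G) hG (fun χ => w23 (d χ)) fun χ => φ χ * z χ
    have h' : ((∑ χ, w23 (d χ) * (nd (d χ) * (φ χ * z χ)) : ℤ) : ℂ) =
        ((2 * (((5 * k * C : ℕ) : ℤ) * (n : ℤ)) : ℤ) : ℂ) := by
      simp only [← mul_assoc] at h ⊢
      rw [h]
      simp only [d, Int.cast_mul] at hn ⊢
      simp only [mul_assoc] at hn ⊢
      rw [hn]
      push_cast
      ring
    exact_mod_cast h', F.one, T.z_one, hf2, hz2, hd1, hd2] at e_mix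
  rw [show nd 1 = (ordM : ℤ) by simp [nd]] at e_quad e_mix
  -- the squares
  have hsqS : ∀ f : IrrCharacter G → ℤ, f η' = f η → ∑ χ ∈ S, f χ = ∑ χ ∈ A, f χ + 2 * f η := fun f hf => by
    rw [hS, Finset.sum_union (Finset.disjoint_left.2 fun χ h h' => by
      have := hwη χ h'
      have := hw2A χ h
      omega), Finset.sum_pair hne, hf]
    ring
  have hz_sq : ∑ χ ∈ S, z χ * z χ ≤ bud := by
    set K : Finset (IrrCharacter G) := insert oneChar (Finset.univ.image c) with hK
    have hdisj : Disjoint K S := Finset.disjoint_left.2 fun χ hK' hS' => hnp χ hS' ((D.mem_iff χ).2 (by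
      simpa [hK] using hK'))
    have h6 := Finset.sum_le_sum_of_subset_of_nonneg (f := fun χ => z χ * z χ) (Finset.subset_univ (K ∪ S))
      fun i _ _ => mul_self_nonneg _
    rw [T.square, Finset.sum_union hdisj, hK, Finset.sum_insert (by simpa using fun i => D.ne_one i),
      Finset.sum_image D.inj.injOn, T.z_one] at h6
    linarith
  have hd_sq : ∑ χ ∈ S, (d χ : ℤ) * d χ ≤ (room : ℤ) := by
    set K : Finset (IrrCharacter G) := {oneChar, c 2, c 3} with hK
    have h1 : oneChar ∉ ({c 2, c 3} : Finset (IrrCharacter G)) := by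
      simp [(D.ne_one 2).symm, (D.ne_one 3).symm]
    have h2 : c 2 ∉ ({c 3} : Finset (IrrCharacter G)) := by
      rw [Finset.mem_singleton]; exact fun e => absurd (D.inj e) (by decide)
    have hdisj : Disjoint K S := Finset.disjoint_left.2 fun χ hK' hS' => hnp χ hS' ((D.mem_iff χ).2 (by
      simp only [hK, Finset.mem_insert, Finset.mem_singleton] at hK'
      rcases hK' with h | h | h
      exacts [Or.inl h, Or.inr ⟨2, h.symm⟩, Or.inr ⟨3, h.symm⟩]))
    have hd3 : d (c 3) = 5796 := by
      have h := D.row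
      rcases hr with rfl | rfl <;>
      · simp only [List.ofFn_succ, List.ofFn_zero, rowA, rowB, List.cons.injEq, and_true] at h
        obtain ⟨-, -, -, h4⟩ := h
        simp only [d] at *
        simp at *
        split_ifs at * <;> omega
    have h6 := Finset.sum_le_sum_of_subset_of_nonneg (f := fun χ => (d χ : ℤ) * d χ) (Finset.subset_univ (K ∪ S))
      fun i _ _ => mul_self_nonneg _
    rw [show ∑ χ, (d χ : ℤ) * d χ = 244823040 from (weighted_deg (G := G) hG T).1, Finset.sum_union hdisj, hK,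
      Finset.sum_insert h1, Finset.sum_insert h2, Finset.sum_singleton, hd1, hd2, hd3] at h6
    have hroom : (room : ℤ) = 244823040 - (1 + 5544 * 5544 + 5796 * 5796) := by decide +kernel
    push_cast at h6
    linarith
  -- the candidates
  have hf0 : ∀ χ, ¬ 5 ∣ d χ → φ χ ≠ 0 := fun χ h e => by
    have h1 := F.congr χ
    rw [e, sub_zero] at h1
    exact h (by exact_mod_cast h1)
  have hzz : ∀ χ, z χ * z χ ≤ (C : ℤ) := fun χ => by
    rw [← T.square]
    exact Finset.single_le_sum (f := fun χ => z χ * z χ) (fun i _ => mul_self_nonneg _) (Finset.mem_univ χ)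
  have hopt : ∀ χ ∈ All, z χ ∈ vopts k C (oneOf (All.map tp) (tp χ)) (tp χ) := by
    intro χ hχ
    have hχS : χ ∈ S := by
      rcases (hAllm χ).1 hχ with rfl | h
      · exact Finset.mem_union_right _ (by simp)
      · exact Finset.mem_union_left _ h
    refine List.mem_filter.2 ⟨ThreeCase.mem_zopts T.le ?_, ?_⟩
    · obtain ⟨hb, h2⟩ := T.bound χ
      obtain ⟨hl, hu⟩ := abs_le.1 hb
      simp only [ThreeCase.zok, tp, d, Bool.and_eq_true, Bool.or_eq_true, decide_eq_true_eq]
      simp only [mOf_eq]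
      refine ⟨⟨⟨⟨⟨⟨hzz χ, Int.emod_eq_zero_of_dvd (T.four χ)⟩, Int.emod_eq_zero_of_dvd h2⟩, ?_⟩, by linarith⟩,
        hu⟩, Int.emod_eq_zero_of_dvd (T.class_dvd χ)⟩
      by_cases h5 : 5 ∣ charDegree (χ : G → ℂ)
      · exact Or.inr (Int.emod_eq_zero_of_dvd (F.ten χ h5))
      · exact Or.inl fun h => h5 (Nat.dvd_of_mod_eq_zero h)
    · simp only [Bool.or_eq_true, decide_eq_true_eq]
      by_cases h5 : 5 ∣ d χ
      · exact Or.inl (Nat.mod_eq_zero_of_dvd h5)
      refine Or.inr ?_
      obtain ⟨n, m, a, w, hn, hm, ha, hw, hw2, he, hz, hone⟩ := FiveValue.five_value T D F χ h5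
      refine vok_intro hn (fun h1 => ?_) hm ha hw hw2 (hf0 χ h5) he hz
      refine hone.resolve_right fun ⟨χ', hne', hblk, hdeg, hφ, _⟩ => ?_
      simp only [oneOf, Bool.and_eq_true, decide_eq_true_eq, tp] at h1
      have hχA : χ ∈ A := ((hAllm χ).1 hχ).resolve_left fun e => by
        subst e
        rw [hwtη] at h1
        exact absurd h1.2 (by norm_num)
      have hp' : χ' ∉ principalBlock M G := Cover.not_mem_principal D.modular (hnp χ hχS) hblk
      have hχ'A : χ' ∈ A := (hA χ').2 ⟨by rw [hdeg]; exact hw2A χ hχA,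
        fun e => hp' ((D.mem_iff χ').2 (Or.inl e)), fun e => hp' ((D.mem_iff χ').2 (Or.inr ⟨2, e.symm⟩))⟩
      have hsub : [χ, χ'] ⊆ All.filter fun y => decide (tp y = tp χ) := by
        intro y hy
        simp only [List.mem_cons, List.not_mem_nil, or_false] at hy
        rcases hy with rfl | rfl
        · simp [List.mem_filter, hχ]
        · simp [List.mem_filter, (hAllm _).2 (Or.inr hχ'A), tp, d, hdeg, hφ]
      have hlen := ((List.nodup_cons.2 ⟨by simpa using hne'.symm, List.nodup_singleton _⟩).subperm hsub).length_le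
      have hcount : (All.map tp).count (tp χ) = (All.filter fun y => decide (tp y = tp χ)).length := by
        rw [List.count, List.countP_map, List.countP_eq_length_filter]
        congr 1
        exact List.filter_congr fun y _ => by simp [beq_eq_decide]
      simp only [List.length_cons, List.length_nil] at hlen
      simp only [tp] at hcount hlen
      omega
  -- the list is a completion
  have hL'mem : ∀ x, x ∈ L' ↔ ∃ χ ∈ All, tp χ = x ∧ ¬ 5 ∣ d χ := by
    intro x
    rw [hperm.mem_iff, List.mem_filter, List.mem_map]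
    constructor
    · rintro ⟨⟨χ, hχ, rfl⟩, h5⟩
      refine ⟨χ, hχ, rfl, fun h => ?_⟩
      simp only [bne_iff_ne] at h5
      exact h5 (Nat.mod_eq_zero_of_dvd h)
    · rintro ⟨χ, hχ, rfl, h5⟩
      refine ⟨⟨χ, hχ, rfl⟩, ?_⟩
      simp only [bne_iff_ne, tp]
      exact fun h => h5 (Nat.dvd_of_mod_eq_zero h)
  rw [noZed, Bool.or_eq_true] at hrun
  rcases hrun with hrun | hrun
  · obtain ⟨x, hx, hemp⟩ := List.any_eq_true.1 hrun
    rw [List.isEmpty_iff] at hemp
    obtain ⟨χ, hχ, rfl, -⟩ := (hL'mem x).1 hx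
    have := vopts_mono (hopt χ hχ)
    rw [hemp] at this
    exact List.not_mem_nil this
  set gl0 : List ℕ := if 5 ∣ d η then [d η] else [] with hgl0
  have hany : (L'.any fun x => decide (wt x.1 = 2)) = !decide (5 ∣ d η) := by
    by_cases h5 : 5 ∣ d η
    · rw [decide_eq_true h5, Bool.not_true, List.any_eq_false]
      intro x hx
      obtain ⟨χ, hχ, rfl, h⟩ := (hL'mem x).1 hx
      rcases (hAllm χ).1 hχ with rfl | hA'
      · exact absurd h5 h
      · simp [tp, hwtA χ hA']
    · rw [decide_eq_false h5, Bool.not_false, List.any_eq_true]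
      exact ⟨tp η, (hL'mem _).2 ⟨η, by simp [hAll], rfl, h5⟩, by simp [tp, hwtη]⟩
  have hglmem : gl0 ∈ (if L'.any (fun x => decide (wt x.1 = 2)) then [[]] else gfive.map fun g => [g]) := by
    rw [hany, hgl0]
    by_cases h5 : 5 ∣ d η
    · simp only [h5, decide_true, Bool.not_true, Bool.false_eq_true, if_false, if_true]
      exact List.mem_map.2 ⟨d η, gl_five _ (hgl η (by simp)) (Nat.mod_eq_zero_of_dvd h5), rfl⟩
    · simp [h5]
  set A5 := A.toList.filter fun χ => decide (5 ∣ d χ) with hA5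
  have hlen : (L'.filter fun x => decide (wt x.1 = 1)).length + A5.length = 9 := by
    rw [(hperm.filter _).length_eq, List.filter_filter, List.filter_map, List.length_map, List.filter_cons]
    rw [if_neg (by simp [hwtη, d] : ¬ _), List.filter_congr (q := fun χ => !decide (5 ∣ d χ)) fun χ hχ => by
      simp [hwtA χ (Finset.mem_toList.1 hχ), d, Nat.dvd_iff_mod_eq_zero, bne, BEq.beq], hA5, add_comm,
      List.filter_append_perm _ _ |>.length_eq.symm.trans (List.length_append ..) |>.symm,
      Finset.length_toList, hA9]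
  have hrun' := List.all_eq_true.1 hrun gl0 hglmem
  obtain ⟨l, hl, hf⟩ := pick_sound _ fills [] _ ((A5.map d : List ℕ) : Multiset ℕ)
    (by rw [Multiset.coe_card, List.length_map]; omega)
    (fun a ha => by
      obtain ⟨χ, hχ, rfl⟩ := List.mem_map.1 (by simpa using ha : a ∈ A5.map d)
      obtain ⟨h1, h2⟩ := List.mem_filter.1 hχ
      exact xl_five _ (hxl χ (Finset.mem_toList.1 h1)) (Nat.mod_eq_zero_of_dvd (of_decide_eq_true h2))) hrun'
  rw [Multiset.coe_nil, add_zero, Multiset.coe_eq_coe] at hl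
  set ds := zRow ord L' (gl0 ++ l) with hds
  have hsplit : (L' ++ (gl0 ++ l).map fun a => ((a, 0) : Pr)).Perm (All.map tp) := by
    have h0 : ∀ χ, 5 ∣ d χ → φ χ = 0 := fun χ h => F.zero χ h
    have h1 : ((gl0 ++ l).map fun a => ((a, 0) : Pr)).Perm ((All.filter fun χ => decide (5 ∣ d χ)).map tp) := by
      refine ((List.Perm.append_left gl0 hl).map _).trans (List.Perm.of_eq ?_)
      rw [List.map_append, List.map_map, hAll, List.filter_cons]
      have e : ∀ χ ∈ A5, ((d χ, 0) : Pr) = tp χ := fun χ hχ => by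
        simp [tp, h0 χ (of_decide_eq_true (List.mem_filter.1 hχ).2)]
      by_cases h5 : 5 ∣ d η
      · simp only [hgl0, h5, decide_true, if_true, List.map_cons, List.map_nil, List.singleton_append, Function.comp_def]
        rw [List.map_congr_left e]
        simp [tp, h0 η h5, hA5]
      · simp only [hgl0, h5, decide_false, Bool.false_eq_true, if_false, List.map_nil, List.nil_append,
          Function.comp_def]
        rw [List.map_congr_left e]
    have h2 : L'.Perm ((All.filter fun χ => !decide (5 ∣ d χ)).map tp) := by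
      refine hperm.trans (List.Perm.of_eq ?_)
      rw [List.filter_map]
      congr 1
      refine List.filter_congr fun χ _ => ?_
      simp [d, Nat.dvd_iff_mod_eq_zero, bne, BEq.beq]
    refine (h2.append h1).trans ?_
    rw [← List.map_append]
    exact (List.perm_append_comm.trans (List.filter_append_perm _ _)).map _
  have hin : ∀ χ ∈ All, tp χ ∈ ord := fun χ hχ => by
    by_cases h5 : 5 ∣ d χ
    · rw [show tp χ = (d χ, 0) by simp [tp, F.zero χ h5]]
      refine hfive _ (List.mem_append.2 ?_)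
      rcases (hAllm χ).1 hχ with rfl | h
      · exact Or.inr (gl_five _ (hgl _ (by simp)) (Nat.mod_eq_zero_of_dvd h5))
      · exact Or.inl (xl_five _ (hxl χ h) (Nat.mod_eq_zero_of_dvd h5))
    · exact hmem _ ((hL'mem _).2 ⟨χ, hχ, rfl, h5⟩)
  have hinl : ∀ x ∈ L' ++ (gl0 ++ l).map fun a => ((a, 0) : Pr), x ∈ ord := fun x hx => by
    obtain ⟨χ, hχ, rfl⟩ := List.mem_map.1 (hsplit.mem_iff.1 hx)
    exact hin χ hχ
  set T3 := (All.map fun χ => (tp χ, z χ)).mergeSort fun a b : Pr × ℤ => decide (a.2 ≤ b.2) with hT3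
  set T3' := arrange (fun a : Pr × ℤ => enc a.1) (ord.map enc) T3 with hT3'
  have hT3m : ∀ a ∈ T3, ∃ χ ∈ All, (tp χ, z χ) = a := fun a ha =>
    List.mem_map.1 ((List.mergeSort_perm _ _).mem_iff.1 ha)
  have hT3p : T3'.Perm (All.map fun χ => (tp χ, z χ)) :=
    (arrange_perm _ _ T3 hord fun a ha => by
      obtain ⟨χ, hχ, rfl⟩ := hT3m a ha
      exact List.mem_map_of_mem (hin χ hχ)).trans (List.mergeSort_perm _ _)
  have hfst : T3'.map Prod.fst = ds := by
    rw [hT3', enc_arrange, hds, zRow]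
    refine (arrange_enc_perm hord ?_ hinl).symm
    refine hsplit.trans ?_
    refine List.Perm.trans (List.Perm.of_eq ?_) ((List.mergeSort_perm _ _).map Prod.fst).symm
    rw [List.map_map]
    rfl
  have hdsp : ds.Perm (All.map tp) := by
    rw [← hfst]
    refine (hT3p.map Prod.fst).trans (List.Perm.of_eq ?_)
    rw [List.map_map]
    rfl
  have hsum : ∀ f : IrrCharacter G → ℤ, (All.map f).sum = f η + ∑ χ ∈ A, f χ := fun f => by
    rw [hAll, List.map_cons, List.sum_cons, Finset.sum_map_toList]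
  have hdeg : degOk (L' ++ (gl0 ++ l).map fun a => ((a, 0) : Pr)) = true := by
    simp only [degOk, Bool.and_eq_true, decide_eq_true_eq]
    rw [(hsplit.map _).sum_eq, (hsplit.map _).sum_eq, List.map_map, List.map_map, hsum, hsum]
    refine ⟨?_, ?_⟩
    · simp only [Function.comp_apply, tp]
      push_cast at e_deg
      linarith
    · have h := hsqS (fun χ => (d χ : ℤ) * d χ) (by rw [show d η' = d η from hdη])
      simp only [Function.comp_apply, tp, hwtη]
      rw [Finset.sum_congr rfl fun χ hχ => by rw [hwtA χ hχ, one_mul]]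
      linarith
  rw [hdeg, Bool.not_true, Bool.false_or, Bool.not_eq_true'] at hf
  refine absurd hf ?_
  rw [Bool.not_eq_false, zHit]
  set p := T3'.map fun a => (zIt k C ds a.1, a.2) with hp
  have hp1 : p.map Prod.fst = ds.map (zIt k C ds) := by
    conv_rhs => arg 2; rw [← hfst]
    rw [hp, List.map_map, List.map_map]
    rfl
  have hpsum : ∀ f : It → ℤ → ℤ, (p.map fun a => f a.1 a.2).sum =
      f (zIt k C ds (tp η)) (z η) + ∑ χ ∈ A, f (zIt k C ds (tp χ)) (z χ) := fun f => by
    rw [hp, List.map_map, (hT3p.map _).sum_eq, List.map_map, hsum]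
    rfl
  rw [← hp1]
  refine ThreeCase.go_sound 0 (5 * k * C) bud p none _ _ 0 _ _ ?_ ?_ (by simp) ?_ ?_ ?_ ?_ ?_ ?_ rfl
  · intro a ha
    obtain ⟨b, hb, rfl⟩ := List.mem_map.1 ha
    obtain ⟨χ, hχ, rfl⟩ := List.mem_map.1 (hT3p.mem_iff.1 hb)
    refine ⟨?_, ThreeCase.c23_sq _, ThreeCase.wt_pos _⟩
    have h := hopt χ hχ
    have : oneOf ds (tp χ) = oneOf (All.map tp) (tp χ) := by
      simp only [oneOf, hdsp.count_eq]
    simpa [zIt, this] using h
  · refine List.pairwise_map.2 ?_
    have hs : T3.Pairwise fun a b : Pr × ℤ => enc a.1 = enc b.1 → a.2 ≤ b.2 :=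
      (List.pairwise_mergeSort (le := fun a b : Pr × ℤ => decide (a.2 ≤ b.2))
        (fun a b c h1 h2 => by simp only [decide_eq_true_eq] at h1 h2 ⊢; omega)
        (fun a b => by simp only [Bool.or_eq_true, decide_eq_true_eq]; omega) _).imp
        (S := fun a b : Pr × ℤ => enc a.1 = enc b.1 → a.2 ≤ b.2) fun {a b} h _ => of_decide_eq_true h
    refine (arrange_pairwise (fun a : Pr × ℤ => enc a.1) (fun a b => a.2 ≤ b.2) _ T3 hord hs).imp fun {a b} h he => ?_
    exact h (congrArg enc (by simpa [zIt] using he))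
  · rw [sL, hpsum fun i x => i.c * x]
    simp only [zIt, tp]
    linarith
  · rw [sQ, hpsum fun i x => i.qc * (x * x), Nat.cast_zero, Int.emod_zero]
    simp only [zIt, tp, mul_assoc] at e_quad ⊢
    linarith
  · rw [sQ, hpsum fun i x => i.qc * (x * x)]
    simp only [zIt, tp, mul_assoc] at e_quad ⊢
    linarith
  · rw [sB, hpsum fun i x => i.w * (x * x)]
    have h := hsqS (fun χ => z χ * z χ) (by rw [hzη])
    simp only [zIt, tp, hwtη]
    rw [Finset.sum_congr rfl fun χ hχ => by rw [hwtA χ hχ, one_mul]]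
    linarith
  · rw [sM, hpsum fun i x => i.e * x]
    refine Int.emod_eq_zero_of_dvd ⟨n, ?_⟩
    simp only [zIt, tp, mul_assoc] at e_mix ⊢
    linarith
  · rw [sM, hpsum fun i x => i.e * x]
    have h0 : (0 : ℤ) ≤ ((5 * k * C : ℕ) : ℤ) * (n : ℤ) := by positivity
    simp only [zIt, tp, mul_assoc] at e_mix h0 ⊢
    linarith

end Cfsg.Agent.MTwentyFour.ByOrder.FiveSide
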