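import Cfsg.Agent.Lib.Spor.MTwentyFourOrder.SectionSquare
import Cfsg.Agent.Lib.Char.BrauerTuan.Pairs

/-!
Pairs of elements of two classes multiplying into a section of a Sylow subgroup of prime order: their number is
seen by the principal block alone, and it is divisible by both centralisers.
-/

set_option autoImplicit false
set_option linter.unusedSectionVars false
set_option maxHeartbeats 1000000

namespace Cfsg.Agent.MTwentyFour.ByOrder.Sections

open Cfsg Cfsg.Agent.Char Cfsg.Agent.Char.PrimeSylowCount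
open scoped ComplexConjugate
open scoped _root_.Classical

universe u

variable {G : Type u} [Group G] [Fintype G] {p : ℕ} [hp : Fact p.Prime] {P : Sylow p G} {e k : ℕ}
  {M : Ideal AlgInt}

/-- A function of the characters against the values on a section. -/
theorem sum_section (hM : IsPModular p M) (hP : Nat.card P = p) (hf : FrobSylow P e) {y : G}
    (hy : y ∈ (P : Subgroup G)) (hy1 : y ≠ 1) (hC : Nat.card (Subgroup.centralizer ({y} : Set G)) = p * k)
    (hk : ¬ p ∣ k) {B : Finset (IrrCharacter G)} (hB : ∀ χ, χ ∈ principalBlock M G ↔ χ ∈ B)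
    (σ : ℂ →+* ℂ) (F : IrrCharacter G → ℂ) :
    ∑ w ∈ regs p y, ∑ χ : IrrCharacter G, σ ((χ : G → ℂ) (y * (w : G))) * F χ =
      (k : ℂ) * ∑ χ ∈ B, σ ((χ : G → ℂ) y) * F χ := by
  obtain ⟨-, -, hr⟩ := Square.split_bijective hP hy hy1 hC hk
  rw [Finset.sum_comm]
  simp only [← Finset.sum_mul, ← map_sum, sum_regs hM hf hy hy1, hr, map_mul, map_natCast]
  rw [Finset.mul_sum, ← Finset.sum_subset (Finset.subset_univ B) fun χ _ hχ => by
    rw [if_neg fun h => hχ ((hB χ).1 h), map_zero, mul_zero, zero_mul]]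
  exact Finset.sum_congr rfl fun χ hχ => by rw [if_pos ((hB χ).2 hχ), mul_assoc]

/-- The pairs of conjugators into a section. -/
theorem pairs_section (hM : IsPModular p M) (hP : Nat.card P = p) (hf : FrobSylow P e) {y : G}
    (hy : y ∈ (P : Subgroup G)) (hy1 : y ≠ 1) (hC : Nat.card (Subgroup.centralizer ({y} : Set G)) = p * k)
    (hk : ¬ p ∣ k) {B : Finset (IrrCharacter G)} (hB : ∀ χ, χ ∈ principalBlock M G ↔ χ ∈ B) (a b : G) :
    ∃ n : ℕ, (Nat.card G : ℂ) * (k : ℂ) *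
        ∑ χ ∈ B, conj ((χ : G → ℂ) y) * ((χ : G → ℂ) a * (χ : G → ℂ) b / (χ : G → ℂ) 1) =
      (Nat.card (Subgroup.centralizer ({a} : Set G)) : ℂ) * (Nat.card (Subgroup.centralizer ({b} : Set G)) : ℂ) * n := by
  choose n hn using fun w : Subgroup.centralizer ({y} : Set G) => BrauerTuan.centralizers_dvd_pairs a b (y * (w : G))
  refine ⟨∑ w ∈ regs p y, n w, ?_⟩
  rw [mul_assoc (Nat.card G : ℂ), ← sum_section hM hP hf hy hy1 hC hk hB (starRingEnd ℂ), Finset.mul_sum, Nat.cast_sum,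
    Finset.mul_sum]
  refine Finset.sum_congr rfl fun w _ => ?_
  rw [← BrauerTuan.pairs_formula_two a b (y * (w : G))]
  exact_mod_cast hn w

/-- The pairs of conjugates of an element of order two into a section: a square, from the inverters. -/
theorem square_section (hM : IsPModular p M) (hP : Nat.card P = p) (hf : FrobSylow P e) {y : G}
    (hy : y ∈ (P : Subgroup G)) (hy1 : y ≠ 1) (hC : Nat.card (Subgroup.centralizer ({y} : Set G)) = p * k)
    (hk : ¬ p ∣ k) (hp2 : p ≠ 2) {B : Finset (IrrCharacter G)} (hB : ∀ χ, χ ∈ principalBlock M G ↔ χ ∈ B)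
    {v : G} (hv : v ^ 2 = 1) :
    ∃ x : ℕ, x ≤ k ∧ (Nat.card G : ℂ) * ((p : ℂ) * (x : ℂ)) ^ 2 =
      (p : ℂ) * (k : ℂ) * (Nat.card {u : G // IsConj v u} : ℂ) ^ 2 *
        ∑ χ ∈ B, (χ : G → ℂ) y * (((χ : G → ℂ) v) ^ 2 / (χ : G → ℂ) 1) := by
  have hvv : v * v = 1 := by rw [← pow_two, hv]
  obtain ⟨⟨x, hx⟩, hle⟩ := Square.inverters_bound hP hy hy1 hC hk hvv hp2
  refine ⟨x, Nat.le_of_mul_le_mul_left (hx ▸ hle) hp.out.pos, ?_⟩
  have hreal : ∀ χ : IrrCharacter G, conj ((χ : G → ℂ) v) = (χ : G → ℂ) v := fun χ => by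
    rw [← char_inv (irr_isCharacter χ.2), inv_eq_of_mul_eq_one_right hvv]
  have hcount := Square.pairs_count hP hy hy1 hC hk hvv hp2
  rw [hx] at hcount
  have h1 : (Nat.card {u : G // IsConj v u} : ℂ) ^ 2 * ((k : ℂ) *
      ∑ χ ∈ B, (χ : G → ℂ) y * (((χ : G → ℂ) v) ^ 2 / (χ : G → ℂ) 1)) =
      (Nat.card G : ℂ) * ((∑ w ∈ regs p y, (GTwoSpectrum.pairs v (y * (w : G))).card : ℕ) : ℂ) := by
    rw [Nat.cast_sum, Finset.mul_sum (s := regs p y), Finset.sum_congr rfl fun w _ => GTwoSpectrum.pairs_formula v _ hreal,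
      ← Finset.mul_sum]
    congr 1
    have h := sum_section hM hP hf hy hy1 hC hk hB (RingHom.id ℂ) fun χ => ((χ : G → ℂ) v) ^ 2 / (χ : G → ℂ) 1
    simp only [RingHom.id_apply] at h
    rw [← h]
    exact Finset.sum_congr rfl fun w _ => Finset.sum_congr rfl fun χ _ => mul_comm _ _
  have hc : ((p : ℂ) * (x : ℂ)) ^ 2 =
      (p : ℂ) * ((∑ w ∈ regs p y, (GTwoSpectrum.pairs v (y * (w : G))).card : ℕ) : ℂ) := by
    rw [pow_two]; exact_mod_cast hcount.symm
  rw [hc]
  linear_combination -(p : ℂ) * h1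

end Cfsg.Agent.MTwentyFour.ByOrder.Sections
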