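import Cfsg.Agent.Lib.Spor.MTwentyFourOrder.FiveSideTwelve
import Cfsg.Agent.Lib.Spor.MTwentyFourOrder.FiveSideZed
import Cfsg.Agent.Lib.Spor.MTwentyFourOrder.FiveSideRunZedTwelve
import Cfsg.Agent.Lib.Spor.MTwentyFourOrder.SectionPairs

/-!
A simple group of the order of the Mathieu group of degree twenty-four: with a centraliser of order
sixty for an element of order five there is a character of degree twenty-three.
-/

set_option autoImplicit false
set_option linter.unusedSectionVars false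
set_option maxRecDepth 100000
set_option maxHeartbeats 2000000

namespace Cfsg.Agent.MTwentyFour.ByOrder.FiveSide

open Cfsg Cfsg.Agent.Char Cfsg.Agent.Small.Order459648 Cfsg.Agent.Char.PrimeSylowCount
open Cfsg.Agent.MTwelve.OrderFront (val_one)
open Cfsg.Agent.MTwentyFour.ByOrder.Ten (TCol mEl)
open Cfsg.Agent.MTwentyFour.ByOrder.FiveColumn (FCol)
open Cfsg.Agent.MTwentyFour.ByOrder.FiveRow (FiveData rowA rowB ten_values mOf_eq)
open Cfsg.Agent.MTwentyFour.ByOrder.ThreeCase (nd ordM)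
open scoped _root_.Classical

universe u

variable {G : Type u} [Group G] [Fintype G] [IsSimpleGroup G]

local instance fact_fiveZedTwelveB : Fact (Nat.Prime 5) := ⟨by norm_num⟩

/-- The values at the involution of the principal block of five. -/
theorem local_twelve_b {P : Sylow 11 G} {g : G} {z : IrrCharacter G → ℤ} (T : TCol P g z 7680)
    {Q : Sylow 5 G} {M : Ideal AlgInt} {c : Fin 4 → IrrCharacter G} (D : FiveData g Q 12 M c rowB) :
    z (c 0) = 26 ∧ z (c 1) = 39 ∧ z (c 2) = -56 ∧ z (c 3) = -44 := by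
  have hG := T.order
  obtain ⟨hd0, hd1, hd2, hd3⟩ : charDegree (c 0 : G → ℂ) = 506 ∧ charDegree (c 1 : G → ℂ) = 759 ∧
      charDegree (c 2 : G → ℂ) = 5544 ∧ charDegree (c 3 : G → ℂ) = 5796 := by
    have h := D.row
    simp [rowB, List.ofFn_succ] at h
    obtain ⟨h0, h1, h2, h3⟩ := h
    refine ⟨?_, ?_, ?_, ?_⟩
    · split_ifs at h0 <;> omega
    · split_ifs at h1 <;> omega
    · split_ifs at h2 <;> omega
    · split_ifs at h3 <;> omega
  obtain ⟨q, hq⟩ := D.fused
  have hg2 : orderOf (g ^ 2) = 5 := by rw [orderOf_pow, T.ord]; rfl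
  have hq1 : q * g ^ 2 * q⁻¹ ≠ 1 := fun e => by
    rw [conj_eq_one_iff] at e; rw [e, orderOf_one] at hg2; norm_num at hg2
  have hf5 : FrobSylow Q 4 := D.index ▸ frobSylow_of_prime D.card
  have hC5 : Nat.card (Subgroup.centralizer ({q * g ^ 2 * q⁻¹} : Set G)) = 5 * 12 := by
    rw [Sections.cent_eq D.card hq hq1, D.cent]
  have hk5' : ¬ 5 ∣ 12 := by norm_num
  have hv5 : ∀ i, (c i : G → ℂ) (q * g ^ 2 * q⁻¹) = if charDegree (c i : G → ℂ) % 5 = 1 then (1 : ℂ) else -1 :=
    fun i => D.val i ⟨_, hq⟩ (mem_nonOne.2 hq1)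
  set B5 : Finset (IrrCharacter G) := insert oneChar (Finset.univ.image c) with hB5
  have hB5m : ∀ χ, χ ∈ principalBlock M G ↔ χ ∈ B5 := fun χ => by
    rw [D.mem_iff, hB5, Finset.mem_insert, Finset.mem_image]
    simp
  have hB5s : ∀ F' : IrrCharacter G → ℂ, ∑ χ ∈ B5, F' χ = F' oneChar + (F' (c 0) + F' (c 1) + F' (c 2) + F' (c 3)) := by
    intro F'
    rw [hB5, Finset.sum_insert (by simp [D.ne_one]), Finset.sum_image fun i _ j _ e => D.inj e, Fin.sum_univ_four]
  have h1 : ∀ x : G, ((oneChar : IrrCharacter G) : G → ℂ) x = 1 := fun x => by simp [oneChar]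
  have ht2 : (g ^ 5) ^ 2 = 1 := by rw [← pow_mul, show 5 * 2 = orderOf g from T.ord.symm, pow_orderOf_eq_one]
  have hsq : okSqB 12 7680 (z (c 0)) (z (c 1)) (z (c 2)) (z (c 3)) = true := by
    obtain ⟨x, hx, he⟩ := Sections.square_section D.modular D.card hf5 hq hq1 hC5 hk5' (by norm_num) hB5m ht2
    rw [hG, hB5s] at he
    simp only [h1, hv5, T.val, T.z_one, val_one, hd0, hd1, hd2, hd3] at he
    have hcl : Nat.card {w : G // IsConj (g ^ 5) w} = ordM / 7680 := by
      have h1 := card_conjClass_mul_centralizer (g ^ 5)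
      rw [T.card_cent, hG] at h1
      rw [ordM, ← h1, Nat.mul_div_cancel _ (by norm_num : 0 < 7680)]
    rw [hcl] at he
    simp only [okSqB, List.any_eq_true, List.mem_range, decide_eq_true_eq]
    refine ⟨x, by omega, ?_⟩
    generalize (ordM / 7680 : ℕ) = cl at he ⊢
    have : (((5 : ℤ) * ((x : ℤ) * x) * ((ordM : ℤ) * ordM) : ℤ) : ℂ) = ((((12 : ℕ) : ℤ) * ((cl : ℤ) * (cl : ℤ)) *
        ((ordM : ℤ) + nd 506 * (z (c 0) * z (c 0)) - nd 759 * (z (c 1) * z (c 1)) -
          nd 5544 * (z (c 2) * z (c 2)) + nd 5796 * (z (c 3) * z (c 3))) : ℤ) : ℂ) := by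
      simp only [nd, ordM]
      norm_num
      norm_num at he
      linear_combination (244823040 / 5 : ℂ) * he
    exact_mod_cast this
  have hrt : ¬ 5 ∣ orderOf (g ^ 5) := by rw [orderOf_pow, T.ord]; norm_num
  have hlin5 : z (c 3) = -(1 + z (c 0) - z (c 1) - z (c 2)) := by
    have h := D.rel _ hrt
    rw [Fin.sum_univ_four] at h
    simp [hd0, hd1, hd2, hd3, T.val] at h
    have : ((z (c 3) : ℤ) : ℂ) = ((-(1 + z (c 0) - z (c 1) - z (c 2)) : ℤ) : ℂ) := by
      push_cast; linear_combination h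
    exact_mod_cast this
  have hzz : ∀ χ, z χ * z χ ≤ ((7680 : ℕ) : ℤ) := fun χ => by
    rw [← T.square]
    exact Finset.single_le_sum (f := fun χ => z χ * z χ) (fun i _ => mul_self_nonneg _) (Finset.mem_univ χ)
  have hconst : ∀ j, ∀ i < 10, i ≠ 0 → i ≠ 5 →
      (c j : G → ℂ) (g ^ i) = ((if charDegree (c j : G → ℂ) % 5 = 1 then 1 else -1 : ℤ) : ℂ) := by
    intro j i hi hi0 hi5
    have hy' : q * g ^ (2 * (3 * i)) * q⁻¹ ∈ (Q : Subgroup G) := by
      rw [pow_mul, ← conj_pow]; exact pow_mem hq _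
    have hy'1 : q * g ^ (2 * (3 * i)) * q⁻¹ ≠ 1 := fun e => by
      have := T.ord ▸ orderOf_dvd_of_pow_eq_one (conj_eq_one_iff.1 e)
      omega
    have hsplit : g ^ i = g ^ (2 * (3 * i)) * g ^ (5 * i) := by
      rw [← pow_add, pow_eq_pow_mod (2 * (3 * i) + 5 * i) (T.ord ▸ pow_orderOf_eq_one g),
        show (2 * (3 * i) + 5 * i) % 10 = i by omega]
    have hcl : ∀ b : G, (c j : G → ℂ) (q * b * q⁻¹) = (c j : G → ℂ) b := fun b =>
      isClassFunction_character (irr_isCharacter (c j).2) b q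
    rw [← hcl, hsplit, show q * (g ^ (2 * (3 * i)) * g ^ (5 * i)) * q⁻¹ =
        q * g ^ (2 * (3 * i)) * q⁻¹ * (q * g ^ (5 * i) * q⁻¹) by group,
      Sections.const D.modular hf5 ((D.mem_iff _).2 (Or.inr ⟨j, rfl⟩)) hy' hy'1
        (w := q * g ^ (5 * i) * q⁻¹) (by rw [conj_mul, conj_mul, ← pow_add, ← pow_add, add_comm]) ?_]
    · rw [D.val j ⟨_, hy'⟩ (mem_nonOne.2 hy'1)]
      split_ifs <;> norm_num
    · intro hd
      have h2 : (q * g ^ (5 * i) * q⁻¹) ^ 2 = 1 := by
        rw [conj_pow, ← pow_mul, pow_eq_pow_mod _ (T.ord ▸ pow_orderOf_eq_one g),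
          show 5 * i * 2 % 10 = 0 by omega]
        group
      have := Nat.le_of_dvd (by norm_num) (hd.trans (orderOf_dvd_of_pow_eq_one h2))
      omega
  have hzok : ∀ (j : Fin 4) (x : ℤ), x.natAbs = charDegree (c j : G → ℂ) →
      FiveRow.sg x = (if charDegree (c j : G → ℂ) % 5 = 1 then 1 else -1) →
        FiveRow.zok 7680 x (z (c j)) = true := by
    intro j x hab hsg
    obtain ⟨h10, hle, h8, h2⟩ := ten_values T (c j) (hconst j)
    refine FiveRow.zok_iff.2 ⟨hzz _, ?_, ?_, ?_, ?_, ?_, ?_⟩ <;> simp only [hsg, hab, mOf_eq]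
    · exact Int.emod_eq_zero_of_dvd (T.four _)
    · exact Int.emod_eq_zero_of_dvd h10
    · exact h8
    · exact h2
    · exact hle
    · exact Int.emod_eq_zero_of_dvd (T.class_dvd _)
  have hbudget : 1 + z (c 0) * z (c 0) + z (c 1) * z (c 1) + z (c 2) * z (c 2) + z (c 3) * z (c 3) ≤ 7680 := by
    have h6 := Finset.sum_le_sum_of_subset_of_nonneg (f := fun χ => z χ * z χ)
      (Finset.subset_univ (insert oneChar (Finset.univ.image c))) fun i _ _ => mul_self_nonneg _
    rw [T.square, Finset.sum_insert (by simpa using fun i => D.ne_one i), Finset.sum_image D.inj.injOn, T.z_one,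
      Fin.sum_univ_four] at h6
    push_cast at h6
    linarith
  have hmem : [z (c 0), z (c 1), z (c 2), z (c 3)] ∈ localTwelveB := by
    simp only [localTwelveB, List.mem_flatMap]
    refine ⟨z (c 0), FiveRow.mem_zlist T.le (hzok 0 506 (by rw [hd0]; rfl) (by rw [hd0]; rfl)),
      z (c 1), FiveRow.mem_zlist T.le (hzok 1 (-759) (by rw [hd1]; rfl) (by rw [hd1]; rfl)),
      z (c 2), FiveRow.mem_zlist T.le (hzok 2 (-5544) (by rw [hd2]; rfl) (by rw [hd2]; rfl)), ?_⟩
    rw [← hlin5, if_pos]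
    · simp
    · simp only [Bool.and_eq_true, decide_eq_true_eq]
      refine ⟨⟨hzok 3 5796 (by rw [hd3]; rfl) (by rw [hd3]; rfl), ?_⟩, hsq⟩
      rw [hlin5, neg_mul_neg] at hbudget
      exact hbudget
  simpa using local_table_twelve_b _ hmem

/-- With a centraliser of order sixty and the second row there is a character of degree twenty-three. -/
theorem deg23_twelve_b {P : Sylow 11 G} {g : G} {z : IrrCharacter G → ℤ} {C : ℕ} (T : TCol P g z C)
    (hC : C = 7680) {Q : Sylow 5 G} {M : Ideal AlgInt} {c : Fin 4 → IrrCharacter G}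
    (D : FiveData g Q 12 M c rowB) : ∃ χ : IrrCharacter G, charDegree (χ : G → ℂ) = 23 := by
  by_contra hno
  rw [not_exists] at hno
  subst hC
  obtain ⟨φ, F⟩ := FiveColumn.exists_fcol T D
  obtain ⟨η, η', A, L', h1, h2, h3, h4, h5, h6, h7, h8, h9, hL⟩ := list_twelve T (Or.inr rfl) D F hno
  obtain ⟨h0, h1', h2', h3'⟩ := local_twelve_b T D
  exact zed_false T (Or.inr rfl) D F hno h1 h2 h3 h4 h5 h6 h7 h8 h9 (z2 := -56) (bud := 410) h2'
    (by rw [Fin.sum_univ_four, h0, h1', h2', h3']; norm_num) ord_nodup_twelve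
    (surv_ord_twelve L' hL) ord_five_twelve (no_zed_twelve_b L' hL)

end Cfsg.Agent.MTwentyFour.ByOrder.FiveSide
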