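import Cfsg.Agent.Lib.Char.Ortho

/-!
Fixed spaces of subgroups in the representation of a character: their dimensions as averages, monotone in the
subgroup, and the averages over a subgroup generated by a normalised subgroup and a cyclic group acting
fixed-point-freely on it.
-/

set_option autoImplicit false
set_option linter.unusedSectionVars false
set_option maxHeartbeats 1000000

namespace Cfsg.Agent.MTwentyFour.ByOrder.TenTools

open Cfsg Cfsg.Agent.Char
open scoped _root_.Classical

universe u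

variable {G : Type u} [Group G] [Fintype G]

/-- The average over a subgroup is the dimension of the fixed space. -/
theorem avg_fixed {n : ℕ} (ρ : Representation ℂ G (Fin n → ℂ)) (A : Subgroup G) :
    ∑ g : A, ρ.character (g : G) =
      (Nat.card A : ℂ) * (Module.finrank ℂ (Representation.invariants (ρ.comp A.subtype)) : ℂ) := by
  haveI : Invertible (Fintype.card A : ℂ) := invertibleOfNonzero (Nat.cast_ne_zero.2 Fintype.card_ne_zero)
  rw [← (Representation.isProj_averageMap (ρ.comp A.subtype)).trace]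
  simp only [Representation.averageMap, GroupAlgebra.average, map_smul, map_sum,
    Representation.asAlgebraHom_of, smul_eq_mul, Nat.card_eq_fintype_card]
  rw [← mul_assoc, mul_invOf_self, one_mul]
  rfl

/-- The dimensions of the fixed spaces of two nested subgroups. -/
theorem fixed_mono {χ : G → ℂ} (hχ : IsCharacter G χ) {A B : Subgroup G} (hAB : A ≤ B) {a b : ℤ}
    (ha : ∑ g : A, χ (g : G) = (Nat.card A : ℂ) * a) (hb : ∑ g : B, χ (g : G) = (Nat.card B : ℂ) * b) :
    0 ≤ b ∧ b ≤ a := by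
  obtain ⟨n, ρ, rfl⟩ := hχ
  rw [avg_fixed] at ha hb
  have ha' : (Module.finrank ℂ (Representation.invariants (ρ.comp A.subtype)) : ℤ) = a := by
    exact_mod_cast mul_left_cancel₀ (Nat.cast_ne_zero.2 Nat.card_pos.ne') ha
  have hb' : (Module.finrank ℂ (Representation.invariants (ρ.comp B.subtype)) : ℤ) = b := by
    exact_mod_cast mul_left_cancel₀ (Nat.cast_ne_zero.2 Nat.card_pos.ne') hb
  rw [← ha', ← hb']
  refine ⟨Int.natCast_nonneg _, Int.ofNat_le.2 (Submodule.finrank_mono fun v hv => ?_)⟩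
  exact (Representation.mem_invariants _ v).2 fun g => (Representation.mem_invariants _ v).1 hv ⟨g, hAB g.2⟩

/-- The average over a subgroup is an integer. -/
theorem avg_int {χ : G → ℂ} (hχ : IsCharacter G χ) (A : Subgroup G) :
    ∃ a : ℤ, ∑ g : A, χ (g : G) = (Nat.card A : ℂ) * a := by
  obtain ⟨n, ρ, rfl⟩ := hχ
  exact ⟨_, by rw [avg_fixed]; push_cast; rfl⟩

/-- A subgroup and an element normalising it, no nontrivial power of which centralises a nontrivial element. -/
theorem sum_sup {f : G → ℂ} (hf : ∀ c x : G, f (c * x * c⁻¹) = f x) {P : Subgroup G} {h : G} {r : ℕ}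
    (hr : orderOf h = r) (hN : h ∈ Subgroup.normalizer (P : Set G))
    (hfree : ∀ j < r, j ≠ 0 → ∀ x ∈ P, Commute (h ^ j) x → x = 1) :
    Nat.card (P ⊔ Subgroup.zpowers h : Subgroup G) = Nat.card P * r ∧
      ∑ g : (P ⊔ Subgroup.zpowers h : Subgroup G), f (g : G) =
        ∑ g : P, f (g : G) + (Nat.card P : ℂ) * ∑ j ∈ (Finset.range r).erase 0, f (h ^ j) := by
  have hr0 : 0 < r := hr ▸ orderOf_pos h
  have hle : Subgroup.zpowers h ≤ Subgroup.normalizer (P : Set G) := Subgroup.zpowers_le.2 hN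
  have hdisj : ∀ j < r, h ^ j ∈ P → j = 0 := fun j hj hm => by
    by_contra hj0
    have h1 := hfree j hj hj0 _ hm (Commute.refl _)
    exact hj0 (Nat.eq_zero_of_dvd_of_lt (hr ▸ orderOf_dvd_of_pow_eq_one h1) hj)
  have hinj : ∀ (i j : ℕ), i < r → j < r → ∀ x ∈ P, h ^ i = x * h ^ j → i = j := by
    intro i j hi hj x hx he
    rcases le_total j i with h' | h'
    · have : h ^ (i - j) ∈ P := by
        rw [pow_sub h h', he, mul_inv_cancel_right]; exact hx
      have := hdisj _ (by omega) this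
      omega
    · have : h ^ (j - i) ∈ P := by
        rw [pow_sub h h', he, mul_inv_rev, ← mul_assoc, mul_inv_cancel, one_mul]
        exact inv_mem hx
      have := hdisj _ (by omega) this
      omega
  let F : P × Fin r → (P ⊔ Subgroup.zpowers h : Subgroup G) := fun q =>
    ⟨(q.1 : G) * h ^ (q.2 : ℕ), mul_mem (Subgroup.mem_sup_left q.1.2)
      (Subgroup.mem_sup_right (pow_mem (Subgroup.mem_zpowers h) _))⟩
  have hF : Function.Bijective F := by
    refine ⟨fun q q' he => ?_, fun g => ?_⟩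
    · have he' : (q.1 : G) * h ^ (q.2 : ℕ) = (q'.1 : G) * h ^ (q'.2 : ℕ) := congrArg Subtype.val he
      have h2 : q.2 = q'.2 := Fin.ext (hinj _ _ q.2.2 q'.2.2 ((q.1 : G)⁻¹ * q'.1) (mul_mem (inv_mem q.1.2) q'.1.2)
        (by rw [mul_assoc, ← he', inv_mul_cancel_left]))
      rw [h2] at he'
      exact Prod.ext (Subtype.ext (mul_right_cancel he')) h2
    · have hg : (g : G) ∈ (↑(P ⊔ Subgroup.zpowers h) : Set G) := g.2
      rw [Subgroup.coe_mul_of_right_le_normalizer_left P _ hle] at hg
      obtain ⟨x, hx, w, hw, he⟩ := Set.mem_mul.1 hg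
      obtain ⟨j, hj, rfl⟩ := Finset.mem_image.1 ((mem_zpowers_iff_mem_range_orderOf).1 hw)
      exact ⟨(⟨x, hx⟩, ⟨j, hr ▸ Finset.mem_range.1 hj⟩), Subtype.ext he⟩
  refine ⟨by rw [← Nat.card_eq_of_bijective F hF, Nat.card_prod, Nat.card_fin], ?_⟩
  have hconj : ∀ j ∈ (Finset.range r).erase 0, ∀ x : P, f ((x : G) * h ^ j) = f (h ^ j) := by
    intro j hj x
    obtain ⟨hj0, hj⟩ := Finset.mem_erase.1 hj
    have hjN : h ^ j ∈ Subgroup.normalizer (P : Set G) := pow_mem hN j
    let φ : P → P := fun y => ⟨(y : G) * h ^ j * (y : G)⁻¹ * (h ^ j)⁻¹, by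
      rw [mul_assoc (y : G), mul_assoc (y : G)]
      exact mul_mem y.2 ((Subgroup.mem_normalizer_iff.1 hjN _).1 (inv_mem y.2))⟩
    have hφ : Function.Injective φ := by
      intro y y' he
      have he' : (y : G) * h ^ j * (y : G)⁻¹ = (y' : G) * h ^ j * (y' : G)⁻¹ :=
        mul_right_cancel (congrArg Subtype.val he)
      have hc : Commute (h ^ j) ((y' : G)⁻¹ * y) := by
        show h ^ j * ((y' : G)⁻¹ * y) = (y' : G)⁻¹ * y * h ^ j
        calc h ^ j * ((y' : G)⁻¹ * y) = (y' : G)⁻¹ * ((y' : G) * h ^ j * (y' : G)⁻¹) * y := by group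
          _ = (y' : G)⁻¹ * ((y : G) * h ^ j * (y : G)⁻¹) * y := by rw [he']
          _ = (y' : G)⁻¹ * y * h ^ j := by group
      exact Subtype.ext (inv_mul_eq_one.1 (hfree j (Finset.mem_range.1 hj) hj0 _
        (mul_mem (inv_mem y'.2) y.2) hc)).symm
    obtain ⟨y, hy⟩ := (Finite.injective_iff_surjective.1 hφ) x
    have : (x : G) * h ^ j = (y : G) * h ^ j * (y : G)⁻¹ := by
      rw [← hy]
      show (y : G) * h ^ j * (y : G)⁻¹ * (h ^ j)⁻¹ * h ^ j = _
      rw [inv_mul_cancel_right]
    rw [this, hf]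
  rw [← Fintype.sum_bijective F hF (fun q => f ((q.1 : G) * h ^ (q.2 : ℕ))) _ (fun q => rfl),
    Fintype.sum_prod_type]
  rw [Finset.sum_congr rfl fun (x : P) _ => Fin.sum_univ_eq_sum_range (fun j => f ((x : G) * h ^ j)) r]
  rw [Finset.sum_congr rfl fun x _ => (Finset.add_sum_erase _ _ (Finset.mem_range.2 hr0)).symm,
    Finset.sum_add_distrib, Finset.sum_congr rfl fun (x : P) _ => Finset.sum_congr rfl fun j hj => hconj j hj x,
    Finset.sum_const, Finset.card_univ, nsmul_eq_mul, Nat.card_eq_fintype_card]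
  simp only [pow_zero, mul_one]

end Cfsg.Agent.MTwentyFour.ByOrder.TenTools
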