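import Cfsg.Agent.Lib.Spor.MTwentyFourOrder.SylowElevenTools
import Cfsg.Agent.Lib.Char.GTwoSpectrum.PairCount

/-!
Sections of a Sylow subgroup of odd prime order: the pairs of conjugate involutions multiplying into a section, and
the square they give in the sum over the principal block.
-/

set_option autoImplicit false
set_option linter.unusedSectionVars false
set_option maxHeartbeats 1000000

namespace Cfsg.Agent.MTwentyFour.ByOrder.Sections

open Cfsg Cfsg.Agent.Char Cfsg.Agent.Small.Order459648 Cfsg.Agent.Char.PrimeSylowCount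
open Cfsg.Agent.MTwelve.OrderFront (val_one mult_nat)
open scoped ComplexConjugate Classical

universe u

variable {G : Type u} [Group G] [Fintype G]

namespace Square


variable {p : ℕ} [hp : Fact p.Prime] {P : Sylow p G}

/-- An exponent which is one modulo the prime and a multiple of the index. -/
theorem exists_proj {k : ℕ} (hk : ¬ p ∣ k) : ∃ q : ℕ, k ∣ q ∧ q % p = 1 := by
  obtain ⟨x, hx1, hx2⟩ := Nat.chineseRemainder
    (((hp.out).coprime_iff_not_dvd.2 hk).symm) 0 1
  rw [Nat.ModEq, Nat.one_mod_eq_one.2 hp.out.ne_one] at hx2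
  exact ⟨x, Nat.modEq_zero_iff_dvd.1 hx1, hx2⟩

/-- The products of a power of the element and a regular element of its centraliser exhaust it, once. -/
theorem split_bijective {k : ℕ} (hP : Nat.card P = p) {y : G} (hy : y ∈ (P : Subgroup G)) (hy1 : y ≠ 1)
    (hC : Nat.card (Subgroup.centralizer ({y} : Set G)) = p * k) (hk : ¬ p ∣ k) :
    (∀ c : G, c * y = y * c → ∃ (j : Fin p) (w : Subgroup.centralizer ({y} : Set G)),
      w ∈ regs p y ∧ c = y ^ (j : ℕ) * (w : G)) ∧
    (∀ (i j : ℕ) (w w' : Subgroup.centralizer ({y} : Set G)), w ∈ regs p y → w' ∈ regs p y →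
      y ^ i * (w : G) = y ^ j * (w' : G) → i % p = j % p) ∧
    (regs p y).card = k := by
  have hoy : orderOf y = p := order_eq hP hy hy1
  obtain ⟨q, hkq, hq⟩ := exists_proj hk
  have hk0 : k ≠ 0 := fun h => hk (h ▸ dvd_zero p)
  have hord : ∀ c : Subgroup.centralizer ({y} : Set G), orderOf c ∣ p * k := fun c => hC ▸ orderOf_dvd_natCard c
  have hreg : ∀ c : Subgroup.centralizer ({y} : Set G), c ∈ regs p y ↔ (c : G) ^ q = 1 := by
    intro c
    rw [mem_regs, ← SubmonoidClass.coe_pow, OneMemClass.coe_eq_one, ← orderOf_dvd_iff_pow_eq_one]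
    refine ⟨fun h => (((hp.out).coprime_iff_not_dvd.2 h).symm.dvd_of_dvd_mul_left
      (hord c)).trans hkq, fun h h11 => ?_⟩
    have := Nat.mod_eq_zero_of_dvd (h11.trans h)
    omega
  -- the elements of order dividing the prime
  have hsy : ∀ c : G, c * y = y * c → c ^ p = 1 → c ∈ Subgroup.zpowers y := by
    intro c hc hcp
    set C := Subgroup.centralizer ({y} : Set G)
    let y' : C := ⟨y, Subgroup.mem_centralizer_singleton_iff.2 rfl⟩
    let c' : C := ⟨c, Subgroup.mem_centralizer_singleton_iff.2 hc⟩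
    haveI : (Subgroup.zpowers y').Normal := ⟨by
      rintro z ⟨j, rfl⟩ g
      have hg : Commute y' g := Subtype.ext (Subgroup.mem_centralizer_singleton_iff.1 g.2).symm
      exact ⟨j, by simp [((hg).zpow_left j).eq.symm]⟩⟩
    have hcard : Nat.card (Subgroup.zpowers y') = p := by rw [Nat.card_zpowers, ← Subgroup.orderOf_coe]; exact hoy
    have hquot : Nat.card (C ⧸ Subgroup.zpowers y') = k := by
      have := Subgroup.card_eq_card_quotient_mul_card_subgroup (Subgroup.zpowers y')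
      rw [hC, hcard, mul_comm p k] at this
      exact (Nat.eq_of_mul_eq_mul_right hp.out.pos this).symm
    have hmem : c' ∈ Subgroup.zpowers y' := by
      rw [← QuotientGroup.eq_one_iff]
      refine orderOf_eq_one_iff.1 (Nat.eq_one_of_dvd_coprimes
        ((hp.out).coprime_iff_not_dvd.2 hk) (orderOf_dvd_of_pow_eq_one ?_)
        (hquot ▸ orderOf_dvd_natCard _))
      rw [← QuotientGroup.mk_pow, show c' ^ p = 1 from Subtype.ext hcp, QuotientGroup.mk_one]
    obtain ⟨j, hj⟩ := hmem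
    exact ⟨j, by simpa [y', c'] using congrArg Subtype.val hj⟩
  have hpow : ∀ (i : ℕ) (w : Subgroup.centralizer ({y} : Set G)), w ∈ regs p y →
      (y ^ i * (w : G)) ^ q = y ^ i := by
    intro i w hw
    have hc : Commute y (w : G) := (Subgroup.mem_centralizer_singleton_iff.1 w.2).symm
    rw [(hc.pow_left i).mul_pow, (hreg w).1 hw, mul_one, ← pow_mul, pow_eq_pow_mod _ (hoy ▸ pow_orderOf_eq_one y),
      Nat.mul_mod, hq, mul_one, Nat.mod_mod, ← pow_eq_pow_mod _ (hoy ▸ pow_orderOf_eq_one y)]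
  have hdec : ∀ c : G, c * y = y * c → ∃ (j : Fin p) (w : Subgroup.centralizer ({y} : Set G)),
      w ∈ regs p y ∧ c = y ^ (j : ℕ) * (w : G) := by
    intro c hc
    have hcq : (c ^ q) ^ p = 1 := by
      have h1 : c ^ (p * k) = 1 := by
        have h := hord ⟨c, Subgroup.mem_centralizer_singleton_iff.2 hc⟩
        rw [Subgroup.orderOf_mk] at h
        exact orderOf_dvd_iff_pow_eq_one.1 h
      obtain ⟨s, hs⟩ := hkq
      rw [← pow_mul, show q * p = p * k * s by rw [hs]; ring, pow_mul, h1, one_pow]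
    obtain ⟨j, hj⟩ := hsy _ (((show Commute c y from hc).pow_left q).eq) hcq
    have hjn : c ^ q = y ^ (j % p).toNat := by
      rw [← zpow_natCast y, Int.toNat_of_nonneg (Int.emod_nonneg _ (by exact_mod_cast hp.out.ne_zero)), ← hj]
      exact (hoy ▸ (zpow_mod_orderOf y j)).symm
    set n := (j % p).toNat
    have hn : n < p := (Int.toNat_lt (Int.emod_nonneg _ (by exact_mod_cast hp.out.ne_zero))).2
      (Int.emod_lt_of_pos _ (by exact_mod_cast hp.out.pos))
    have hcy : Commute c y := hc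
    let w : Subgroup.centralizer ({y} : Set G) :=
      ⟨(y ^ n)⁻¹ * c, Subgroup.mem_centralizer_singleton_iff.2
        ((((Commute.refl y).pow_left n).inv_left.mul_left hcy).eq)⟩
    refine ⟨⟨n, hn⟩, w, (hreg w).2 ?_, (mul_inv_cancel_left _ _).symm⟩
    show ((y ^ n)⁻¹ * c) ^ q = 1
    rw [((hcy.pow_right n).inv_right.symm).mul_pow, hjn, inv_pow, ← pow_mul,
      pow_eq_pow_mod _ (hoy ▸ pow_orderOf_eq_one y), Nat.mul_mod, hq, mul_one, Nat.mod_mod,
      Nat.mod_eq_of_lt hn, inv_mul_cancel]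
  have hinj : ∀ (i j : ℕ) (w w' : Subgroup.centralizer ({y} : Set G)), w ∈ regs p y →
      w' ∈ regs p y → y ^ i * (w : G) = y ^ j * (w' : G) → i % p = j % p := by
    intro i j w w' hw hw' he
    have h := congrArg (fun x => x ^ q) he
    simp only [hpow i w hw, hpow j w' hw'] at h
    rw [pow_eq_pow_iff_modEq, hoy] at h
    exact h
  refine ⟨hdec, hinj, ?_⟩
  let f : Fin p × {w // w ∈ regs p y} → Subgroup.centralizer ({y} : Set G) := fun pr =>
    ⟨y ^ (pr.1 : ℕ) * (pr.2.1 : G), mul_mem (pow_mem (Subgroup.mem_centralizer_singleton_iff.2 rfl) _) pr.2.1.2⟩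
  have hf : Function.Bijective f := by
    refine ⟨fun ⟨i, w⟩ ⟨j, w'⟩ h => ?_, fun c => ?_⟩
    · have h' : y ^ (i : ℕ) * (w.1 : G) = y ^ (j : ℕ) * (w'.1 : G) := congrArg Subtype.val h
      have hij : i = j := Fin.ext (Nat.ModEq.eq_of_lt_of_lt (hinj _ _ _ _ w.2 w'.2 h') i.2 j.2)
      subst hij
      exact Prod.ext rfl (Subtype.ext (Subtype.ext (mul_left_cancel h')))
    · obtain ⟨j, w, hw, he⟩ := hdec c (Subgroup.mem_centralizer_singleton_iff.1 c.2)
      exact ⟨(j, ⟨w, hw⟩), Subtype.ext he.symm⟩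
  have h := Nat.card_eq_of_bijective f hf
  rw [Nat.card_prod, Nat.card_fin, Nat.card_eq_fintype_card (α := {w // w ∈ regs p y}),
    Fintype.card_coe, hC] at h
  exact Nat.eq_of_mul_eq_mul_left hp.out.pos h

/-- The conjugates of an involution inverting the element. -/
noncomputable def inverters (v y : G) : Finset G :=
  Finset.univ.filter fun g => IsConj v g ∧ g * y * g⁻¹ = y⁻¹

theorem mem_inverters {v y g : G} : g ∈ inverters v y ↔ IsConj v g ∧ g * y * g⁻¹ = y⁻¹ := by
  simp [inverters]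

/-- The factorisations over a section are one part in the prime of the pairs of inverters. -/
theorem pairs_count {k : ℕ} (hP : Nat.card P = p) {y : G} (hy : y ∈ (P : Subgroup G)) (hy1 : y ≠ 1)
    (hC : Nat.card (Subgroup.centralizer ({y} : Set G)) = p * k) (hk : ¬ p ∣ k) {v : G} (hv : v * v = 1) (hp2 : p ≠ 2) :
    p * (∑ w ∈ regs p y, (GTwoSpectrum.pairs v (y * (w : G))).card) =
      (inverters v y).card * (inverters v y).card := by
  obtain ⟨hdec, hinj, -⟩ := split_bijective hP hy hy1 hC hk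
  have hoy : orderOf y = p := order_eq hP hy hy1
  obtain ⟨r, hr⟩ : ∃ r, p = 2 * r + 1 := hp.out.odd_of_ne_two hp2
  have hppred : p - 1 + 1 = p := by have := hp.out.pos; omega
  have hyp : y ^ p = 1 := hoy ▸ pow_orderOf_eq_one y
  have hinvol : ∀ g : G, IsConj v g → g * g = 1 := by
    intro g hg
    obtain ⟨c, rfl⟩ := isConj_iff.1 hg
    rw [show c * v * c⁻¹ * (c * v * c⁻¹) = c * (v * v) * c⁻¹ by group, hv, mul_one, mul_inv_cancel]
  have hshift : ∀ g : G, g ∈ inverters v y → ∀ n : ℕ, y ^ n * g ∈ inverters v y := by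
    intro g hg n
    obtain ⟨hgc, hgy⟩ := mem_inverters.1 hg
    have hn : g * y ^ ((r + 1) * n) * g⁻¹ = (y ^ ((r + 1) * n))⁻¹ := by rw [← conj_pow, hgy, inv_pow]
    have e : y ^ n * g = y ^ ((r + 1) * n) * g * (y ^ ((r + 1) * n))⁻¹ := by
      have h1 : g * (y ^ ((r + 1) * n))⁻¹ = y ^ ((r + 1) * n) * g := by
        rw [← hn]
        have := hinvol g hgc
        calc g * (g * y ^ ((r + 1) * n) * g⁻¹) = (g * g) * y ^ ((r + 1) * n) * g⁻¹ := by group
          _ = y ^ ((r + 1) * n) * g := by rw [this, one_mul, inv_eq_of_mul_eq_one_right this]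
      rw [mul_assoc, h1, ← mul_assoc, ← pow_add, pow_eq_pow_mod ((r + 1) * n + (r + 1) * n) hyp,
        show ((r + 1) * n + (r + 1) * n) % p = n % p by
          rw [show (r + 1) * n + (r + 1) * n = n + p * n by rw [hr]; ring, Nat.add_mul_mod_self_left], ← pow_eq_pow_mod n hyp]
    refine mem_inverters.2 ⟨hgc.trans (isConj_iff.2 ⟨y ^ ((r + 1) * n), e.symm⟩), ?_⟩
    calc y ^ n * g * y * (y ^ n * g)⁻¹ = y ^ n * (g * y * g⁻¹) * (y ^ n)⁻¹ := by group
      _ = y⁻¹ := by rw [hgy]; group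
  have hpair : ∀ (w : Subgroup.centralizer ({y} : Set G)), w ∈ regs p y → ∀ g : G,
      g ∈ GTwoSpectrum.pairs v (y * (w : G)) →
        g ∈ inverters v y ∧ g⁻¹ * (y * (w : G)) ∈ inverters v y := by
    intro w hw g hg
    obtain ⟨hgg, hinv⟩ := GTwoSpectrum.pairs_invert hv hg
    obtain ⟨q, hkq, hq⟩ := exists_proj hk
    have hcw : Commute y (w : G) := (Subgroup.mem_centralizer_singleton_iff.1 w.2).symm
    have hwq : (w : G) ^ q = 1 := by
      rw [← SubmonoidClass.coe_pow, OneMemClass.coe_eq_one, ← orderOf_dvd_iff_pow_eq_one]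
      exact (((hp.out).coprime_iff_not_dvd.2 (mem_regs.1 hw)).symm.dvd_of_dvd_mul_left
        (hC ▸ orderOf_dvd_natCard w)).trans hkq
    have hxq : (y * (w : G)) ^ q = y := by
      rw [hcw.mul_pow, hwq, mul_one, pow_eq_pow_mod q hyp, hq, pow_one]
    have hgy : g * y * g⁻¹ = y⁻¹ := by
      conv_lhs => rw [← hxq]
      rw [← conj_pow, hinv, inv_pow, hxq]
    have hgi : g⁻¹ = g := inv_eq_of_mul_eq_one_right hgg
    refine ⟨mem_inverters.2 ⟨(GTwoSpectrum.mem_pairs.1 hg).1, hgy⟩, mem_inverters.2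
      ⟨(GTwoSpectrum.mem_pairs.1 hg).2, ?_⟩⟩
    calc g⁻¹ * (y * (w : G)) * y * (g⁻¹ * (y * (w : G)))⁻¹
        = g⁻¹ * (y * ((w : G) * y) * (w : G)⁻¹ * y⁻¹) * g := by group
      _ = g⁻¹ * y * g := by rw [← hcw.eq]; group
      _ = y⁻¹ := by nth_rewrite 2 [← hgi]; rw [hgi]; rw [hgi] at hgy; exact hgy
  have hp0 : 0 < p := hp.out.pos
  rw [← Finset.card_sigma]
  conv_lhs => arg 1; rw [← Fintype.card_fin p, ← Finset.card_univ]
  rw [← Finset.card_product, ← Finset.card_product]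
  refine Finset.card_bij (fun pr _ => (pr.2.2, y ^ (pr.1 : ℕ) * (pr.2.2⁻¹ * (y * (pr.2.1 : G))))) ?_ ?_ ?_
  · rintro ⟨i, w, g⟩ hmem
    simp only [Finset.mem_product, Finset.mem_univ, true_and, Finset.mem_sigma] at hmem
    obtain ⟨h1, h2⟩ := hpair w hmem.1 g hmem.2
    exact Finset.mem_product.2 ⟨h1, hshift _ h2 _⟩
  · rintro ⟨i, w, g⟩ hmem ⟨j, w', g'⟩ hmem' he
    simp only [Finset.mem_product, Finset.mem_univ, true_and, Finset.mem_sigma] at hmem hmem'
    simp only [Prod.mk.injEq] at he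
    obtain ⟨rfl, he⟩ := he
    obtain ⟨hgy, -⟩ := hpair w hmem.1 g hmem.2
    obtain ⟨hgc, hgy⟩ := mem_inverters.1 hgy
    have hmv : ∀ n : ℕ, g * y ^ n = y ^ ((p - 1) * n) * g := by
      intro n
      have h1 : g * y ^ n * g⁻¹ = y ^ ((p - 1) * n) := by
        rw [← conj_pow, hgy, pow_mul, ← show y⁻¹ = y ^ (p - 1) from inv_eq_of_mul_eq_one_right (by rw [← pow_succ', hppred]; exact hyp)]
      rw [← h1, inv_mul_cancel_right]
    have hgi : g⁻¹ = g := inv_eq_of_mul_eq_one_right (hinvol g hgc)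
    have key : ∀ (n : ℕ) (x : G), g * (y ^ n * (g⁻¹ * (y * x))) = y ^ ((p - 1) * n + 1) * x := by
      intro n x
      rw [← mul_assoc g, hmv, mul_assoc, mul_inv_cancel_left, ← mul_assoc, ← pow_succ]
    have h1 := congrArg (fun x => g * x) he
    simp only [key] at h1
    have hij : i = j := Fin.ext (by
      have hmod := hinj _ _ w w' hmem.1 hmem'.1 h1
      have hcop : Nat.gcd p (p - 1) = 1 := by
        have := Nat.coprime_self_sub_right (show 1 ≤ p by omega)
        simpa [Nat.Coprime] using this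
      exact (Nat.ModEq.cancel_left_of_coprime hcop (Nat.ModEq.add_right_cancel' 1 hmod)).eq_of_lt_of_lt i.2 j.2)
    subst hij
    have hww : w = w' := Subtype.ext (mul_left_cancel h1)
    subst hww
    rfl
  · rintro ⟨g, h⟩ hgh
    obtain ⟨hg, hh⟩ := Finset.mem_product.1 hgh
    obtain ⟨hgc, hgy⟩ := mem_inverters.1 hg
    obtain ⟨hhc, hhy⟩ := mem_inverters.1 hh
    have hgi : g⁻¹ = g := inv_eq_of_mul_eq_one_right (hinvol g hgc)
    have hghy : g * h * y = y * (g * h) := by
      have h1 : h * y = y⁻¹ * h := by rw [← hhy, inv_mul_cancel_right]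
      have h2 : g * y⁻¹ = y * g := by
        have h3 := congrArg (·⁻¹) hgy
        simp only [mul_inv_rev, inv_inv] at h3
        rw [← mul_assoc] at h3
        exact eq_mul_inv_iff_mul_eq.1 h3.symm |>.symm
      rw [mul_assoc, h1, ← mul_assoc, h2, mul_assoc]
    obtain ⟨j, w, hw, he⟩ := hdec _ hghy
    set i : Fin p := ⟨(p + 1 - (j : ℕ)) % p, Nat.mod_lt _ hp0⟩ with hi
    set h0 := g⁻¹ * (y * (w : G)) with hh0
    have hh' : y ^ (i : ℕ) * h0 = h := by
      have hyg : y ^ (i : ℕ) * g⁻¹ = g⁻¹ * y ^ ((p - 1) * (i : ℕ)) := by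
        rw [hgi]
        have h1 : g * y ^ ((p - 1) * (i : ℕ)) * g⁻¹ = y ^ (i : ℕ) := by
          rw [← conj_pow, hgy, inv_pow, pow_mul, ← inv_pow,
            show (y ^ (p - 1))⁻¹ = y from inv_eq_of_mul_eq_one_right (by rw [← pow_succ, hppred]; exact hyp)]
        rw [← h1, inv_mul_cancel_right]
      rw [hh0, ← mul_assoc, hyg, mul_assoc, ← mul_assoc (y ^ _), ← pow_succ, pow_eq_pow_mod _ hyp,
        show ((p - 1) * (i : ℕ) + 1) % p = (j : ℕ) by
          conv_rhs => rw [← Nat.mod_eq_of_lt j.2]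
          refine (ZMod.natCast_eq_natCast_iff' _ _ _).1 ?_
          rw [hi]
          simp only [Nat.cast_add, Nat.cast_mul, ZMod.natCast_mod, Nat.cast_one,
            Nat.cast_sub (show 1 ≤ p by omega), Nat.cast_sub (show (j : ℕ) ≤ p + 1 by omega),
            ZMod.natCast_self]
          ring, ← he, inv_mul_cancel_left]
    have hh0i : h0 ∈ inverters v y := by
      have := hshift h hh (p - (i : ℕ))
      rwa [← hh', ← mul_assoc, ← pow_add, show p - (i : ℕ) + (i : ℕ) = p by omega, hyp, one_mul] at this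
    refine ⟨⟨i, w, g⟩, ?_, Prod.ext rfl hh'⟩
    simp only [Finset.mem_product, Finset.mem_univ, true_and, Finset.mem_sigma]
    exact ⟨hw, GTwoSpectrum.mem_pairs.2 ⟨hgc, (mem_inverters.1 hh0i).1⟩⟩


/-- The prime divides the number of inverters, which is at most the order of the centraliser. -/
theorem inverters_bound {k : ℕ} (hP : Nat.card P = p) {y : G} (hy : y ∈ (P : Subgroup G)) (hy1 : y ≠ 1)
    (hC : Nat.card (Subgroup.centralizer ({y} : Set G)) = p * k) (hk : ¬ p ∣ k) {v : G} (hv : v * v = 1)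
    (hp2 : p ≠ 2) :
    p ∣ (inverters v y).card ∧ (inverters v y).card ≤ p * k := by
  have h := pairs_count hP hy hy1 hC hk hv hp2
  refine ⟨(hp.out.dvd_mul.1 (Dvd.intro _ h)).elim id id, ?_⟩
  rcases (inverters v y).eq_empty_or_nonempty with he | ⟨g0, hg0⟩
  · simp [he]
  obtain ⟨hc0, hy0⟩ := mem_inverters.1 hg0
  have hg00 : g0 * g0 = 1 := by
    obtain ⟨c, rfl⟩ := isConj_iff.1 hc0
    rw [show c * v * c⁻¹ * (c * v * c⁻¹) = c * (v * v) * c⁻¹ by group, hv, mul_one, mul_inv_cancel]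
  refine le_trans (le_of_eq (Fintype.card_coe _).symm) ?_
  rw [← hC, ← Nat.card_eq_fintype_card]
  refine Nat.card_le_card_of_injective (fun g => ⟨g0 * g.1, Subgroup.mem_centralizer_singleton_iff.2 ?_⟩)
    fun g g' e => Subtype.ext (mul_left_cancel (congrArg Subtype.val e))
  obtain ⟨-, hgy⟩ := mem_inverters.1 g.2
  have h1 : (g.1 : G) * y = y⁻¹ * g.1 := by rw [← hgy, inv_mul_cancel_right]
  have h2 : g0 * y⁻¹ = y * g0 := by
    have h3 : g0 * y⁻¹ * g0⁻¹ = y := by rw [← conj_inv, hy0, inv_inv]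
    exact mul_inv_eq_iff_eq_mul.1 h3
  rw [mul_assoc, h1, ← mul_assoc, h2, mul_assoc]

variable {e : ℕ} {M : Ideal AlgInt} {X Y : Finset (IrrCharacter G)} {a : IrrCharacter G → ℤ} {δ : ℤ}

/-- The sum over the principal block of a real element squared, from the number of its inverters. -/
theorem square_sum (hM : IsPModular p M) (hP : Nat.card P = p) (h : PrimePrincipal M P e X Y a δ)
    (hYn : Y.Nonempty) (hf : FrobSylow P e) {y : ↥(P : Subgroup G)} (hy : y ∈ nonOne P) {k : ℕ}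
    (hC : Nat.card (Subgroup.centralizer ({(y : G)} : Set G)) = p * k) (hk : ¬ p ∣ k) (hp2 : p ≠ 2)
    {v : G} (hv : v ^ 2 = 1) {θ : IrrCharacter G} (hθ : θ ∈ Y) :
    (Nat.card G : ℂ) * ((inverters v (y : G)).card : ℂ) ^ 2 =
      (p : ℂ) * (k : ℂ) * (Nat.card {x : G // IsConj v x} : ℂ) ^ 2 *
        (∑ χ ∈ X, (a χ : ℂ) * ((χ : G → ℂ) v) ^ 2 / (χ : G → ℂ) 1 -
          (δ : ℂ) * ((θ : G → ℂ) v) ^ 2 / (θ : G → ℂ) 1) := by
  have hy1 : (y : G) ≠ 1 := mem_nonOne.1 hy
  have hvv : v * v = 1 := by rw [← pow_two, hv]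
  have hcount := pairs_count hP y.2 hy1 hC hk hvv hp2
  obtain ⟨-, -, hregs⟩ := split_bijective hP y.2 hy1 hC hk
  have hvi : v⁻¹ = v := inv_eq_of_mul_eq_one_right hvv
  have hreal : ∀ χ : IrrCharacter G, conj ((χ : G → ℂ) v) = (χ : G → ℂ) v := fun χ => by
    rw [← char_inv (irr_isCharacter χ.2), hvi]
  have hvreg : ¬ p ∣ orderOf v := fun hpv => hp2
    ((Nat.prime_dvd_prime_iff_eq hp.out Nat.prime_two).1 (hpv.trans (orderOf_dvd_of_pow_eq_one hv)))
  have h1reg : ¬ p ∣ orderOf (1 : G) := by simp [hp.out.ne_one]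
  have hS : (Nat.card G : ℂ) * ((∑ w ∈ regs p (y : G), (GTwoSpectrum.pairs v ((y : G) * (w : G))).card : ℕ) : ℂ) =
      (Nat.card {x : G // IsConj v x} : ℂ) ^ 2 * (k : ℂ) *
        (∑ χ ∈ X, (a χ : ℂ) * ((χ : G → ℂ) v) ^ 2 / (χ : G → ℂ) 1 -
          (δ : ℂ) * ((θ : G → ℂ) v) ^ 2 / (θ : G → ℂ) 1) := by
    rw [← hregs]
    push_cast
    rw [Finset.mul_sum, Finset.sum_congr rfl fun w _ => GTwoSpectrum.pairs_formula v _ hreal,
      ← Finset.mul_sum, Finset.sum_comm, mul_assoc]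
    congr 1
    simp only [← Finset.mul_sum, sum_regs hM hf y.2 hy1]
    have hsupp : ∀ χ ∈ (Finset.univ : Finset (IrrCharacter G)), χ ∉ X ∪ Y →
        ((χ : G → ℂ) v) ^ 2 / (χ : G → ℂ) 1 * (((regs p (y : G)).card : ℂ) *
          (if χ ∈ principalBlock M G then (χ : G → ℂ) (y : G) else 0)) = 0 := by
      intro χ _ hχ
      rw [if_neg (fun hb => hχ (Finset.mem_union.2 ((h.mem_iff χ).1 hb))), mul_zero, mul_zero]
    rw [← Finset.sum_subset (Finset.subset_univ (X ∪ Y)) hsupp, Finset.sum_union h.disj,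
      Finset.sum_congr rfl (g := fun χ : IrrCharacter G => ((regs p (y : G)).card : ℂ) *
        ((a χ : ℂ) * ((χ : G → ℂ) v) ^ 2 / (χ : G → ℂ) 1)) fun χ hχ => by
          rw [if_pos ((h.mem_iff χ).2 (Or.inl hχ)), h.a_val χ hχ y hy]; ring,
      Finset.sum_congr rfl (s₁ := Y) (g := fun χ : IrrCharacter G => ((regs p (y : G)).card : ℂ) *
        (((θ : G → ℂ) v) ^ 2 / (θ : G → ℂ) 1) * (χ : G → ℂ) (y : G)) fun χ hχ => by
          rw [if_pos ((h.mem_iff χ).2 (Or.inr hχ)), h.regY χ hχ θ hθ v hvreg, h.regY χ hχ θ hθ 1 h1reg]; ring,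
      ← Finset.mul_sum, ← Finset.mul_sum, Solv.BReyn.sum_exc hM hP h hYn hy]
    ring
  have hc : (p : ℂ) * ((∑ w ∈ regs p (y : G), (GTwoSpectrum.pairs v ((y : G) * (w : G))).card : ℕ) : ℂ) =
      ((inverters v (y : G)).card : ℂ) ^ 2 := by
    rw [pow_two]; exact_mod_cast hcount
  rw [← hc]
  linear_combination (p : ℂ) * hS

end Square

end Cfsg.Agent.MTwentyFour.ByOrder.Sections
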