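import Cfsg.Agent.Lib.Spor.MTwentyFourOrder.SylowFive
import Cfsg.Agent.Lib.Spor.MTwentyFourOrder.SectionSquare
import Cfsg.Agent.Lib.Spor.MTwentyFourOrder.InvolTenTools
import Cfsg.Agent.Lib.Char.SmallOrderGraph.Invol

/-!
A simple group of the order of the Mathieu group of degree twenty-four: the column of the involution which inverts
a Sylow subgroup of order eleven inside an element of order ten normalising it.
-/

set_option autoImplicit false
set_option linter.unusedSectionVars false
set_option maxRecDepth 100000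
set_option maxHeartbeats 1000000

namespace Cfsg.Agent.MTwentyFour.ByOrder

open Cfsg Cfsg.Agent.Char Cfsg.Agent.Small.Order459648 Cfsg.Agent.Char.PrimeSylowCount
open Cfsg.Agent.MTwelve.OrderFront (val_one)
open scoped ComplexConjugate
open scoped _root_.Classical

universe u

namespace Ten

/-- the value at an element of order eleven, from the degree -/
def w11 (d : ℕ) : ℤ := if d % 11 = 1 then 1 else if d % 11 = 10 then -1 else 0

/-- the dimension of the fixed space of an element of order eleven, from the degree -/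
def mEl (d : ℕ) : ℤ := ((d : ℤ) + 10 * w11 d) / 11

/-- twice the signed weight in the principal block of twenty-three, from the degree -/
def w23 (d : ℕ) : ℤ :=
  if d % 23 = 1 then 2 else if d % 23 = 22 then -2 else if d % 23 = 11 then -1 else if d % 23 = 12 then 1 else 0

variable {G : Type u} [Group G] [Fintype G]

section selfcent

variable {p : ℕ} [hp : Fact p.Prime]

/-- The principal block of a self-centralising Sylow subgroup of prime order, with the characters outside. -/
theorem selfcent_data (P : Sylow p G) (hP : Nat.card P = p)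
    (hC : Nat.card (Subgroup.centralizer ((P : Subgroup G) : Set G)) = p) {e t : ℕ}
    (he : (Subgroup.centralizer ((P : Subgroup G) : Set G)).relIndex
      (Subgroup.normalizer ((P : Subgroup G) : Set G)) = e) (he2 : 2 ≤ e) (ht : 0 < t) (het : e * t + 1 = p) :
    ∃ (M : Ideal AlgInt) (X Y : Finset (IrrCharacter G)) (a : IrrCharacter G → ℤ) (δ : ℤ),
      IsPModular p M ∧ PrimePrincipal M P e X Y a δ ∧ (oneChar : IrrCharacter G) ∈ X ∧
        a (oneChar : IrrCharacter G) = 1 ∧ Y.card = t ∧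
        ∀ χ : IrrCharacter G, χ ∉ X → χ ∉ Y →
          (∀ y ∈ nonOne P, (χ : G → ℂ) (y : G) = 0) ∧ p ∣ charDegree (χ : G → ℂ) := by
  obtain ⟨M, hM⟩ := exists_pModular (show p.Prime from Fact.out)
  obtain ⟨X, Y, a, δ, h, h1X, hone, hYc⟩ := Solv.BReyn.exists_principal_one_mem hM hP he he2 ht het
  have hf : FrobSylow P e := he ▸ frobSylow_of_prime hP
  refine ⟨M, X, Y, a, δ, hM, h, h1X, hone, hYc, fun χ hX hY => ?_⟩
  have hvan : ∀ y ∈ nonOne P, (χ : G → ℂ) (y : G) = 0 := by
    intro y hy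
    have hy1 : (y : G) ≠ 1 := mem_nonOne.1 hy
    have hCy : Nat.card (Subgroup.centralizer ({(y : G)} : Set G)) = p * 1 := by
      rw [Sections.cent_eq hP y.2 hy1, hC, mul_one]
    obtain ⟨-, -, hr⟩ := Sections.Square.split_bijective hP y.2 hy1 hCy hp.out.not_dvd_one
    obtain ⟨w, hw⟩ := Finset.card_eq_one.1 hr
    have hw1 : (1 : Subgroup.centralizer ({(y : G)} : Set G)) = w :=
      Finset.mem_singleton.1 (hw ▸ Sections.one_mem_regs (p := p) (y : G))
    have h0 := Sections.sum_regs hM hf y.2 hy1 χ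
    rw [if_neg (fun hb => ((h.mem_iff χ).1 hb).elim hX hY), mul_zero, hw, Finset.sum_singleton, ← hw1] at h0
    simpa using h0
  refine ⟨hvan, ?_⟩
  obtain ⟨n, hn⟩ := exists_sum_on_sylow (P := P) χ
  rw [Finset.sum_eq_single (1 : ↥(P : Subgroup G))] at hn
  · rw [OneMemClass.coe_one, char_one_eq_deg (irr_isCharacter χ.2), hP, ← charDegree_eq_deg] at hn
    exact ⟨n, by exact_mod_cast hn⟩
  · exact fun y _ hy => hvan y (mem_nonOne.mpr fun e1 => hy (Subtype.ext e1))
  · exact fun h1 => absurd (Finset.mem_univ _) h1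

end selfcent

/-- An element of a Sylow subgroup of order eleven. -/
theorem exists_y {p : ℕ} [Fact p.Prime] (P : Sylow p G) (hP : Nat.card P = p) :
    ∃ y : ↥(P : Subgroup G), y ∈ nonOne P :=
  SmallOrderGraph.nonOne_nonempty P hP

local instance fact_elevenTenCol : Fact (Nat.Prime 11) := ⟨by norm_num⟩
local instance fact_twentyThreeTenCol : Fact (Nat.Prime 23) := ⟨by norm_num⟩
local instance fact_fiveTenCol : Fact (Nat.Prime 5) := ⟨by norm_num⟩

/-- The standing data: the Sylow subgroup, the element of order ten and the column of its involution. -/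
structure TCol (P : Sylow 11 G) (g : G) (z : IrrCharacter G → ℤ) (C : ℕ) : Prop where
  order : Nat.card G = 244823040
  card : Nat.card P = 11
  cent : Nat.card (Subgroup.centralizer ((P : Subgroup G) : Set G)) = 11
  ord : orderOf g = 10
  norm : g ∈ Subgroup.normalizer ((P : Subgroup G) : Set G)
  inv : ∀ x ∈ (P : Subgroup G), g ^ 5 * x * (g ^ 5)⁻¹ = x⁻¹
  card_cent : Nat.card (Subgroup.centralizer ({g ^ 5} : Set G)) = C
  dvd : C ∣ 967680
  ten_dvd : 10 ∣ C
  le : C ≤ 15646
  val : ∀ χ : IrrCharacter G, (χ : G → ℂ) (g ^ 5) = z χ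
  val_eleven : ∀ χ : IrrCharacter G, ∀ x ∈ (P : Subgroup G), x ≠ 1 →
    (χ : G → ℂ) x = w11 (charDegree (χ : G → ℂ))
  z_one : z oneChar = 1
  square : ∑ χ : IrrCharacter G, z χ * z χ = C
  four : ∀ χ : IrrCharacter G, (4 : ℤ) ∣ (charDegree (χ : G → ℂ) : ℤ) - z χ
  class_dvd : ∀ χ : IrrCharacter G, (charDegree (χ : G → ℂ) : ℤ) ∣ ((244823040 / C : ℕ) : ℤ) * z χ
  bound : ∀ χ : IrrCharacter G, |z χ| ≤ mEl (charDegree (χ : G → ℂ)) ∧
    (2 : ℤ) ∣ mEl (charDegree (χ : G → ℂ)) - z χ
  lin_eleven : ∑ χ : IrrCharacter G, w11 (charDegree (χ : G → ℂ)) * z χ = 0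
  quad_eleven : ∑ χ : IrrCharacter G,
    (w11 (charDegree (χ : G → ℂ)) : ℂ) * (z χ : ℂ) ^ 2 / (charDegree (χ : G → ℂ) : ℂ) =
      11 * (C : ℂ) ^ 2 / 244823040
  lin_twentythree : ∑ χ : IrrCharacter G, w23 (charDegree (χ : G → ℂ)) * z χ = 0
  quad_twentythree : ∑ χ : IrrCharacter G,
    (w23 (charDegree (χ : G → ℂ)) : ℂ) * (z χ : ℂ) ^ 2 / (charDegree (χ : G → ℂ) : ℂ) = 0

/-- The value at the elements of order eleven. -/
theorem eleven_val (P : Sylow 11 G) (hP : Nat.card P = 11)
    (hC : Nat.card (Subgroup.centralizer ((P : Subgroup G) : Set G)) = 11)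
    (he : (Subgroup.centralizer ((P : Subgroup G) : Set G)).relIndex
      (Subgroup.normalizer ((P : Subgroup G) : Set G)) = 10) :
    ∀ χ : IrrCharacter G, ∀ x ∈ (P : Subgroup G), x ≠ 1 →
      (χ : G → ℂ) x = w11 (charDegree (χ : G → ℂ)) := by
  obtain ⟨M, X, Y, a, δ, hM, h, -, -, hYc, hout⟩ :=
    selfcent_data P hP hC he (t := 1) (by norm_num) (by norm_num) (by norm_num)
  intro χ x hx hx1
  have hy : (⟨x, hx⟩ : ↥(P : Subgroup G)) ∈ nonOne P := mem_nonOne.2 hx1
  by_cases hX : χ ∈ X
  · rw [h.a_val χ hX ⟨x, hx⟩ hy]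
    have h2 := (h.a_congr χ hX).eq
    rcases h.a_sign χ hX with e' | e' <;> rw [e'] at h2 ⊢ <;> simp only [w11] <;> split_ifs <;>
      first | rfl | omega
  by_cases hY : χ ∈ Y
  · obtain ⟨θ, hθ⟩ := Finset.card_eq_one.1 hYc
    obtain rfl : χ = θ := Finset.mem_singleton.1 (hθ ▸ hY)
    have h1 := Solv.BReyn.sum_exc hM hP h ⟨χ, hY⟩ hy
    rw [hθ, Finset.sum_singleton] at h1
    rw [h1]
    have h2 := (h.congrY χ hY).eq
    rcases h.sign with e' | e' <;> rw [e'] at h2 ⊢ <;> simp only [w11] <;> split_ifs <;>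
      first | omega | norm_num
  · obtain ⟨hv, hd⟩ := hout χ hX hY
    rw [hv _ hy]
    have := Nat.mod_eq_zero_of_dvd hd
    simp only [w11]
    split_ifs <;> first | omega | norm_num

/-- The fixed points: the sum over the Sylow subgroup. -/
theorem sum_sylow (P : Sylow 11 G) (hP : Nat.card P = 11) (χ : IrrCharacter G)
    (hval : ∀ x ∈ (P : Subgroup G), x ≠ 1 → (χ : G → ℂ) x = w11 (charDegree (χ : G → ℂ))) :
    ∑ x : (P : Subgroup G), (χ : G → ℂ) (x : G) =
        (Nat.card (P : Subgroup G) : ℂ) * (mEl (charDegree (χ : G → ℂ)) : ℂ) ∧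
      (11 : ℤ) * mEl (charDegree (χ : G → ℂ)) =
        (charDegree (χ : G → ℂ) : ℤ) + 10 * w11 (charDegree (χ : G → ℂ)) := by
  set d := charDegree (χ : G → ℂ)
  have hP' : Nat.card (P : Subgroup G) = 11 := hP
  have hs : ∑ x : (P : Subgroup G), (χ : G → ℂ) (x : G) = (((d : ℤ) + 10 * w11 d : ℤ) : ℂ) := by
    rw [← Finset.add_sum_erase _ _ (Finset.mem_univ (1 : (P : Subgroup G))), OneMemClass.coe_one, val_one,
      Finset.sum_congr rfl (g := fun _ => ((w11 d : ℤ) : ℂ)) fun x hx => hval _ x.2 fun e =>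
        (Finset.mem_erase.1 hx).1 (Subtype.ext e),
      Finset.sum_const, Finset.card_erase_of_mem (Finset.mem_univ _), Finset.card_univ, ← Nat.card_eq_fintype_card,
      hP']
    push_cast
    ring
  obtain ⟨n, hn⟩ := TenTools.avg_int (irr_isCharacter χ.2) (P : Subgroup G)
  rw [hs, hP'] at hn
  have hn' : (d : ℤ) + 10 * w11 d = 11 * n := by exact_mod_cast hn
  have hm : mEl d = n := by rw [mEl, hn']; omega
  refine ⟨?_, by rw [hm, hn']⟩
  rw [hs, hn', hP', hm]
  push_cast
  ring

/-- No element of order twenty-three is conjugate to its inverse. -/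
theorem no_real_twentythree {R : Sylow 23 G} (hR : Nat.card R = 23)
    (hRC : Nat.card (Subgroup.centralizer ((R : Subgroup G) : Set G)) = 23)
    (he : (Subgroup.centralizer ((R : Subgroup G) : Set G)).relIndex
      (Subgroup.normalizer ((R : Subgroup G) : Set G)) = 11)
    {w b : G} (hw : w ∈ (R : Subgroup G)) (hw1 : w ≠ 1) (hb : b * w * b⁻¹ = w⁻¹) : False := by
  have hz := eq_zpowers_of_prime_sylow hR hw hw1
  set N := Subgroup.normalizer ((R : Subgroup G) : Set G)
  have hbN : b ∈ N := by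
    refine Subgroup.mem_normalizer_iff.2 fun n => ?_
    rw [← hz]
    constructor
    · rintro ⟨i, rfl⟩; exact ⟨-i, by show w ^ (-i) = _; rw [← conj_zpow, hb, inv_zpow']⟩
    · rintro ⟨i, hi⟩
      refine ⟨-i, ?_⟩
      have : b * w ^ (-i) * b⁻¹ = b * n * b⁻¹ := by rw [← hi, ← conj_zpow, hb, inv_zpow', neg_neg]
      exact mul_left_cancel (mul_right_cancel this)
  let f : N →* MulAut (R : Subgroup G) := (R : Subgroup G).normalizerMonoidHom
  have hker : f.ker = (Subgroup.centralizer ((R : Subgroup G) : Set G)).subgroupOf N :=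
    Subgroup.normalizerMonoidHom_ker _
  have hrange : Nat.card f.range = 11 := by rw [← Subgroup.index_ker, hker]; exact he
  have h11 : f ⟨b, hbN⟩ ^ 11 = 1 := by
    have := Subgroup.orderOf_dvd_natCard (s := f.range) (x := f ⟨b, hbN⟩) ⟨_, rfl⟩
    rw [hrange] at this
    exact orderOf_dvd_iff_pow_eq_one.1 this
  have hval : ∀ x : (R : Subgroup G), ((f ⟨b, hbN⟩ x : (R : Subgroup G)) : G) = b * (x : G) * b⁻¹ := fun x => rfl
  have h2 : ∀ j : ℕ, ((f ⟨b, hbN⟩ ^ j) ⟨w, hw⟩ : (R : Subgroup G)) = (⟨w, hw⟩ : (R : Subgroup G)) ^ ((-1 : ℤ) ^ j) := by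
    intro j
    induction j with
    | zero => simp
    | succ j ih =>
      rw [pow_succ', MulAut.mul_apply, ih, map_zpow,
        show f ⟨b, hbN⟩ ⟨w, hw⟩ = (⟨w, hw⟩ : (R : Subgroup G))⁻¹ from Subtype.ext (by rw [hval]; exact hb),
        inv_zpow', pow_succ']
      congr 1; ring
  have h3 := h2 11
  rw [h11, MulAut.one_apply] at h3
  have h4 : w * w = 1 := by
    have := congrArg Subtype.val h3
    rw [Subgroup.coe_zpow] at this
    norm_num at this
    nth_rw 1 [this]
    exact inv_mul_cancel w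
  have h5 : orderOf w ∣ 2 := orderOf_dvd_of_pow_eq_one (by rw [pow_two]; exact h4)
  rw [Sections.order_eq hR hw hw1] at h5
  norm_num at h5

variable [IsSimpleGroup G]

/-- The involution acts without fixed point on the Sylow subgroup, and so does the element of order ten. -/
theorem free {P : Sylow 11 G} {g : G} (hG : Nat.card G = 244823040) (hP : Nat.card P = 11)
    (hC : Nat.card (Subgroup.centralizer ((P : Subgroup G) : Set G)) = 11) (hg : orderOf g = 10) :
    ∀ i : ℕ, ¬ 10 ∣ i → ∀ x ∈ (P : Subgroup G), Commute (g ^ i) x → x = 1 := by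
  intro i hi x hx hc
  by_contra hx1
  have hmem : g ^ i ∈ Subgroup.centralizer ({x} : Set G) := Subgroup.mem_centralizer_singleton_iff.2 hc.eq
  have h1 := Subgroup.orderOf_dvd_natCard _ hmem
  rw [Sections.cent_eq hP hx hx1, hC] at h1
  rcases (Nat.dvd_prime (by norm_num)).1 h1 with h2 | h2
  · exact hi (hg ▸ orderOf_dvd_of_pow_eq_one (orderOf_eq_one_iff.1 h2))
  · have := (orderOf_pow_dvd (x := g) i)
    rw [h2, hg] at this
    norm_num at this

/-- The column exists. -/
theorem exists_tcol (hG : Nat.card G = 244823040) :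
    ∃ (P : Sylow 11 G) (g : G) (z : IrrCharacter G → ℤ) (C : ℕ), TCol P g z C := by
  obtain ⟨P, g, hP, hg, hN, hinv⟩ := exists_ten hG
  obtain ⟨P₀, hP₀, hC₀, he₀⟩ := exists_eleven hG
  obtain ⟨c, hc⟩ := MulAction.exists_smul_eq G P₀ P
  have hna := na (G := G) hG
  have hC : Nat.card (Subgroup.centralizer ((P : Subgroup G) : Set G)) = 11 := by
    obtain ⟨y₀, hy₀⟩ := exists_y P₀ hP₀
    have hmem : c * (y₀ : G) * c⁻¹ ∈ (P : Subgroup G) := by
      rw [← hc]; exact ⟨y₀, y₀.2, rfl⟩
    have h1 := card_conjClass_mul_centralizer (y₀ : G)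
    rw [← card_conjClass_mul_centralizer (c * (y₀ : G) * c⁻¹),
      Nat.card_congr (Equiv.subtypeEquivRight fun x =>
        ⟨fun h => IsConj.trans (isConj_iff.2 ⟨c, rfl⟩) h, fun h => IsConj.trans (IsConj.symm (isConj_iff.2 ⟨c, rfl⟩)) h⟩ :
        {x : G // IsConj (c * (y₀ : G) * c⁻¹) x} ≃ {x : G // IsConj (y₀ : G) x})] at h1
    rw [← Sections.cent_eq hP hmem (fun h => mem_nonOne.1 hy₀ (conj_eq_one_iff.1 h)),
      ← Nat.eq_of_mul_eq_mul_left (Nat.pos_of_ne_zero (card_conjClass_ne_zero (y₀ : G))) h1,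
      Sections.cent_eq hP₀ y₀.2 (mem_nonOne.1 hy₀), hC₀]
  have he : (Subgroup.centralizer ((P : Subgroup G) : Set G)).relIndex
      (Subgroup.normalizer ((P : Subgroup G) : Set G)) = 10 := by
    set N := Subgroup.normalizer ((P : Subgroup G) : Set G)
    set N₀ := Subgroup.normalizer ((P₀ : Subgroup G) : Set G)
    have hN : Nat.card N = Nat.card N₀ := by
      refine Nat.eq_of_mul_eq_mul_right (Nat.pos_of_ne_zero (Subgroup.index_ne_zero_of_finite (H := N))) ?_
      rw [Subgroup.card_mul_index, show N.index = N₀.index from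
        (Sylow.card_eq_index_normalizer P).symm.trans (Sylow.card_eq_index_normalizer P₀), Subgroup.card_mul_index]
    have h0 := Subgroup.relIndex_mul_index (Subgroup.centralizer_le_normalizer ((P₀ : Subgroup G) : Set G))
    have h1 := Subgroup.relIndex_mul_index (Subgroup.centralizer_le_normalizer ((P : Subgroup G) : Set G))
    have i0 := Subgroup.card_mul_index (Subgroup.centralizer ((P₀ : Subgroup G) : Set G))
    have i1 := Subgroup.card_mul_index (Subgroup.centralizer ((P : Subgroup G) : Set G))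
    have n0 := Subgroup.card_mul_index N₀
    have n1 := Subgroup.card_mul_index N
    rw [hC₀] at i0
    rw [hC] at i1
    have hii : (Subgroup.centralizer ((P : Subgroup G) : Set G)).index =
        (Subgroup.centralizer ((P₀ : Subgroup G) : Set G)).index := by omega
    have hNi : N.index = N₀.index :=
      (Sylow.card_eq_index_normalizer P).symm.trans (Sylow.card_eq_index_normalizer P₀)
    rw [hii, ← h0, he₀, hNi] at h1
    exact Nat.eq_of_mul_eq_mul_right (Nat.pos_of_ne_zero (Subgroup.index_ne_zero_of_finite (H := N₀))) h1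
  set t := g ^ 5 with ht
  have hto : orderOf t = 2 := by rw [ht, orderOf_pow, hg]; rfl
  have ht2 : t ^ 2 = 1 := by rw [← hto, pow_orderOf_eq_one]
  choose z hz using fun χ : IrrCharacter G => char_involution_int (irr_isCharacter χ.2) (t := t) ht2
  set C := Nat.card (Subgroup.centralizer ({t} : Set G)) with hCd
  have hfree := free hG hP hC hg
  have hval := eleven_val P hP hC he
  have hvs := fun χ => sum_sylow P hP χ (hval χ)
  have hz1 : z oneChar = 1 := by
    have := hz oneChar
    simp [oneChar] at this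
    exact_mod_cast this.symm
  -- the divisors of the centraliser
  have h10 : 10 ∣ C := by
    rw [← hg]
    exact Subgroup.orderOf_dvd_natCard _ (Subgroup.mem_centralizer_singleton_iff.2 ((Commute.refl g).pow_right 5).eq)
  have hdvd : C ∣ 967680 := by
    have h := Eleven.cent_invol hG hto
    rw [show 10644480 = 11 * 967680 from rfl] at h
    refine ((show Nat.Prime 11 by norm_num).coprime_iff_not_dvd.2 fun h11 => ?_).symm.dvd_of_dvd_mul_left h
    obtain ⟨w, hw⟩ := exists_prime_orderOf_dvd_card' (G := Subgroup.centralizer ({t} : Set G)) 11 h11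
    have hcw : Commute (w : G) t := Subgroup.mem_centralizer_singleton_iff.1 w.2
    refine no_mixed_eleven hG Nat.prime_two (by norm_num) ((w : G) * t) ?_
    rw [hcw.orderOf_mul_eq_mul_orderOf_of_coprime (by rw [Subgroup.orderOf_coe, hw, hto]; norm_num),
      Subgroup.orderOf_coe, hw, hto]
  -- the sections of eleven and twenty-three
  obtain ⟨y, hy⟩ := exists_y P hP
  have hy1 : (y : G) ≠ 1 := mem_nonOne.1 hy
  have hCy : Nat.card (Subgroup.centralizer ({(y : G)} : Set G)) = 11 * 1 := by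
    rw [Sections.cent_eq hP y.2 hy1, hC, mul_one]
  have htt : t * t = 1 := by rw [← pow_two, ht2]
  have hA : (Sections.Square.inverters t (y : G)).card = 11 := by
    obtain ⟨h1, h2⟩ := Sections.Square.inverters_bound hP y.2 hy1 hCy (by norm_num) htt (by norm_num)
    have h3 : 0 < (Sections.Square.inverters t (y : G)).card :=
      Finset.card_pos.2 ⟨t, Sections.Square.mem_inverters.2 ⟨IsConj.refl t, hinv _ y.2⟩⟩
    have := Nat.le_of_dvd h3 h1
    omega
  have hle : C ≤ 15646 := by
    set cl := Nat.card {x : G // IsConj t x}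
    set clY := Nat.card {x : G // IsConj (y : G) x}
    have h1 : cl * C = 244823040 := by rw [← hG, hCd]; exact card_conjClass_mul_centralizer t
    have h2 : clY * 11 = 244823040 := by
      rw [← hG, ← card_conjClass_mul_centralizer (y : G), hCy, mul_one]
    -- every conjugate of the element is a product of two conjugates of the involution in eleven ways
    haveI : Fintype {x : G // IsConj (y : G) x} := Fintype.ofFinite _
    have h3 : clY * 11 ≤ cl * cl := by
      have hfib : ∀ x : {x : G // IsConj (y : G) x},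
          11 ≤ Nat.card {a : {a : G // IsConj t a} // IsConj t (a.1⁻¹ * x.1)} := by
        intro x
        obtain ⟨q, hq⟩ := isConj_iff.1 x.2
        refine le_trans (le_of_eq (hA.symm.trans ((Fintype.card_coe _).symm.trans Nat.card_eq_fintype_card.symm))) ?_
        refine Nat.card_le_card_of_injective (fun a => ⟨⟨q * a.1 * q⁻¹,
          (Sections.Square.mem_inverters.1 a.2).1.trans (isConj_iff.2 ⟨q, rfl⟩)⟩, ?_⟩) fun a b e => ?_
        · obtain ⟨ha, hay⟩ := Sections.Square.mem_inverters.1 a.2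
          obtain ⟨k, hk⟩ := isConj_iff.1 ha
          have haa : a.1 * a.1 = 1 := by
            rw [← hk, show k * t * k⁻¹ * (k * t * k⁻¹) = k * (t * t) * k⁻¹ by group, htt, mul_one, mul_inv_cancel]
          have hai : (a.1 : G)⁻¹ = a.1 := inv_eq_of_mul_eq_one_right haa
          have hya : (y : G) ^ 11 = 1 :=
            (congrArg (fun n => (y : G) ^ n) (Sections.order_eq hP y.2 hy1)).symm.trans (pow_orderOf_eq_one _)
          have h6 : a.1⁻¹ * (y : G) = ((y : G) ^ 5) * a.1 * ((y : G) ^ 5)⁻¹ := by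
            have h7 : a.1 * ((y : G) ^ 5)⁻¹ = (y : G) ^ 5 * a.1 := by
              have : a.1 * (y : G) ^ 5 * a.1⁻¹ = ((y : G) ^ 5)⁻¹ := by rw [← conj_pow, hay, inv_pow]
              calc a.1 * ((y : G) ^ 5)⁻¹ = a.1 * (a.1 * (y : G) ^ 5 * a.1⁻¹) := by rw [this]
                _ = (y : G) ^ 5 * a.1 := by rw [← mul_assoc, ← mul_assoc, haa, one_mul, hai]
            rw [mul_assoc, h7, ← mul_assoc, ← pow_add, hai]
            have h8 : a.1 * (y : G) = (y : G)⁻¹ * a.1 := by rw [← hay, inv_mul_cancel_right]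
            rw [h8, inv_eq_of_mul_eq_one_right (show (y : G) * (y : G) ^ (5 + 5) = 1 by
              rw [← pow_succ', hya])]
          show IsConj t ((q * a.1 * q⁻¹)⁻¹ * x.1)
          rw [← hq, show (q * a.1 * q⁻¹)⁻¹ * (q * (y : G) * q⁻¹) = q * (a.1⁻¹ * (y : G)) * q⁻¹ by group, h6]
          exact (ha.trans (isConj_iff.2 ⟨_, rfl⟩)).trans (isConj_iff.2 ⟨q, rfl⟩)
        · exact Subtype.ext (mul_left_cancel (mul_right_cancel
            (congrArg (fun w => ((w.1 : {a : G // IsConj t a}) : G)) e)))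
      calc clY * 11 = ∑ _x : {x : G // IsConj (y : G) x}, 11 := by
            rw [Finset.sum_const, Finset.card_univ, smul_eq_mul, ← Nat.card_eq_fintype_card]
        _ ≤ ∑ x : {x : G // IsConj (y : G) x}, Nat.card {a : {a : G // IsConj t a} // IsConj t (a.1⁻¹ * x.1)} :=
            Finset.sum_le_sum fun x _ => hfib x
        _ = Nat.card ((x : {x : G // IsConj (y : G) x}) × {a : {a : G // IsConj t a} // IsConj t (a.1⁻¹ * x.1)}) :=
            Nat.card_sigma.symm
        _ ≤ Nat.card ({a : G // IsConj t a} × {a : G // IsConj t a}) := by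
            refine Nat.card_le_card_of_injective (fun v => (v.2.1, ⟨v.2.1.1⁻¹ * v.1.1, v.2.2⟩)) ?_
            rintro ⟨x, a⟩ ⟨x', a'⟩ e
            obtain ⟨e1, e2⟩ := Prod.mk.inj e
            have e3 := congrArg Subtype.val e2
            have e4 : (a.1 : G) = (a'.1 : G) := congrArg Subtype.val e1
            change (a.1 : G)⁻¹ * x.1 = (a'.1 : G)⁻¹ * x'.1 at e3
            rw [e4] at e3
            obtain rfl : x = x' := Subtype.ext (mul_left_cancel e3)
            obtain rfl : a = a' := Subtype.ext e1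
            rfl
        _ = cl * cl := Nat.card_prod _ _
    by_contra hb
    have h5 : 244823040 * (C * C) ≤ (cl * C) * (cl * C) := by
      rw [show (cl * C) * (cl * C) = cl * cl * (C * C) by ring, ← h2]
      exact Nat.mul_le_mul_right _ h3
    rw [h1] at h5
    have h6 : 15647 * 15647 ≤ C * C := Nat.mul_le_mul (by omega) (by omega)
    omega
  have hreal : ∀ χ : IrrCharacter G, conj ((χ : G → ℂ) t) = (χ : G → ℂ) t := fun χ => by
    rw [hz χ]; exact map_intCast _ _
  refine ⟨P, g, z, C, hG, hP, hC, hg, hN, hinv, rfl, hdvd, h10, hle, hz, hval, hz1, ?_, ?_, ?_, ?_, ?_, ?_, ?_, ?_⟩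
  · have h := second_orth (G := G) t t
    rw [if_pos (IsConj.refl t)] at h
    simp only [hz, map_intCast] at h
    have hcl := card_conjClass_mul_centralizer t
    have hne : (Nat.card {x : G // IsConj t x} : ℂ) ≠ 0 := by
      have : Nonempty {x : G // IsConj t x} := ⟨⟨t, IsConj.refl t⟩⟩
      simp
    rw [← hcl, Nat.cast_mul, mul_div_cancel_left₀ _ hne] at h
    exact_mod_cast h
  · intro χ
    rcases eq_or_ne χ oneChar with rfl | hne
    · rw [hz1]; simp [oneChar, charDegree]
    · obtain ⟨z', h', h4, -⟩ := SmallOrderGraph.invol_value hna hne hto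
      rw [show z χ = z' by exact_mod_cast (hz χ).symm.trans h']
      exact h4
  · intro χ
    exact MTwelve.OrderFront.class_dvd χ (hz χ) rfl hG
  · intro χ
    obtain ⟨hm, hm'⟩ := hvs χ
    set d := charDegree (χ : G → ℂ)
    have hfree5 : ∀ j < 2, j ≠ 0 → ∀ x ∈ (P : Subgroup G), Commute (t ^ j) x → x = 1 := by
      intro j hj hj0 x hx hc
      exact hfree 5 (by norm_num) x hx (by rwa [show j = 1 by omega, pow_one] at hc)
    obtain ⟨hcard, hsum⟩ := TenTools.sum_sup (f := (χ : G → ℂ))
      (fun a b => isClassFunction_character (irr_isCharacter χ.2) b a) hto (pow_mem hN 5) hfree5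
    obtain ⟨nD, hnD⟩ := TenTools.avg_int (irr_isCharacter χ.2) ((P : Subgroup G) ⊔ Subgroup.zpowers t)
    obtain ⟨h0, h1⟩ := TenTools.fixed_mono (irr_isCharacter χ.2) le_sup_left hm hnD
    rw [hsum, hm, hcard, show (Finset.range 2).erase 0 = {1} by decide, Finset.sum_singleton, pow_one, hz χ,
      show Nat.card (P : Subgroup G) = 11 from hP] at hnD
    have h3 : 11 * mEl d + 11 * z χ = 22 * nD := by
      refine Int.cast_injective (α := ℂ) ?_
      push_cast at hnD ⊢
      linear_combination hnD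
    exact ⟨abs_le.2 ⟨by omega, by omega⟩, ⟨mEl d - nD, by omega⟩⟩
  · obtain ⟨M, X, Y, a, δ, hM, h, -, -, hYc, hout⟩ :=
      selfcent_data P hP hC he (t := 1) (by norm_num) (by norm_num) (by norm_num)
    obtain ⟨θ, hθ⟩ := Finset.card_eq_one.1 hYc
    have hθm : θ ∈ Y := hθ ▸ Finset.mem_singleton_self θ
    have hrel := h.rel θ hθm t (by rw [hto]; norm_num)
    have hwX : ∀ χ ∈ X, w11 (charDegree (χ : G → ℂ)) = a χ := fun χ hχ => by
      have := h.a_val χ hχ y hy
      rw [hval χ _ y.2 hy1] at this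
      exact_mod_cast this
    have hwθ : w11 (charDegree (θ : G → ℂ)) = -δ := by
      have := Solv.BReyn.sum_exc hM hP h ⟨θ, hθm⟩ hy
      rw [hθ, Finset.sum_singleton, hval θ _ y.2 hy1] at this
      exact_mod_cast this
    have hout' : ∀ χ ∈ (Finset.univ : Finset (IrrCharacter G)), χ ∉ X ∪ Y →
        w11 (charDegree (χ : G → ℂ)) * z χ = 0 := fun χ _ hχ => by
      rw [Finset.mem_union, not_or] at hχ
      have := (hout χ hχ.1 hχ.2).1 y hy
      rw [hval χ _ y.2 hy1] at this
      rw [show w11 (charDegree (χ : G → ℂ)) = 0 by exact_mod_cast this, zero_mul]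
    rw [← Finset.sum_subset (Finset.subset_univ (X ∪ Y)) hout', Finset.sum_union h.disj, hθ, Finset.sum_singleton,
      hwθ, Finset.sum_congr rfl fun χ hχ => by rw [hwX χ hχ]]
    simp only [hz] at hrel
    have hrel' : δ * z θ = ∑ χ ∈ X, a χ * z χ := by exact_mod_cast hrel
    linarith
  · obtain ⟨M, X, Y, a, δ, hM, h, -, -, hYc, hout⟩ :=
      selfcent_data P hP hC he (t := 1) (by norm_num) (by norm_num) (by norm_num)
    obtain ⟨θ, hθ⟩ := Finset.card_eq_one.1 hYc
    have hθm : θ ∈ Y := hθ ▸ Finset.mem_singleton_self θ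
    have hf : FrobSylow P 10 := he ▸ frobSylow_of_prime hP
    have hsq := Sections.Square.square_sum hM hP h ⟨θ, hθm⟩ hf hy hCy (by norm_num) (by norm_num) ht2 hθm
    rw [hA, hG] at hsq
    have hwX : ∀ χ ∈ X, w11 (charDegree (χ : G → ℂ)) = a χ := fun χ hχ => by
      have := h.a_val χ hχ y hy
      rw [hval χ _ y.2 hy1] at this
      exact_mod_cast this
    have hwθ : w11 (charDegree (θ : G → ℂ)) = -δ := by
      have := Solv.BReyn.sum_exc hM hP h ⟨θ, hθm⟩ hy
      rw [hθ, Finset.sum_singleton, hval θ _ y.2 hy1] at this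
      exact_mod_cast this
    have hout' : ∀ χ ∈ (Finset.univ : Finset (IrrCharacter G)), χ ∉ X ∪ Y →
        (w11 (charDegree (χ : G → ℂ)) : ℂ) * (z χ : ℂ) ^ 2 / (charDegree (χ : G → ℂ) : ℂ) = 0 := fun χ _ hχ => by
      rw [Finset.mem_union, not_or] at hχ
      have := (hout χ hχ.1 hχ.2).1 y hy
      rw [hval χ _ y.2 hy1] at this
      rw [this]; simp
    rw [← Finset.sum_subset (Finset.subset_univ (X ∪ Y)) hout', Finset.sum_union h.disj, hθ, Finset.sum_singleton,
      hwθ, Finset.sum_congr rfl fun χ hχ => by rw [hwX χ hχ]]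
    simp only [hz, val_one] at hsq
    push_cast at hsq ⊢
    have hcl : (Nat.card {x : G // IsConj t x} : ℂ) * (C : ℂ) = 244823040 := by
      have := card_conjClass_mul_centralizer t
      rw [← hCd, hG] at this
      exact_mod_cast this
    rw [neg_mul, neg_div, ← sub_eq_add_neg, eq_div_iff (by norm_num : (244823040 : ℂ) ≠ 0)]
    generalize (∑ χ ∈ X, (a χ : ℂ) * (z χ : ℂ) ^ 2 / (charDegree (χ : G → ℂ) : ℂ) -
      (δ : ℂ) * (z θ : ℂ) ^ 2 / (charDegree (θ : G → ℂ) : ℂ)) = S at hsq ⊢
    generalize (Nat.card {x : G // IsConj t x} : ℂ) = cl at hsq hcl ⊢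
    have hC0 : (C : ℂ) ≠ 0 := fun h' => by rw [h', mul_zero] at hcl; norm_num at hcl
    have hcl0 : cl ≠ 0 := fun h' => by rw [h', zero_mul] at hcl; norm_num at hcl
    apply mul_left_cancel₀ (pow_ne_zero 2 hcl0)
    linear_combination -(244823040 / 11 : ℂ) * hsq - 11 * (cl * (C : ℂ) + 244823040) * hcl
  · obtain ⟨R, hR, hRC, heR⟩ := exists_twentythree hG
    obtain ⟨M, X, Y, a, δ, hM, h, -, -, hYc, hout⟩ :=
      selfcent_data R hR hRC heR (t := 2) (by norm_num) (by norm_num) (by norm_num)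
    obtain ⟨θ, θ', hne, hθ⟩ := Finset.card_eq_two.1 hYc
    have hθm : θ ∈ Y := hθ ▸ Finset.mem_insert_self θ {θ'}
    have hθm' : θ' ∈ Y := hθ ▸ Finset.mem_insert_of_mem (Finset.mem_singleton_self θ')
    have hreg : ¬ 23 ∣ orderOf t := by rw [hto]; norm_num
    have hrel := h.rel θ hθm t hreg
    have hzz : z θ' = z θ := by
      have := h.regY θ' hθm' θ hθm t hreg
      rw [hz, hz] at this
      exact_mod_cast this
    have hwX : ∀ χ ∈ X, w23 (charDegree (χ : G → ℂ)) = 2 * a χ := fun χ hχ => by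
      have h2 := (h.a_congr χ hχ).eq
      rcases h.a_sign χ hχ with e' | e' <;> rw [e'] at h2 ⊢ <;> simp only [w23] <;> split_ifs <;> omega
    have hwY : ∀ χ ∈ Y, w23 (charDegree (χ : G → ℂ)) = -δ := fun χ hχ => by
      have h2 := (h.congrY χ hχ).eq
      rcases h.sign with e' | e' <;> rw [e'] at h2 ⊢ <;> simp only [w23] <;> split_ifs <;> omega
    have hout' : ∀ χ ∈ (Finset.univ : Finset (IrrCharacter G)), χ ∉ X ∪ Y →
        w23 (charDegree (χ : G → ℂ)) * z χ = 0 := fun χ _ hχ => by
      rw [Finset.mem_union, not_or] at hχ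
      have := Nat.mod_eq_zero_of_dvd (hout χ hχ.1 hχ.2).2
      simp only [w23]; split_ifs <;> omega
    rw [← Finset.sum_subset (Finset.subset_univ (X ∪ Y)) hout', Finset.sum_union h.disj, hθ, Finset.sum_pair hne,
      hwY θ hθm, hwY θ' hθm', hzz, Finset.sum_congr rfl fun χ hχ => by rw [hwX χ hχ, mul_assoc], ← Finset.mul_sum]
    simp only [hz] at hrel
    have hrel' : δ * z θ = ∑ χ ∈ X, a χ * z χ := by exact_mod_cast hrel
    linarith
  · obtain ⟨R, hR, hRC, heR⟩ := exists_twentythree hG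
    obtain ⟨M, X, Y, a, δ, hM, h, -, -, hYc, hout⟩ :=
      selfcent_data R hR hRC heR (t := 2) (by norm_num) (by norm_num) (by norm_num)
    obtain ⟨θ, θ', hne, hθ⟩ := Finset.card_eq_two.1 hYc
    have hθm : θ ∈ Y := hθ ▸ Finset.mem_insert_self θ {θ'}
    have hθm' : θ' ∈ Y := hθ ▸ Finset.mem_insert_of_mem (Finset.mem_singleton_self θ')
    have hf : FrobSylow R 11 := heR ▸ frobSylow_of_prime hR
    obtain ⟨w, hw⟩ := exists_y R hR
    have hw1 : (w : G) ≠ 1 := mem_nonOne.1 hw
    have hCw : Nat.card (Subgroup.centralizer ({(w : G)} : Set G)) = 23 * 1 := by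
      rw [Sections.cent_eq hR w.2 hw1, hRC, mul_one]
    have hA0 : (Sections.Square.inverters t (w : G)).card = 0 := by
      rw [Finset.card_eq_zero, Finset.eq_empty_iff_forall_notMem]
      intro b hb
      obtain ⟨-, hbw⟩ := Sections.Square.mem_inverters.1 hb
      exact no_real_twentythree hR hRC heR w.2 hw1 hbw
    have hsq := Sections.Square.square_sum hM hR h ⟨θ, hθm⟩ hf hw hCw (by norm_num) (by norm_num) ht2 hθm
    rw [hA0, Nat.cast_zero, zero_pow two_ne_zero, mul_zero, eq_comm, mul_eq_zero] at hsq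
    have hsq' : ∑ χ ∈ X, (a χ : ℂ) * ((χ : G → ℂ) t) ^ 2 / (χ : G → ℂ) 1 -
        (δ : ℂ) * ((θ : G → ℂ) t) ^ 2 / (θ : G → ℂ) 1 = 0 := by
      refine hsq.resolve_left (mul_ne_zero (by norm_num) (pow_ne_zero 2 ?_))
      have : Nonempty {x : G // IsConj t x} := ⟨⟨t, IsConj.refl t⟩⟩
      simp
    have hreg : ¬ 23 ∣ orderOf t := by rw [hto]; norm_num
    have hzz : z θ' = z θ := by
      have := h.regY θ' hθm' θ hθm t hreg
      rw [hz, hz] at this
      exact_mod_cast this
    have hdd : charDegree (θ' : G → ℂ) = charDegree (θ : G → ℂ) := by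
      have := h.regY θ' hθm' θ hθm 1 (by simp)
      simp only [val_one, Int.cast_natCast] at this
      exact_mod_cast this
    have hwX : ∀ χ ∈ X, w23 (charDegree (χ : G → ℂ)) = 2 * a χ := fun χ hχ => by
      have h2 := (h.a_congr χ hχ).eq
      rcases h.a_sign χ hχ with e' | e' <;> rw [e'] at h2 ⊢ <;> simp only [w23] <;> split_ifs <;> omega
    have hwY : ∀ χ ∈ Y, w23 (charDegree (χ : G → ℂ)) = -δ := fun χ hχ => by
      have h2 := (h.congrY χ hχ).eq
      rcases h.sign with e' | e' <;> rw [e'] at h2 ⊢ <;> simp only [w23] <;> split_ifs <;> omega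
    have hout' : ∀ χ ∈ (Finset.univ : Finset (IrrCharacter G)), χ ∉ X ∪ Y →
        (w23 (charDegree (χ : G → ℂ)) : ℂ) * (z χ : ℂ) ^ 2 / (charDegree (χ : G → ℂ) : ℂ) = 0 := fun χ _ hχ => by
      rw [Finset.mem_union, not_or] at hχ
      have := Nat.mod_eq_zero_of_dvd (hout χ hχ.1 hχ.2).2
      rw [show w23 (charDegree (χ : G → ℂ)) = 0 by simp only [w23]; split_ifs <;> omega]
      simp
    rw [← Finset.sum_subset (Finset.subset_univ (X ∪ Y)) hout', Finset.sum_union h.disj, hθ, Finset.sum_pair hne,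
      hwY θ hθm, hwY θ' hθm', hzz, hdd, Finset.sum_congr rfl fun χ hχ => by
        rw [hwX χ hχ, Int.cast_mul, mul_assoc, mul_div_assoc], ← Finset.mul_sum]
    simp only [hz, val_one, Int.cast_natCast] at hsq'
    push_cast
    linear_combination 2 * hsq'

end Ten

end Cfsg.Agent.MTwentyFour.ByOrder
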