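import Cfsg.Agent.Lib.Spor.MTwentyFourOrder.Assemble
import Cfsg.Agent.Lib.Spor.MTwentyFourOrder.FiveSideZedTwelve
import Cfsg.Agent.Lib.Spor.MTwentyFourOrder.FiveSideZedThirtyTwo
import Cfsg.Agent.Lib.Spor.MTwentyFourOrder.RowA.Final

/-!
Simple groups of the order of the Mathieu group of degree twenty-four: the cases of automiser six at seven.
-/

set_option autoImplicit false
set_option linter.unusedSectionVars false

namespace Cfsg.Agent.MTwentyFour.ByOrder.Assemble

open Cfsg Cfsg.Agent.Char Cfsg.Agent.Char.PrimeSylowCount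

universe u

variable {G : Type u} [Group G] [Fintype G] [IsSimpleGroup G]

/-- The cases of automiser six. -/
theorem six_case (hG : Nat.card G = 244823040) : SixCase G := by
  intro P g z C T Q k M c r D hcase Q7 k7 hQ7 he7 hC7 hk7
  rcases hcase with ⟨rfl, rfl⟩ | ⟨rfl, rfl, rfl⟩ | ⟨rfl, rfl, rfl⟩
  · exact RowA.deg23_twelve_a T D
  · exact FiveSide.deg23_twelve_b T rfl D
  · exact FiveSide.deg23_thirty_two T rfl D

end Cfsg.Agent.MTwentyFour.ByOrder.Assemble
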