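import Cfsg.Agent.Lib.Spor.MTwentyFourOrder.SylowTwentyThree
import Cfsg.Agent.Lib.Spor.MTwentyFourOrder.SylowElevenTools
import Cfsg.Agent.Lib.Spor.MTwentyFourOrder.SylowElevenArith

/-!
The degrees of the characters of the principal block of a prime in a simple group of the order of the Mathieu group
of degree twenty-four.
-/

set_option autoImplicit false
set_option linter.unusedSectionVars false
set_option maxHeartbeats 1000000

namespace Cfsg.Agent.MTwentyFour.ByOrder.Eleven

open Cfsg Cfsg.Agent.Char Cfsg.Agent.Small.Order459648 Cfsg.Agent.Char.PrimeSylowCount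
open Cfsg.Agent.MTwelve.OrderFront (val_one mult_nat)
open Cfsg.Agent.MTwentyFour.ByOrder (na)
open scoped ComplexConjugate Classical

universe u

variable {G : Type u} [Group G] [Fintype G] {p : ℕ} [Fact p.Prime] {P : Sylow p G} {e : ℕ}
  {M : Ideal AlgInt} {X Y : Finset (IrrCharacter G)} {a : IrrCharacter G → ℤ} {δ : ℤ}

/-- The size of the class of a non-trivial element of the Sylow subgroup. -/
theorem class_size {m k : ℕ} (hP : Nat.card P = p) (hG : Nat.card G = p * m)
    (hC : Nat.card (Subgroup.centralizer ((P : Subgroup G) : Set G)) = p * k) {y : ↥(P : Subgroup G)}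
    (hy : y ∈ nonOne P) : Nat.card {x : G // IsConj (y : G) x} = m / k := by
  have h1 := card_conjClass_mul_centralizer (y : G)
  rw [Sections.cent_eq hP y.2 (mem_nonOne.1 hy), hC, hG, mul_left_comm] at h1
  have h2 := Nat.eq_of_mul_eq_mul_left (Fact.out : p.Prime).pos h1
  have hk : 0 < k := Nat.pos_of_ne_zero fun h => by
    rw [h, mul_zero] at hC
    exact Nat.card_pos.ne' hC
  exact (Nat.div_eq_of_eq_mul_left hk h2.symm).symm

/-- The degree of a non-exceptional character divides the size of the class. -/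
theorem dvd_X {m k : ℕ} (hP : Nat.card P = p) (h : PrimePrincipal M P e X Y a δ) (hG : Nat.card G = p * m)
    (hC : Nat.card (Subgroup.centralizer ((P : Subgroup G) : Set G)) = p * k) {y : ↥(P : Subgroup G)}
    (hy : y ∈ nonOne P) {χ : IrrCharacter G} (hχ : χ ∈ X) : charDegree (χ : G → ℂ) ∣ m / k := by
  refine Solv.BReyn.nat_dvd_of_integral (deg_pos χ.2).ne' (h.a_sign χ hχ) ?_
  have hI := omega_isIntegral χ.2 (y : G)
  rwa [omega, class_size hP hG hC hy, val_one, h.a_val χ hχ y hy, Int.cast_natCast] at hI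

/-- The degree of an exceptional character divides the size of the class. -/
theorem dvd_Y {m k : ℕ} (hP : Nat.card P = p) (hM : IsPModular p M) (h : PrimePrincipal M P e X Y a δ)
    (hG : Nat.card G = p * m)
    (hC : Nat.card (Subgroup.centralizer ((P : Subgroup G) : Set G)) = p * k) {y : ↥(P : Subgroup G)}
    (hy : y ∈ nonOne P) {θ : IrrCharacter G} (hθ : θ ∈ Y) : charDegree (θ : G → ℂ) ∣ m / k := by
  refine Solv.BReyn.nat_dvd_of_integral (deg_pos θ.2).ne' (b := -δ)
    (by rcases h.sign with e' | e' <;> simp [e']) ?_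
  have h1reg : ¬ p ∣ orderOf (1 : G) := by simp [(Fact.out : p.Prime).ne_one]
  have hI : IsIntegral ℤ (∑ χ ∈ Y, omega (χ : G → ℂ) (y : G)) :=
    IsIntegral.sum _ fun χ _ => omega_isIntegral χ.2 _
  rw [Finset.sum_congr rfl (g := fun χ : IrrCharacter G => ((m / k : ℕ) : ℂ) /
      (charDegree (θ : G → ℂ) : ℂ) * (χ : G → ℂ) (y : G)) fun χ hχ => by
    rw [omega, class_size hP hG hC hy, h.regY χ hχ θ hθ 1 h1reg, val_one]; push_cast; ring,
    ← Finset.mul_sum, Solv.BReyn.sum_exc hM hP h ⟨θ, hθ⟩ hy] at hI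
  convert hI using 1
  push_cast
  ring

/-- The congruence of a signed degree. -/
theorem congr_X (h : PrimePrincipal M P e X Y a δ) {χ : IrrCharacter G} (hχ : χ ∈ X) :
    (a χ * (charDegree (χ : G → ℂ) : ℤ) - 1) % (p : ℤ) = 0 := by
  obtain ⟨c, hc⟩ := Int.modEq_iff_dvd.1 (h.a_congr χ hχ).symm
  refine Int.emod_eq_zero_of_dvd ⟨a χ * c, ?_⟩
  rcases h.a_sign χ hχ with e' | e' <;> rw [e'] at hc ⊢ <;> linarith

/-- The congruence of the signed exceptional degree. -/
theorem congr_Y (h : PrimePrincipal M P e X Y a δ) {θ : IrrCharacter G} (hθ : θ ∈ Y) :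
    (δ * (charDegree (θ : G → ℂ) : ℤ) - (e : ℤ)) % (p : ℤ) = 0 := by
  obtain ⟨c, hc⟩ := Int.modEq_iff_dvd.1 (h.congrY θ hθ).symm
  refine Int.emod_eq_zero_of_dvd ⟨δ * c, ?_⟩
  rcases h.sign with e' | e' <;> rw [e'] at hc ⊢ <;> linarith

/-- The relation at a regular element, with the trivial character apart. -/
theorem rel_erase (h : PrimePrincipal M P e X Y a δ) (h1X : (oneChar : IrrCharacter G) ∈ X)
    (hone : a (oneChar : IrrCharacter G) = 1) {θ : IrrCharacter G} (hθ : θ ∈ Y) {g : G} (hg : ¬ p ∣ orderOf g) :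
    (δ : ℂ) * (θ : G → ℂ) g = 1 + ∑ χ ∈ X.erase oneChar, (a χ : ℂ) * (χ : G → ℂ) g := by
  rw [h.rel θ hθ g hg, ← Finset.add_sum_erase X _ h1X, hone]
  simp [oneChar]

/-- The relation of the degrees. -/
theorem rel_one (h : PrimePrincipal M P e X Y a δ) (h1X : (oneChar : IrrCharacter G) ∈ X)
    (hone : a (oneChar : IrrCharacter G) = 1) {θ : IrrCharacter G} (hθ : θ ∈ Y) :
    δ * (charDegree (θ : G → ℂ) : ℤ) = 1 + ∑ χ ∈ X.erase oneChar, a χ * (charDegree (χ : G → ℂ) : ℤ) := by
  have h2 := rel_erase h h1X hone hθ (g := 1) (by simp [(Fact.out : p.Prime).ne_one])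
  simp only [val_one] at h2
  exact_mod_cast h2

/-- The relation at an element, as a sum test on signed degrees. -/
theorem lin_test (h : PrimePrincipal M P e X Y a δ) (h1X : (oneChar : IrrCharacter G) ∈ X)
    (hone : a (oneChar : IrrCharacter G) = 1) {l : List ℕ} (hl : ∀ d ∈ l, d ≤ off)
    (hX : ∀ χ ∈ X.erase oneChar, charDegree (χ : G → ℂ) ∈ l) {θ : IrrCharacter G} (hθ : θ ∈ Y) :
    linOk (sdeg p l 1) (e - 1) (δ * (charDegree (θ : G → ℂ) : ℤ) - 1) = true := by
  have hs : ∀ x ∈ (X.erase oneChar).val.map (fun χ => a χ * (charDegree (χ : G → ℂ) : ℤ)), x ∈ sdeg p l 1 := by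
    intro x hx
    obtain ⟨χ, hχ, rfl⟩ := Multiset.mem_map.1 hx
    exact mem_sdeg (hX χ hχ) (h.a_sign χ (Finset.mem_erase.1 hχ).2) (congr_X h (Finset.mem_erase.1 hχ).2)
  have h1 := linOk_of_multiset (fun x hx => sdeg_bound hl hx) (e - 1) _ (by
    rw [Multiset.card_map]
    change (X.erase oneChar).card = e - 1
    rw [Finset.card_erase_of_mem h1X, h.cardX]) hs
  rw [rel_one h h1X hone hθ, add_sub_cancel_left]
  exact h1

variable [IsSimpleGroup G]

local instance fact_twentyThree' : Fact (Nat.Prime 23) := ⟨by norm_num⟩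

/-- The range of the non-trivial degrees. -/
theorem deg_range (hG : Nat.card G = 244823040) {χ : IrrCharacter G} (hne : χ ≠ oneChar) :
    2 ≤ charDegree (χ : G → ℂ) ∧ charDegree (χ : G → ℂ) ≤ off := by
  refine ⟨one_lt_degree (na hG) hne, ?_⟩
  have h2 := MTwelve.OrderFront.one_add_sq_le (g := (1 : G)) hne (val_one χ)
  have h3 : (Nat.card (Subgroup.centralizer ({1} : Set G)) : ℤ) ≤ 244823040 := by
    exact_mod_cast hG ▸ Subgroup.card_le_card_group _
  by_contra hb
  simp only [off, not_le] at hb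
  have : (15647 : ℤ) * 15647 ≤ (charDegree (χ : G → ℂ) : ℤ) * (charDegree (χ : G → ℂ) : ℤ) :=
    mul_le_mul (by omega) (by omega) (by norm_num) (by omega)
  omega

/-- The degrees modulo twenty-three. -/
theorem deg_res (hG : Nat.card G = 244823040) (χ : IrrCharacter G) : charDegree (χ : G → ℂ) % 23 ∈ res := by
  obtain ⟨Q, hQ, hC, he⟩ := exists_twentythree hG
  obtain ⟨M, X, Y, a, δ, h, -, hdiv⟩ := SmallOrderGraph.exists_data Q hQ he hC
  simp only [res, List.mem_cons, List.not_mem_nil, or_false]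
  by_cases hX : χ ∈ X
  · have h2 := (h.a_congr χ hX).eq
    rcases h.a_sign χ hX with e' | e' <;> rw [e'] at h2 <;> omega
  by_cases hY : χ ∈ Y
  · have h2 := (h.congrY χ hY).eq
    rcases h.sign with e' | e' <;> rw [e'] at h2 <;> omega
  have := Nat.mod_eq_zero_of_dvd (hdiv χ hX hY)
  omega

/-- The number of fixed points of an element of prime order. -/
theorem exists_fix (hG : Nat.card G = 244823040) {χ : IrrCharacter G} (hne : χ ≠ oneChar) {v : G} {q : ℕ}
    (hq : q.Prime) (hv : orderOf v = q) :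
    ∃ m : ℕ, (∑ j ∈ Finset.range q, (χ : G → ℂ) (v ^ j) = (q : ℂ) * m) ∧ m < charDegree (χ : G → ℂ) := by
  obtain ⟨m, hm⟩ := mult_nat (irr_isCharacter χ.2) (n := q) hq.ne_zero (hv ▸ pow_orderOf_eq_one v)
    (ζ := 1) (one_pow _)
  simp only [one_pow, one_mul] at hm
  refine ⟨m, hm, ?_⟩
  by_contra hb
  have h1 : ‖∑ j ∈ Finset.range q, (χ : G → ℂ) (v ^ j)‖ < ∑ j ∈ Finset.range q, (charDegree (χ : G → ℂ) : ℝ) := by
    refine lt_of_le_of_lt (norm_sum_le _ _) (Finset.sum_lt_sum (fun j _ => ?_) ⟨1, Finset.mem_range.2 hq.one_lt, ?_⟩)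
    · have h := char_norm_le (irr_isCharacter χ.2) (v ^ j)
      rwa [char_one_eq_deg (irr_isCharacter χ.2), ← charDegree_eq_deg, Complex.natCast_re] at h
    · have h := char_norm_le (irr_isCharacter χ.2) (v ^ 1)
      rw [char_one_eq_deg (irr_isCharacter χ.2), ← charDegree_eq_deg, Complex.natCast_re] at h
      refine lt_of_le_of_ne h (SmallOrderGraph.norm_ne_deg (na hG) hne fun e => ?_)
      rw [pow_one] at e
      rw [e, orderOf_one] at hv
      exact hq.ne_one hv.symm
  rw [hm, norm_mul, Complex.norm_natCast, Complex.norm_natCast, Finset.sum_const, Finset.card_range,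
    nsmul_eq_mul] at h1
  exact absurd h1 (not_lt.2 (mul_le_mul_of_nonneg_left (by exact_mod_cast not_lt.1 hb) (Nat.cast_nonneg q)))

end Cfsg.Agent.MTwentyFour.ByOrder.Eleven
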