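import Cfsg.Agent.Lib.Spor.MTwentyFourOrder.SylowElevenSeven

/-!
The standing data for the Sylow subgroup of order eleven of a simple group of the order of the Mathieu group of
degree twenty-four.
-/

set_option autoImplicit false
set_option linter.unusedSectionVars false
set_option maxHeartbeats 1000000

namespace Cfsg.Agent.MTwentyFour.ByOrder.Eleven

open Cfsg Cfsg.Agent.Char Cfsg.Agent.Small.Order459648 Cfsg.Agent.Char.PrimeSylowCount
open Cfsg.Agent.MTwelve.OrderFront (val_one mult_nat)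
open Cfsg.Agent.MTwentyFour.ByOrder (na)
open scoped ComplexConjugate Classical

universe u

variable {G : Type u} [Group G] [Fintype G]

local instance fact_elevenCtx : Fact (Nat.Prime 11) := ⟨by norm_num⟩
local instance fact_twentyThreeCtx : Fact (Nat.Prime 23) := ⟨by norm_num⟩

/-- The local data and the principal block at eleven. -/
structure Ctx (P : Sylow 11 G) (e k : ℕ) (M : Ideal AlgInt) (X Y : Finset (IrrCharacter G))
    (a : IrrCharacter G → ℤ) (δ : ℤ) : Prop where
  order : Nat.card G = 244823040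
  card : Nat.card P = 11
  cent : Nat.card (Subgroup.centralizer ((P : Subgroup G) : Set G)) = 11 * k
  index : (Subgroup.centralizer ((P : Subgroup G) : Set G)).relIndex
    (Subgroup.normalizer ((P : Subgroup G) : Set G)) = e
  case_mem : (e, k) ∈ cases
  modular : IsPModular 11 M
  pp : PrimePrincipal M P e X Y a δ
  one_mem : (oneChar : IrrCharacter G) ∈ X
  one_sign : a (oneChar : IrrCharacter G) = 1
  frob : FrobSylow P e
  exc : Y.card * e = 10

variable [IsSimpleGroup G]

/-- The standing data exist. -/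
theorem exists_ctx (hG : Nat.card G = 244823040) :
    ∃ (P : Sylow 11 G) (e k : ℕ) (M : Ideal AlgInt) (X Y : Finset (IrrCharacter G))
      (a : IrrCharacter G → ℤ) (δ : ℤ), Ctx P e k M X Y a δ := by
  obtain ⟨P, n, e, k, hP, -, hk, hnek, hn1, -, he10, he1, he⟩ :=
    data (G := G) (p := 11) (m := 22256640) (by rw [hG]) (by norm_num) (by norm_num)
  have hC : Nat.card (Subgroup.centralizer ((P : Subgroup G) : Set G)) = 11 * k := hk
  have hel : e = 2 ∨ e = 5 ∨ e = 10 := by
    have : e ≤ 10 := Nat.le_of_dvd (by norm_num) he10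
    interval_cases e <;> simp_all
  have h23 : ¬ 23 ∣ k := fun h => by
    obtain ⟨R, hR, hRC, -⟩ := exists_twentythree hG
    have h2 := cross P R hP hR (hk ▸ Dvd.dvd.mul_left h 11)
    rw [show centCard 23 R = 23 from hRC] at h2
    norm_num at h2
  have hcase := case_options hel hnek hn1 h23 (not_seven hG hP hC)
  obtain ⟨t, ht, het⟩ : ∃ t, 0 < t ∧ e * t + 1 = 11 := by
    rcases hel with rfl | rfl | rfl
    exacts [⟨5, by norm_num⟩, ⟨2, by norm_num⟩, ⟨1, by norm_num⟩]
  obtain ⟨M, hM⟩ := exists_pModular (show Nat.Prime 11 by norm_num)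
  obtain ⟨X, Y, a, δ, h, h1X, hone, hYc⟩ := Solv.BReyn.exists_principal_one_mem hM hP he (by omega) ht het
  exact ⟨P, e, k, M, X, Y, a, δ, hG, hP, hC, he, hcase, hM, h, h1X, hone, he ▸ frobSylow_of_prime hP,
    by rw [hYc, mul_comm]; omega⟩

variable {P : Sylow 11 G} {e k : ℕ} {M : Ideal AlgInt} {X Y : Finset (IrrCharacter G)}
  {a : IrrCharacter G → ℤ} {δ : ℤ}

theorem Ctx.k_ne_zero (D : Ctx P e k M X Y a δ) : k ≠ 0 := fun h => by
  have h' := D.cent
  rw [h, mul_zero] at h'
  exact Nat.card_pos.ne' h'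

theorem Ctx.k_dvd (D : Ctx P e k M X Y a δ) : k ∣ 22256640 := by
  have h := Subgroup.card_subgroup_dvd_card (Subgroup.centralizer ((P : Subgroup G) : Set G))
  rw [D.cent, D.order, show 244823040 = 11 * 22256640 from rfl] at h
  exact Nat.dvd_of_mul_dvd_mul_left (by norm_num) h

theorem Ctx.exc_nonempty (D : Ctx P e k M X Y a δ) : Y.Nonempty :=
  Finset.card_pos.1 (Nat.pos_of_ne_zero fun h => by
    have h' := D.exc
    rw [h, zero_mul] at h'
    omega)

theorem Ctx.exc_ne (D : Ctx P e k M X Y a δ) {θ : IrrCharacter G} (hθ : θ ∈ Y) : θ ≠ oneChar :=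
  fun e1 => Finset.disjoint_left.1 D.pp.disj D.one_mem (e1 ▸ hθ)

/-- The degrees of the non-trivial members of the principal block. -/
theorem Ctx.deg_mem (D : Ctx P e k M X Y a δ) {χ : IrrCharacter G} (hne : χ ≠ oneChar)
    (hχ : χ ∈ X ∨ χ ∈ Y) : charDegree (χ : G → ℂ) ∈ degs k := by
  obtain ⟨y, hy⟩ := SmallOrderGraph.nonOne_nonempty P D.card
  have hG' : Nat.card G = 11 * 22256640 := by rw [D.order]
  have hd : charDegree (χ : G → ℂ) ∣ 22256640 / k :=
    hχ.elim (dvd_X D.card D.pp hG' D.cent hy) (dvd_Y D.card D.modular D.pp hG' D.cent hy)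
  exact mem_degs hd (hd.trans (Nat.div_dvd_of_dvd D.k_dvd)) (deg_range D.order hne).1 (deg_range D.order hne).2
    (deg_res D.order χ)

theorem Ctx.sdeg_X (D : Ctx P e k M X Y a δ) {χ : IrrCharacter G} (hχ : χ ∈ X.erase oneChar) :
    a χ * (charDegree (χ : G → ℂ) : ℤ) ∈ sdeg 11 (degs k) 1 :=
  mem_sdeg (D.deg_mem (Finset.mem_erase.1 hχ).1 (Or.inl (Finset.mem_erase.1 hχ).2))
    (D.pp.a_sign χ (Finset.mem_erase.1 hχ).2) (congr_X D.pp (Finset.mem_erase.1 hχ).2)

theorem Ctx.sdeg_Y (D : Ctx P e k M X Y a δ) {θ : IrrCharacter G} (hθ : θ ∈ Y) :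
    δ * (charDegree (θ : G → ℂ) : ℤ) ∈ sdeg 11 (degs k) (e : ℤ) :=
  mem_sdeg (D.deg_mem (D.exc_ne hθ) (Or.inr hθ)) D.pp.sign (congr_Y D.pp hθ)

/-- The cases which die by the linear relation. -/
theorem not_linear (D : Ctx P e k M X Y a δ) :
    ¬ (e = 5 ∧ k = 3456) ∧ ¬ (e = 10 ∧ (k = 144 ∨ k = 1728)) := by
  obtain ⟨θ, hθ⟩ := D.exc_nonempty
  have hlin := lin_test D.pp D.one_mem D.one_sign (l := degs k)
    (fun d hd => by
      have := (List.mem_filter.1 hd).2
      simp at this
      omega)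
    (fun χ hχ => D.deg_mem (Finset.mem_erase.1 hχ).1 (Or.inl (Finset.mem_erase.1 hχ).2)) hθ
  have hy := D.sdeg_Y hθ
  constructor
  · rintro ⟨rfl, rfl⟩
    exact Bool.false_ne_true ((linear_five _ hy).symm.trans hlin)
  · rintro ⟨rfl, hk⟩
    exact Bool.false_ne_true ((linear_ten k (by simpa using hk) _ hy).symm.trans hlin)

end Cfsg.Agent.MTwentyFour.ByOrder.Eleven
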