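import Cfsg.Agent.Lib.Spor.MTwentyFourOrder.SylowElevenFiveArith

/-!
The searches for an automiser of order five.
-/

set_option autoImplicit false
set_option maxRecDepth 100000
set_option maxHeartbeats 2000000

namespace Cfsg.Agent.MTwentyFour.ByOrder.Eleven

theorem five_small : ∀ C ∈ fiveCent.take 5,
    killFive 2 (244823040 / C.1) C.1 C.2 (C.1 % 7 == 0) = true := by
  decide +kernel

theorem five_big : ∀ k ∈ [24, 288], killFive k 2225664 10644480 3262 false = true := by
  decide +kernel

end Cfsg.Agent.MTwentyFour.ByOrder.Eleven
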