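import Cfsg.Agent.Lib.Spor.MTwentyFourOrder.SylowElevenInvol
import Cfsg.Agent.Lib.Spor.MTwentyFourOrder.SylowElevenFiveRun
import Cfsg.Agent.Lib.Spor.MTwentyFourOrder.SylowElevenFiveRunTwo
import Cfsg.Agent.Lib.Spor.MTwentyThreeOrder.SylowEleven

/-!
The automiser of order five does not occur.
-/

set_option autoImplicit false
set_option linter.unusedSectionVars false
set_option maxHeartbeats 2000000

namespace Cfsg.Agent.MTwentyFour.ByOrder.Eleven

open Cfsg Cfsg.Agent.Char Cfsg.Agent.Small.Order459648 Cfsg.Agent.Char.PrimeSylowCount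
open Cfsg.Agent.MTwelve.OrderFront (val_one mult_nat)
open Cfsg.Agent.MTwentyFour.ByOrder (na)
open scoped ComplexConjugate Classical

universe u

/-- A listing of the values gives a listing of the members. -/
theorem map_eq_list {α β : Type*} (f : α → β) : ∀ (l : List β) (s : Multiset α),
    s.map f = (l : Multiset β) → ∃ m : List α, (m : Multiset α) = s ∧ m.map f = l
  | [], s, h => ⟨[], by simp at h; simp [h], rfl⟩
  | b :: l, s, h => by
    classical
    obtain ⟨a, ha, hab⟩ := Multiset.mem_map.1 (by rw [h]; simp : b ∈ s.map f)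
    have h' : (s.erase a).map f = (l : Multiset β) := by
      refine (Multiset.cons_inj_right b).1 ?_
      rw [← hab, ← Multiset.map_cons, Multiset.cons_erase ha, h, hab]
      rfl
    obtain ⟨m, hm, hml⟩ := map_eq_list f l _ h'
    exact ⟨a :: m, by rw [← Multiset.cons_coe, hm, Multiset.cons_erase ha], by rw [List.map_cons, hab, hml]⟩

variable {G : Type u} [Group G] [Fintype G] [IsSimpleGroup G]

local instance fact_elevenFive : Fact (Nat.Prime 11) := ⟨by norm_num⟩

variable {P : Sylow 11 G} {k : ℕ} {M : Ideal AlgInt} {X Y : Finset (IrrCharacter G)}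
  {a : IrrCharacter G → ℤ} {δ : ℤ}

theorem sv_mul {b : ℤ} (hb : b = 1 ∨ b = -1) {d : ℕ} (hd : 0 < d) (z : ℤ) : sv (b * (d : ℤ)) z = b * z := by
  rcases hb with rfl | rfl
  · rw [sv, if_pos (by omega)]; simp
  · rw [sv, if_neg (by omega)]; simp

theorem natAbs_mul {b : ℤ} (hb : b = 1 ∨ b = -1) (d : ℕ) : (b * (d : ℤ)).natAbs = d := by
  rcases hb with rfl | rfl <;> simp

/-- The count of the section vanishes. -/
theorem count_zero (D : Ctx P 5 k M X Y a δ) {θ : IrrCharacter G} (hθ : θ ∈ Y) {v : G} (hv : orderOf v = 2)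
    {z : IrrCharacter G → ℤ} (hz : ∀ χ ∈ X.erase oneChar, (χ : G → ℂ) v = z χ) {zθ : ℤ}
    (hzθ : (θ : G → ℂ) v = zθ) :
    ((22256640 / k : ℕ) : ℤ) + ∑ χ ∈ X.erase oneChar,
        z χ * z χ * (((22256640 / k : ℕ) : ℤ) / (a χ * (charDegree (χ : G → ℂ) : ℤ))) =
      zθ * zθ * (((22256640 / k : ℕ) : ℤ) / (δ * (charDegree (θ : G → ℂ) : ℤ))) := by
  obtain ⟨y, hy⟩ := SmallOrderGraph.nonOne_nonempty P D.card
  have hv2 : v ^ 2 = 1 := by rw [← hv]; exact pow_orderOf_eq_one v
  have hsc := MTwentyThree.ByOrder.Eleven.section_count D.modular D.card D.pp D.exc_nonempty D.frob hy hv2 hθ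
  rw [Finset.sum_eq_zero fun w hw => Finset.card_eq_zero.2
      (MTwentyThree.ByOrder.Eleven.pairs_empty D.card D.index y.2 (mem_nonOne.1 hy) (by rw [← pow_two, hv2]) hw),
    Nat.cast_zero, mul_zero] at hsc
  have hS := (mul_eq_zero.1 hsc.symm).resolve_left (mul_ne_zero
    (pow_ne_zero _ (Nat.cast_ne_zero.2 (card_conjClass_ne_zero v)))
    (Nat.cast_ne_zero.2 (Finset.card_pos.2 ⟨1, MTwentyThree.ByOrder.Eleven.one_mem_regs _⟩).ne'))
  have hG' : Nat.card G = 11 * 22256640 := by rw [D.order]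
  have hquot : ∀ (χ : IrrCharacter G) (b : ℤ), b = 1 ∨ b = -1 → (χ ∈ X ∨ χ ∈ Y) →
      ((((22256640 / k : ℕ) : ℤ) / (b * (charDegree (χ : G → ℂ) : ℤ)) : ℤ) : ℂ) =
        (b : ℂ) * ((22256640 / k : ℕ) : ℂ) / (χ : G → ℂ) 1 := by
    intro χ b hb hχ
    obtain ⟨q, hq⟩ : charDegree (χ : G → ℂ) ∣ 22256640 / k :=
      hχ.elim (dvd_X D.card D.pp hG' D.cent hy) (dvd_Y D.card D.modular D.pp hG' D.cent hy)
    have hd0 : charDegree (χ : G → ℂ) ≠ 0 := (deg_pos χ.2).ne'
    rw [hq, val_one]
    rcases hb with rfl | rfl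
    · rw [one_mul, Nat.cast_mul, Int.mul_ediv_cancel_left _ (Int.natCast_ne_zero.2 hd0)]
      push_cast
      field_simp
    · rw [neg_one_mul, Nat.cast_mul, Int.ediv_neg, Int.mul_ediv_cancel_left _ (Int.natCast_ne_zero.2 hd0)]
      push_cast
      field_simp
  rw [← Finset.add_sum_erase X _ D.one_mem, D.one_sign] at hS
  apply (Int.cast_injective (α := ℂ))
  rw [Int.cast_add, Int.cast_sum, Int.cast_mul (zθ * zθ), hquot θ δ D.pp.sign (Or.inr hθ),
    Finset.sum_congr rfl (g := fun χ : IrrCharacter G => ((22256640 / k : ℕ) : ℂ) *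
      ((a χ : ℂ) * ((χ : G → ℂ) v) ^ 2 / (χ : G → ℂ) 1)) fun χ hχ => by
      rw [Int.cast_mul, hquot χ _ (D.pp.a_sign χ (Finset.mem_erase.1 hχ).2) (Or.inl (Finset.mem_erase.1 hχ).2),
        hz χ hχ]
      push_cast
      ring,
    ← Finset.mul_sum]
  simp only [oneChar, Int.cast_one, one_pow, mul_one, div_one, Int.cast_natCast] at hS ⊢
  rw [hzθ] at hS
  generalize ((22256640 / k : ℕ) : ℂ) = L at hS ⊢
  push_cast
  linear_combination L * hS

/-- The search excludes the values at the involution. -/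
theorem five_contra (D : Ctx P 5 k M X Y a δ) {θ : IrrCharacter G} (hθ : θ ∈ Y) {v f : G}
    (hvC : v ∈ Subgroup.centralizer ((P : Subgroup G) : Set G)) (hv : orderOf v = 2) (hf : orderOf f = 5)
    (hfv : f * v = v * f) {cdiv B R : ℕ} {seven : Bool}
    (hdiv : cdiv ∣ Nat.card (Subgroup.centralizer ({v} : Set G)))
    (hB : Nat.card (Subgroup.centralizer ({v} : Set G)) ≤ B) (hR : B < (R + 1) * (R + 1))
    (h7 : seven = true → 7 ∣ Nat.card (Subgroup.centralizer ({v} : Set G)))
    (hkill : killFive k (244823040 / cdiv) B R seven = true) : False := by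
  have hv11 : ¬ 11 ∣ orderOf v := by rw [hv]; norm_num
  have hex : ∀ χ : IrrCharacter G, ∃ z : ℤ, χ ≠ oneChar → (χ ∈ X ∨ χ ∈ Y) → (χ : G → ℂ) v = z ∧
      z.natAbs < charDegree (χ : G → ℂ) ∧ ((charDegree (χ : G → ℂ) : ℤ) - z) % 44 = 0 ∧
        (5 ∣ charDegree (χ : G → ℂ) → z % 5 = 0) := fun χ => by
    by_cases hc : χ ≠ oneChar ∧ (χ ∈ X ∨ χ ∈ Y)
    · obtain ⟨z, hz⟩ := value_facts D hvC hv hf hfv hc.1 hc.2
      exact ⟨z, fun _ _ => hz⟩
    · exact ⟨0, fun h1 h2 => absurd ⟨h1, h2⟩ hc⟩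
  choose z hz using hex
  have hzX : ∀ χ ∈ X.erase oneChar, (χ : G → ℂ) v = z χ := fun χ hχ =>
    (hz χ (Finset.mem_erase.1 hχ).1 (Or.inl (Finset.mem_erase.1 hχ).2)).1
  have hzθ := (hz θ (D.exc_ne hθ) (Or.inr hθ)).1
  have hY2 : Y.card = 2 := by have := D.exc; omega
  have hcol := (column_block D hθ hv11 hzX hzθ).trans (Int.ofNat_le.2 hB)
  rw [hY2] at hcol
  have hzok : ∀ χ, χ ≠ oneChar → (χ ∈ X ∨ χ ∈ Y) → z χ * z χ ≤ (B : ℤ) →
      zok (244823040 / cdiv) B (charDegree (χ : G → ℂ)) (z χ) = true := by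
    intro χ hne hχ hle
    obtain ⟨h1, h2, h3, h4⟩ := hz χ hne hχ
    refine zok_iff.2 ⟨h2, ?_, h3, ?_, h4⟩
    · rw [← Int.ofNat_le]; push_cast; rwa [← sq, sq_abs, sq]
    · have hd := Sections.class_dvd χ h1 hdiv
      rw [D.order] at hd
      exact Int.emod_eq_zero_of_dvd hd
  have hnn : ∀ χ, 0 ≤ z χ * z χ := fun χ => mul_self_nonneg _
  have hleX : ∀ χ ∈ X.erase oneChar, z χ * z χ ≤ (B : ℤ) := fun χ hχ => by
    have := Finset.single_le_sum (fun ψ _ => hnn ψ) hχ
    have := hnn θ
    push_cast at hcol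
    linarith
  have hleθ : z θ * z θ ≤ (B : ℤ) := by
    have := Finset.sum_nonneg (s := X.erase oneChar) fun ψ _ => hnn ψ
    have := hnn θ
    push_cast at hcol
    linarith
  -- the row
  have hsd : ∀ x ∈ (X.erase oneChar).val.map (fun χ => a χ * (charDegree (χ : G → ℂ) : ℤ)),
      x ∈ fiveVals k (244823040 / cdiv) B R 1 := by
    intro x hx
    obtain ⟨χ, hχ, rfl⟩ := Multiset.mem_map.1 hx
    refine mem_fiveVals hR (D.sdeg_X hχ) (z := z χ) ?_
    rw [natAbs_mul (D.pp.a_sign χ (Finset.mem_erase.1 hχ).2)]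
    exact hzok χ (Finset.mem_erase.1 hχ).1 (Or.inl (Finset.mem_erase.1 hχ).2) (hleX χ hχ)
  obtain ⟨l, hl, hls⟩ := mem_combs _ _ hsd
  have hcard : (X.erase oneChar).val.card = 4 := by
    change (X.erase oneChar).card = 4
    rw [Finset.card_erase_of_mem D.one_mem, D.pp.cardX]
  rw [Multiset.card_map, hcard] at hl
  obtain ⟨m, hm, hml⟩ := map_eq_list _ l _ hls.symm
  have hsum : ∀ F : IrrCharacter G → ℤ, ∑ χ ∈ X.erase oneChar, F χ = (m.map F).sum := fun F => by
    rw [Finset.sum_eq_multiset_sum, ← hm, Multiset.map_coe, Multiset.sum_coe]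
  have hy : δ * (charDegree (θ : G → ℂ) : ℤ) = 1 + l.sum := by
    rw [rel_one D.pp D.one_mem D.one_sign hθ, hsum, hml]
  have hys : δ * (charDegree (θ : G → ℂ) : ℤ) ∈ fiveVals k (244823040 / cdiv) B R 5 :=
    mem_fiveVals hR (D.sdeg_Y hθ) (z := z θ) (by
      rw [natAbs_mul D.pp.sign]; exact hzok θ (D.exc_ne hθ) (Or.inr hθ) hleθ)
  have hflag : (l.any flag || flag (-(1 + l.sum))) = true := by
    have hres : ∀ x : ℤ, (∀ r ∈ [0, 1], x % 23 ≠ r) → ∀ (b : ℤ) (d : ℕ), (b = 1 ∨ b = -1) → d % 23 ∈ res →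
        x = b * (d : ℤ) → flag x = true := by
      intro x hx b d hb hd e'
      subst e'
      simp only [res, List.mem_cons, List.not_mem_nil, or_false, forall_eq_or_imp, forall_eq, flag,
        decide_eq_true_eq] at hx hd ⊢
      rcases hb with rfl | rfl <;> omega
    rcases member_twentythree D hθ with ⟨χ, hχ, hr⟩ | hr
    · rw [Bool.or_eq_true, List.any_eq_true]
      refine Or.inl ⟨_, ?_, hres _ hr _ _ (D.pp.a_sign χ (Finset.mem_erase.1 hχ).2) (deg_res D.order χ) rfl⟩
      rw [← hml]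
      exact List.mem_map.2 ⟨χ, by rw [← Multiset.mem_coe, hm]; exact hχ, rfl⟩
    · rw [Bool.or_eq_true]
      refine Or.inr (hres _ (by rw [← hy]; exact hr) (-δ) _ (by rcases D.pp.sign with e' | e' <;> simp [e'])
        (deg_res D.order θ) (by rw [← hy]; ring))
  have hk := List.all_eq_true.1 (by simpa only [killFive] using hkill) l hl
  rw [Bool.or_eq_true, Bool.or_eq_true, Bool.not_eq_true', hflag, Bool.and_true,
    List.contains_iff_mem.2 (hy ▸ hys)] at hk
  -- the four characters
  have hlen : m.length = 4 := by rw [← Multiset.coe_card, hm, hcard]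
  match m, hlen, hm, hml, hsum with
  | [c₁, c₂, c₃, c₄], _, hm, hml, hsum =>
    have hmem : ∀ c ∈ [c₁, c₂, c₃, c₄], c ∈ X.erase oneChar := fun c hc => by
      show c ∈ (X.erase oneChar).val
      rw [← hm]; exact hc
    have hs : ∀ c ∈ [c₁, c₂, c₃, c₄], a c = 1 ∨ a c = -1 := fun c hc =>
      D.pp.a_sign c (Finset.mem_erase.1 (hmem c hc)).2
    have hok : ∀ c ∈ [c₁, c₂, c₃, c₄],
        zok (244823040 / cdiv) B (a c * (charDegree (c : G → ℂ) : ℤ)).natAbs (z c) = true := fun c hc => by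
      rw [natAbs_mul (hs c hc)]
      exact hzok c (Finset.mem_erase.1 (hmem c hc)).1 (Or.inl (Finset.mem_erase.1 (hmem c hc)).2)
        (hleX c (hmem c hc))
    have hokθ : zok (244823040 / cdiv) B (δ * (charDegree (θ : G → ℂ) : ℤ)).natAbs (z θ) = true := by
      rw [natAbs_mul D.pp.sign]; exact hzok θ (D.exc_ne hθ) (Or.inr hθ) hleθ
    have hT := count_zero D hθ hv hzX hzθ
    rw [hsum] at hT
    simp only [List.map_cons, List.map_nil, List.sum_cons, List.sum_nil, add_zero, ← add_assoc] at hT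
    rw [← hml, List.map_cons, List.map_cons, List.map_cons, List.map_cons, List.map_nil] at hk hy
    rw [← hy] at hk
    rcases hk with (h | h) | h
    · exact absurd h (by decide)
    · exact modKill_sound hR h hokθ (hok c₁ (by simp)) (hok c₂ (by simp)) (hok c₃ (by simp)) (hok c₄ (by simp)) hT
    refine killRow_sound hR h hokθ (hok c₁ (by simp)) (hok c₂ (by simp)) (hok c₃ (by simp)) (hok c₄ (by simp))
      ?_ ?_ hT ?_
    · have h2 := rel_erase D.pp D.one_mem D.one_sign hθ hv11
      rw [Finset.sum_congr rfl (g := fun χ => ((a χ * z χ : ℤ) : ℂ)) (fun χ hχ => by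
        rw [hzX χ hχ]; push_cast; ring), hzθ, ← Int.cast_sum, hsum] at h2
      simp only [List.map_cons, List.map_nil, List.sum_cons, List.sum_nil, add_zero, ← add_assoc] at h2
      rw [sv_mul D.pp.sign (d := charDegree (θ : G → ℂ)) (deg_pos θ.2),
        sv_mul (hs c₁ (by simp)) (d := charDegree (c₁ : G → ℂ)) (deg_pos c₁.2),
        sv_mul (hs c₂ (by simp)) (d := charDegree (c₂ : G → ℂ)) (deg_pos c₂.2),
        sv_mul (hs c₃ (by simp)) (d := charDegree (c₃ : G → ℂ)) (deg_pos c₃.2),
        sv_mul (hs c₄ (by simp)) (d := charDegree (c₄ : G → ℂ)) (deg_pos c₄.2)]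
      apply (Int.cast_injective (α := ℂ))
      push_cast at h2 ⊢
      linear_combination h2
    · rw [hsum] at hcol
      simp only [List.map_cons, List.map_nil, List.sum_cons, List.sum_nil, add_zero] at hcol
      rw [← Int.ofNat_le]
      push_cast
      simp only [← sq, sq_abs, Nat.cast_ofNat] at hcol ⊢
      linarith
    · intro hs7
      haveI : Fact (Nat.Prime 7) := ⟨by norm_num⟩
      obtain ⟨w, hw⟩ := exists_prime_orderOf_dvd_card' (G := Subgroup.centralizer ({v} : Set G)) 7 (h7 hs7)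
      obtain ⟨χ, hχ, hd7, h14⟩ := member_joint D hθ (q := 7) (by norm_num) (by norm_num) (fac_seven D.order)
        (fun g => no_seventyseven D.order g) (w := (w : G)) hv (by rw [Subgroup.orderOf_coe, hw])
        (Subgroup.mem_centralizer_singleton_iff.1 w.2)
      have hsev : ∀ c, c ≠ oneChar → (c ∈ X ∨ c ∈ Y) → c = χ →
          sevenOk (charDegree (c : G → ℂ)) (z c) = true := by
        rintro c hne hc rfl
        have h44 := (hz c hne hc).2.2.1
        have h14' := h14 (z c) (hz c hne hc).1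
        push_cast at h14'
        simp only [sevenOk, Bool.and_eq_true, bne_iff_ne, ne_eq, decide_eq_true_eq]
        exact ⟨fun e' => hd7 (Nat.dvd_of_mod_eq_zero e'), by omega⟩
      rcases hχ with hX | rfl
      · have hX' : χ ∈ [c₁, c₂, c₃, c₄] := by
          have h' : χ ∈ (X.erase oneChar).val := hX
          rw [← hm] at h'
          exact h'
        have h' := hsev χ (Finset.mem_erase.1 hX).1 (Or.inl (Finset.mem_erase.1 hX).2) rfl
        rw [← natAbs_mul (hs χ hX') (charDegree (χ : G → ℂ))] at h'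
        simp only [List.mem_cons, List.not_mem_nil, or_false] at hX'
        rcases hX' with rfl | rfl | rfl | rfl
        · exact Or.inr (Or.inl h')
        · exact Or.inr (Or.inr (Or.inl h'))
        · exact Or.inr (Or.inr (Or.inr (Or.inl h')))
        · exact Or.inr (Or.inr (Or.inr (Or.inr h')))
      · have h' := hsev χ (D.exc_ne hθ) (Or.inr hθ) rfl
        rw [← natAbs_mul D.pp.sign (charDegree (χ : G → ℂ))] at h'
        exact Or.inl h'

theorem five_two : ∀ C ∈ fiveCent, killFive 2 (244823040 / C.1) C.1 C.2 (C.1 % 7 == 0) = true := by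
  intro C hC
  rw [← List.take_append_drop 5 fiveCent, List.mem_append] at hC
  exact hC.elim (five_small C) (five_large C)

/-- The automiser is not of order five. -/
theorem not_five (D : Ctx P 5 k M X Y a δ) : False := by
  haveI : Fact (Nat.Prime 2) := ⟨Nat.prime_two⟩
  have hcase : k = 2 ∨ k = 24 ∨ k = 288 := by
    have := D.case_mem
    simp [cases] at this
    have := (not_linear D).1
    omega
  obtain ⟨θ, hθ⟩ := D.exc_nonempty
  have hmod : 2 ^ k.factorization 2 % 5 ≠ 1 := by
    have hfac : ∀ j m : ℕ, m % 2 = 1 → k = 2 ^ j * m → k.factorization 2 = j := by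
      intro j m hm hkm
      rw [hkm, Nat.factorization_mul (by positivity) (by omega), Nat.factorization_pow, Finsupp.add_apply,
        Finsupp.smul_apply, Nat.prime_two.factorization_self, Nat.factorization_eq_zero_of_not_dvd (by omega)]
      simp
    rcases hcase with h | h | h
    · rw [hfac 1 1 rfl h]; norm_num
    · rw [hfac 3 3 rfl h]; norm_num
    · rw [hfac 5 9 rfl h]; norm_num
  obtain ⟨T, v, f, -, hTC, hvT, hv, hf, hfv⟩ :=
    MTwentyTwo.ByOrder.exists_fixed P D.cent D.index (dvd_refl 5) (q := 2) (by norm_num) hmod D.k_ne_zero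
  have hvC := hTC hvT
  set C := Nat.card (Subgroup.centralizer ({v} : Set G))
  have hCd : C ∣ 10644480 := cent_invol D.order hv
  have hCle : C ≤ 10644480 := Nat.le_of_dvd (by norm_num) hCd
  obtain ⟨y, hy⟩ := SmallOrderGraph.nonOne_nonempty P D.card
  have m1 : ∀ x : G, x * v = v * x → orderOf x ∣ C := fun x hx =>
    (Subgroup.centralizer ({v} : Set G)).orderOf_dvd_natCard (Subgroup.mem_centralizer_singleton_iff.2 hx)
  have h110 : 110 ∣ C :=
    Nat.Coprime.mul_dvd_of_dvd_of_dvd (by norm_num : Nat.Coprime 10 11)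
      (Nat.Coprime.mul_dvd_of_dvd_of_dvd (by norm_num : Nat.Coprime 2 5) (hv ▸ m1 v rfl) (hf ▸ m1 f hfv))
      (Sections.order_eq D.card y.2 (mem_nonOne.1 hy) ▸ m1 _ (Subgroup.mem_centralizer_iff.1 hvC _ y.2))
  rcases hcase with h | h | h
  · subst h
    -- the normaliser centralises the involution
    have hN : Subgroup.normalizer ((P : Subgroup G) : Set G) ≤ Subgroup.centralizer ({v} : Set G) := by
      intro n hn
      set CP := Subgroup.centralizer ((P : Subgroup G) : Set G)
      have hvy : Commute v (y : G) := (Subgroup.mem_centralizer_iff.1 hvC _ y.2).symm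
      have hyC : (y : G) ∈ CP := D.frob.le_centralizer y.2
      haveI : IsCyclic CP := by
        refine isCyclic_of_orderOf_eq_card (⟨v * (y : G), mul_mem hvC hyC⟩ : CP) ?_
        rw [Subgroup.orderOf_mk, hvy.orderOf_mul_eq_mul_orderOf_of_coprime
          (by rw [hv, Sections.order_eq D.card y.2 (mem_nonOne.1 hy)]; norm_num), hv,
          Sections.order_eq D.card y.2 (mem_nonOne.1 hy), D.cent]
      have hc : n * v * n⁻¹ ∈ CP := by
        rw [Subgroup.mem_centralizer_iff]
        intro p hp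
        have hp' : n⁻¹ * p * n ∈ (P : Subgroup G) := by
          have := (Subgroup.mem_normalizer_iff.1 (inv_mem hn) p).1 hp
          rwa [inv_inv] at this
        have h' := Subgroup.mem_centralizer_iff.1 hvC _ hp'
        calc p * (n * v * n⁻¹) = n * ((n⁻¹ * p * n) * v) * n⁻¹ := by group
          _ = n * (v * (n⁻¹ * p * n)) * n⁻¹ := by rw [h']
          _ = n * v * n⁻¹ * p := by group
      have hv2 : v ^ 2 = 1 := by rw [← hv]; exact pow_orderOf_eq_one v
      have hle := IsCyclic.card_pow_eq_one_le (α := CP) (n := 2) (by norm_num)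
      have hsub : ({1, ⟨v, hvC⟩, ⟨n * v * n⁻¹, hc⟩} : Finset CP) ⊆
          Finset.univ.filter fun c : CP => c ^ 2 = 1 := by
        intro c hc'
        simp only [Finset.mem_insert, Finset.mem_singleton] at hc'
        rcases hc' with rfl | rfl | rfl
        · simp
        · simp [Subtype.ext_iff, hv2]
        · simp [Subtype.ext_iff, conj_pow, hv2]
      have h1 : (1 : CP) ≠ ⟨v, hvC⟩ := fun e' => by
        rw [Subtype.ext_iff] at e'
        simp only [Subgroup.coe_one] at e'
        rw [← e', orderOf_one] at hv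
        omega
      by_contra hne
      rw [Subgroup.mem_centralizer_singleton_iff] at hne
      have h2 : (⟨v, hvC⟩ : CP) ≠ ⟨n * v * n⁻¹, hc⟩ := fun e' => hne (by
        rw [Subtype.ext_iff] at e'
        exact (mul_inv_eq_iff_eq_mul.1 e'.symm))
      have h3 : (1 : CP) ≠ ⟨n * v * n⁻¹, hc⟩ := fun e' => h1 (by
        rw [Subtype.ext_iff] at e' ⊢
        simp only [Subgroup.coe_one] at e' ⊢
        exact (conj_eq_one_iff.1 e'.symm).symm)
      have := (Finset.card_le_card hsub).trans hle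
      rw [Finset.card_insert_of_notMem (by simp [h1, h3]), Finset.card_insert_of_notMem (by simp [h2]),
        Finset.card_singleton] at this
      omega
    obtain ⟨f', hf1, hf2⟩ := MTwentyThree.ByOrder.Eleven.cent_split (P := P) (H := Subgroup.centralizer ({v} : Set G))
      (fun x hx => Subgroup.mem_centralizer_singleton_iff.2 (Subgroup.mem_centralizer_iff.1 hvC x hx))
    rw [inf_eq_left.2 hN, ← D.frob.card_centralizer_inf, D.cent] at hf1
    have hmemC : C ∈ fiveCent.map Prod.fst := by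
      have h96 : f' ∣ 96768 := Nat.dvd_of_mul_dvd_mul_left (by norm_num : 0 < 110) (by
        rw [show 110 * 96768 = 10644480 from rfl, show 110 * f' = C from hf1]; exact hCd)
      have hf' : f' ∈ (List.range 11).flatMap (fun a => (List.range 4).flatMap fun b =>
          (List.range 2).map fun d => 2 ^ a * 3 ^ b * 7 ^ d) := by
        have h' := h96
        rw [show (96768 : ℕ) = 2 ^ 9 * 3 ^ 3 * 7 ^ 1 by norm_num] at h'
        obtain ⟨x', d', hx, hd, rfl⟩ := Nat.dvd_mul.1 h'
        obtain ⟨a', b', ha, hb, rfl⟩ := Nat.dvd_mul.1 hx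
        obtain ⟨i, hi, rfl⟩ := (Nat.dvd_prime_pow Nat.prime_two).1 ha
        obtain ⟨j, hj, rfl⟩ := (Nat.dvd_prime_pow (by norm_num)).1 hb
        obtain ⟨l, hl, rfl⟩ := (Nat.dvd_prime_pow (by norm_num)).1 hd
        simp only [List.mem_flatMap, List.mem_map, List.mem_range]
        exact ⟨i, by omega, j, by omega, l, by omega, rfl⟩
      rw [← show 110 * f' = C from hf1]
      exact fiveCent_mem f' hf' hf2 (Nat.mod_eq_zero_of_dvd h96)
    obtain ⟨⟨C', R⟩, hC', hCeq⟩ := List.mem_map.1 hmemC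
    have h2 := five_two _ hC'
    have hb2 := fiveCent_bound _ hC'
    dsimp only at hCeq h2 hb2
    exact five_contra D hθ hvC hv hf hfv (cdiv := C') (B := C') (R := R) (seven := C' % 7 == 0)
      (dvd_of_eq hCeq) (le_of_eq hCeq.symm) hb2
      (fun h' => (Nat.dvd_of_mod_eq_zero (beq_iff_eq.1 h')).trans (dvd_of_eq hCeq)) h2
  all_goals
    subst h
    refine five_contra D hθ hvC hv hf hfv (seven := false) h110 hCle (R := 3262) (by norm_num)
      (fun h' => Bool.noConfusion h') ?_
    rw [show (244823040 : ℕ) / 110 = 2225664 by norm_num]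
    exact five_big _ (by simp)

end Cfsg.Agent.MTwentyFour.ByOrder.Eleven
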