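import Cfsg.Agent.Lib.Spor.MTwentyFourOrder.SylowElevenArith

/-!
Numerical facts for the Sylow subgroup of order eleven with automiser of order five, in a group of the order of the
Mathieu group of degree twenty-four: the search over the rows of the principal block with their values at an
involution of the centraliser.
-/

set_option autoImplicit false
set_option maxRecDepth 100000

namespace Cfsg.Agent.MTwentyFour.ByOrder.Eleven

/-- the conditions on the value at the involution of a character of the given degree -/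
def zok (cl B d : ℕ) (z : ℤ) : Bool :=
  decide (z.natAbs < d) && decide (z.natAbs * z.natAbs ≤ B) && decide (((d : ℤ) - z) % 44 = 0) &&
    decide (((cl : ℤ) * z) % (d : ℤ) = 0) && (d % 5 != 0 || decide (z % 5 = 0))

theorem zok_iff {cl B d : ℕ} {z : ℤ} :
    zok cl B d z = true ↔ z.natAbs < d ∧ z.natAbs * z.natAbs ≤ B ∧ ((d : ℤ) - z) % 44 = 0 ∧
      ((cl : ℤ) * z) % (d : ℤ) = 0 ∧ (5 ∣ d → z % 5 = 0) := by
  simp only [zok, Bool.and_eq_true, Bool.or_eq_true, decide_eq_true_eq, bne_iff_ne, ne_eq,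
    Nat.dvd_iff_mod_eq_zero, and_assoc, imp_iff_not_or]

/-- the candidates for the value, by an upper bound for their absolute value -/
def zlist (cl B R d : ℕ) : List ℤ :=
  ((List.range (2 * (R.min d / 44 + 1) + 1)).map fun i : ℕ =>
    ((d % 44 : ℕ) : ℤ) + 44 * ((i : ℤ) - ((R.min d / 44 + 1 : ℕ) : ℤ))).filter (zok cl B d)

theorem mem_zlist {cl B R d : ℕ} (hR : B < (R + 1) * (R + 1)) {z : ℤ} (h : zok cl B d z = true) :
    z ∈ zlist cl B R d := by
  obtain ⟨h1, h2, h3, -, -⟩ := zok_iff.1 h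
  have hzR : z.natAbs ≤ R := by
    by_contra hb
    have : (R + 1) * (R + 1) ≤ z.natAbs * z.natAbs := Nat.mul_le_mul (by omega) (by omega)
    omega
  have hzm : z.natAbs ≤ R.min d := le_min hzR h1.le
  refine List.mem_filter.2 ⟨List.mem_map.2 ⟨((z - ((d % 44 : ℕ) : ℤ)) / 44 + ((R.min d / 44 + 1 : ℕ) : ℤ)).toNat,
    List.mem_range.2 ?_, ?_⟩, h⟩
  · generalize R.min d = m at hzm ⊢
    omega
  · generalize R.min d = m at hzm ⊢
    omega

/-- the lists of the given length with entries in the given order -/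
def combs {A : Type*} : List A → ℕ → List (List A)
  | [], 0 => [[]]
  | [], _ + 1 => []
  | v :: vs, m => (List.range (m + 1)).flatMap fun c => (combs vs (m - c)).map fun l => List.replicate c v ++ l

theorem mem_combs {A : Type*} [DecidableEq A] : ∀ (vals : List A) (s : Multiset A), (∀ x ∈ s, x ∈ vals) →
    ∃ l ∈ combs vals (Multiset.card s), (l : Multiset A) = s
  | [], s, h => by
    have hs : s = 0 := Multiset.eq_zero_of_forall_notMem fun x hx => by simpa using h x hx
    exact ⟨[], by simp [hs, combs], by simp [hs]⟩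
  | v :: vs, s, h => by
    have h1 := Multiset.filter_add_not (fun x => v = x) s
    rw [Multiset.filter_eq] at h1
    have h2 := congrArg Multiset.card h1
    rw [Multiset.card_add, Multiset.card_replicate] at h2
    obtain ⟨l, hl, hls⟩ := mem_combs vs (s.filter fun x => ¬ v = x) fun x hx => by
      obtain ⟨hx1, hx2⟩ := Multiset.mem_filter.1 hx
      exact (List.mem_cons.1 (h x hx1)).resolve_left (Ne.symm hx2)
    refine ⟨List.replicate (s.count v) v ++ l, List.mem_flatMap.2 ⟨s.count v,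
      List.mem_range.2 (Nat.lt_succ_of_le (Multiset.count_le_card v s)), List.mem_map.2 ⟨l, ?_, rfl⟩⟩, ?_⟩
    · rwa [show s.card - s.count v = (s.filter fun x => ¬ v = x).card by omega]
    · rw [← Multiset.coe_add, hls, Multiset.coe_replicate, h1]

/-- the signed degrees for which the block of twenty-three is not met trivially -/
def flag (x : ℤ) : Bool := decide (x % 23 = 22 ∨ x % 23 = 11 ∨ x % 23 = 12)

/-- a value congruent to the degree modulo twenty-eight, the degree prime to seven -/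
def sevenOk (d : ℕ) (z : ℤ) : Bool := d % 7 != 0 && decide (((d : ℤ) - z) % 28 = 0)

/-- the signed value -/
def sv (x z : ℤ) : ℤ := if 0 < x then z else -z

/-- the last step of the search: the value of the last character is determined by the relation -/
def lastOk (L : ℤ) (cl B : ℕ) (seven : Bool) (y zy x₁ z₁ x₂ z₂ x₃ z₃ x₄ : ℤ) : Bool :=
  let z₄ := sv x₄ (sv y zy - 1 - sv x₁ z₁ - sv x₂ z₂ - sv x₃ z₃)
  !(zok cl B x₄.natAbs z₄ &&
    decide (1 + 2 * (zy.natAbs * zy.natAbs) + z₁.natAbs * z₁.natAbs + z₂.natAbs * z₂.natAbs +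
      z₃.natAbs * z₃.natAbs + z₄.natAbs * z₄.natAbs ≤ B) &&
    decide (L + z₁ * z₁ * (L / x₁) + z₂ * z₂ * (L / x₂) + z₃ * z₃ * (L / x₃) + z₄ * z₄ * (L / x₄) =
      zy * zy * (L / y)) &&
    (!seven || sevenOk y.natAbs zy || sevenOk x₁.natAbs z₁ || sevenOk x₂.natAbs z₂ || sevenOk x₃.natAbs z₃ ||
      sevenOk x₄.natAbs z₄))

/-- the search over the values of a row -/
def killRow (L : ℤ) (cl B R : ℕ) (seven : Bool) : ℤ → List ℤ → Bool
  | y, [x₁, x₂, x₃, x₄] =>
    (zlist cl B R y.natAbs).all fun zy => decide (B < 1 + 2 * (zy.natAbs * zy.natAbs)) ||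
      (zlist cl B R x₁.natAbs).all fun z₁ =>
        decide (B < 1 + 2 * (zy.natAbs * zy.natAbs) + z₁.natAbs * z₁.natAbs) ||
        (zlist cl B R x₂.natAbs).all fun z₂ =>
          decide (B < 1 + 2 * (zy.natAbs * zy.natAbs) + z₁.natAbs * z₁.natAbs + z₂.natAbs * z₂.natAbs) ||
          (zlist cl B R x₃.natAbs).all fun z₃ =>
            decide (B < 1 + 2 * (zy.natAbs * zy.natAbs) + z₁.natAbs * z₁.natAbs + z₂.natAbs * z₂.natAbs +
              z₃.natAbs * z₃.natAbs) ||
            lastOk L cl B seven y zy x₁ z₁ x₂ z₂ x₃ z₃ x₄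
  | _, _ => true

theorem killRow_sound {L : ℤ} {cl B R : ℕ} {seven : Bool} (hR : B < (R + 1) * (R + 1)) {y x₁ x₂ x₃ x₄ : ℤ}
    (hk : killRow L cl B R seven y [x₁, x₂, x₃, x₄] = true) {zy z₁ z₂ z₃ z₄ : ℤ}
    (hy : zok cl B y.natAbs zy = true) (h₁ : zok cl B x₁.natAbs z₁ = true) (h₂ : zok cl B x₂.natAbs z₂ = true)
    (h₃ : zok cl B x₃.natAbs z₃ = true) (h₄ : zok cl B x₄.natAbs z₄ = true)
    (hrel : sv y zy = 1 + sv x₁ z₁ + sv x₂ z₂ + sv x₃ z₃ + sv x₄ z₄)
    (hcol : 1 + 2 * (zy.natAbs * zy.natAbs) + z₁.natAbs * z₁.natAbs + z₂.natAbs * z₂.natAbs +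
      z₃.natAbs * z₃.natAbs + z₄.natAbs * z₄.natAbs ≤ B)
    (hT : L + z₁ * z₁ * (L / x₁) + z₂ * z₂ * (L / x₂) + z₃ * z₃ * (L / x₃) + z₄ * z₄ * (L / x₄) =
      zy * zy * (L / y))
    (h7 : seven = true → sevenOk y.natAbs zy = true ∨ sevenOk x₁.natAbs z₁ = true ∨ sevenOk x₂.natAbs z₂ = true ∨
      sevenOk x₃.natAbs z₃ = true ∨ sevenOk x₄.natAbs z₄ = true) : False := by
  simp only [killRow, List.all_eq_true, Bool.or_eq_true, decide_eq_true_eq] at hk
  have k1 := (hk zy (mem_zlist hR hy)).resolve_left (by omega)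
  have k2 := (k1 z₁ (mem_zlist hR h₁)).resolve_left (by omega)
  have k3 := (k2 z₂ (mem_zlist hR h₂)).resolve_left (by omega)
  have k4 := (k3 z₃ (mem_zlist hR h₃)).resolve_left (by omega)
  have e4 : sv x₄ (sv y zy - 1 - sv x₁ z₁ - sv x₂ z₂ - sv x₃ z₃) = z₄ := by
    rw [hrel]
    by_cases hx : 0 < x₄ <;> simp [sv, hx] <;> ring
  simp only [lastOk, e4, h₄, hcol, hT, decide_true, Bool.true_and, Bool.not_eq_true', Bool.or_eq_false_iff,
    Bool.not_eq_false'] at k4
  obtain ⟨⟨⟨⟨⟨hs, q0⟩, q1⟩, q2⟩, q3⟩, q4⟩ := k4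
  rcases h7 hs with h | h | h | h | h <;> simp_all

/-- the residues of a weighted square, as the set of bits of a natural number added to the sums -/
def modStep (L : ℤ) (cl B R : ℕ) (x : ℤ) (b : ℕ) : ℕ :=
  (zlist cl B R x.natAbs).foldl (fun acc z => acc ||| (b <<< ((z * z * (L / x)) % 256).toNat)) 0

theorem modStep_mem {L : ℤ} {cl B R : ℕ} (hR : B < (R + 1) * (R + 1)) {x z : ℤ}
    (hz : zok cl B x.natAbs z = true) {b n : ℕ} (hb : b.testBit n = true) :
    (modStep L cl B R x b).testBit (n + ((z * z * (L / x)) % 256).toNat) = true := by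
  refine testBit_foldl b _ (fun z : ℤ => ((z * z * (L / x)) % 256).toNat) _ _ (Or.inr ⟨z, mem_zlist hR hz, ?_⟩)
  rw [Nat.testBit_shiftLeft, Nat.add_sub_cancel, hb, Bool.and_true, decide_eq_true_eq]
  omega

/-- Is the relation of the count impossible modulo two hundred and fifty-six? -/
def modKill (L : ℤ) (cl B R : ℕ) : ℤ → List ℤ → Bool
  | y, [x₁, x₂, x₃, x₄] =>
    let s := modStep L cl B R x₄ (modStep L cl B R x₃ (modStep L cl B R x₂ (modStep L cl B R x₁ 1)))
    (zlist cl B R y.natAbs).all fun zy =>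
      (List.range 5).all fun j => !s.testBit (((zy * zy * (L / y) - L) % 256).toNat + 256 * j)
  | _, _ => false

theorem modKill_sound {L : ℤ} {cl B R : ℕ} (hR : B < (R + 1) * (R + 1)) {y x₁ x₂ x₃ x₄ : ℤ}
    (hk : modKill L cl B R y [x₁, x₂, x₃, x₄] = true) {zy z₁ z₂ z₃ z₄ : ℤ}
    (hy : zok cl B y.natAbs zy = true) (h₁ : zok cl B x₁.natAbs z₁ = true) (h₂ : zok cl B x₂.natAbs z₂ = true)
    (h₃ : zok cl B x₃.natAbs z₃ = true) (h₄ : zok cl B x₄.natAbs z₄ = true)
    (hT : L + z₁ * z₁ * (L / x₁) + z₂ * z₂ * (L / x₂) + z₃ * z₃ * (L / x₃) + z₄ * z₄ * (L / x₄) =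
      zy * zy * (L / y)) : False := by
  have hbit := modStep_mem (L := L) hR h₄ (modStep_mem (L := L) hR h₃ (modStep_mem (L := L) hR h₂
    (modStep_mem (L := L) hR h₁ (b := 1) (n := 0) (by simp))))
  simp only [modKill, List.all_eq_true, List.mem_range, Bool.not_eq_true'] at hk
  have key : ∀ j < 5, _ := hk zy (mem_zlist hR hy)
  set a₁ := z₁ * z₁ * (L / x₁)
  set a₂ := z₂ * z₂ * (L / x₂)
  set a₃ := z₃ * z₃ * (L / x₃)
  set a₄ := z₄ * z₄ * (L / x₄)
  set c := zy * zy * (L / y)
  have h1 := key ((0 + (a₁ % 256).toNat + (a₂ % 256).toNat + (a₃ % 256).toNat + (a₄ % 256).toNat) / 256)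
    (by omega)
  rw [show ((c - L) % 256).toNat + 256 * ((0 + (a₁ % 256).toNat + (a₂ % 256).toNat + (a₃ % 256).toNat +
      (a₄ % 256).toNat) / 256) =
    0 + (a₁ % 256).toNat + (a₂ % 256).toNat + (a₃ % 256).toNat + (a₄ % 256).toNat by omega, hbit] at h1
  exact Bool.false_ne_true h1.symm

/-- the signed degrees with a possible value, by increasing absolute value -/
def fiveVals (k cl B R : ℕ) (r : ℤ) : List ℤ :=
  ((sdeg 11 (degs k) r).filter fun x => !(zlist cl B R x.natAbs).isEmpty).insertionSort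
    fun a b => a.natAbs ≤ b.natAbs

theorem mem_fiveVals {k cl B R : ℕ} (hR : B < (R + 1) * (R + 1)) {r x : ℤ} (hx : x ∈ sdeg 11 (degs k) r)
    {z : ℤ} (hz : zok cl B x.natAbs z = true) : x ∈ fiveVals k cl B R r := by
  refine (List.mem_insertionSort _).2 (List.mem_filter.2 ⟨hx, ?_⟩)
  have hm := mem_zlist hR hz
  cases h : zlist cl B R x.natAbs with
  | nil => rw [h] at hm; simp at hm
  | cons => rfl

/-- the search over the rows -/
def killFive (k cl B R : ℕ) (seven : Bool) : Bool :=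
  let ys := fiveVals k cl B R 5
  (combs (fiveVals k cl B R 1) 4).all fun l =>
    !(ys.contains (1 + l.sum) && (l.any flag || flag (-(1 + l.sum)))) ||
      modKill (22256640 / k : ℕ) cl B R (1 + l.sum) l ||
      killRow (22256640 / k : ℕ) cl B R seven (1 + l.sum) l

/-- the orders of the centraliser of the involution when the index of the centraliser is two -/
def fiveCent : List (ℕ × ℕ) :=
  [(110, 10), (1320, 36), (6160, 78), (15840, 125), (73920, 271), (190080, 435), (887040, 941), (10644480, 3262)]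

theorem fiveCent_mem : ∀ f ∈ (List.range 11).flatMap (fun a => (List.range 4).flatMap fun b =>
    (List.range 2).map fun d => 2 ^ a * 3 ^ b * 7 ^ d), f % 11 = 1 → 96768 % f = 0 →
      110 * f ∈ fiveCent.map Prod.fst := by
  decide +kernel

theorem fiveCent_bound : ∀ C ∈ fiveCent, C.1 < (C.2 + 1) * (C.2 + 1) := by decide +kernel

end Cfsg.Agent.MTwentyFour.ByOrder.Eleven
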