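import Cfsg.Agent.Lib.Spor.MTwentyFourOrder.SylowElevenCtx
import Cfsg.Agent.Lib.Char.BSW.Eqs
import Cfsg.Agent.Lib.Char.BlockInter

/-!
The principal block at eleven seen from an involution of the centraliser, from an element of order twenty-three and
from the elements of order five and seven.
-/

set_option autoImplicit false
set_option linter.unusedSectionVars false
set_option maxHeartbeats 1000000

namespace Cfsg.Agent.MTwentyFour.ByOrder.Eleven

open Cfsg Cfsg.Agent.Char Cfsg.Agent.Small.Order459648 Cfsg.Agent.Char.PrimeSylowCount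
open Cfsg.Agent.MTwelve.OrderFront (val_one mult_nat)
open Cfsg.Agent.MTwentyFour.ByOrder (na)
open scoped ComplexConjugate Classical

universe u

variable {G : Type u} [Group G] [Fintype G] [IsSimpleGroup G]

local instance fact_elevenInvol : Fact (Nat.Prime 11) := ⟨by norm_num⟩
local instance fact_twentyThreeInvol : Fact (Nat.Prime 23) := ⟨by norm_num⟩

variable {P : Sylow 11 G} {e k : ℕ} {M : Ideal AlgInt} {X Y : Finset (IrrCharacter G)}
  {a : IrrCharacter G → ℤ} {δ : ℤ}

/-- Twenty-three divides the centraliser of no involution. -/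
theorem cent_invol (hG : Nat.card G = 244823040) {v : G} (hv : orderOf v = 2) :
    Nat.card (Subgroup.centralizer ({v} : Set G)) ∣ 10644480 := by
  set C := Nat.card (Subgroup.centralizer ({v} : Set G))
  have h := hG ▸ Subgroup.card_subgroup_dvd_card (Subgroup.centralizer ({v} : Set G))
  rw [show 244823040 = 23 * 10644480 from rfl] at h
  refine ((show Nat.Prime 23 by norm_num).coprime_iff_not_dvd.2 fun h23 => ?_).symm.dvd_of_dvd_mul_left h
  obtain ⟨w, hw⟩ := exists_prime_orderOf_dvd_card' (G := Subgroup.centralizer ({v} : Set G)) 23 h23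
  have hc : Commute v (w : G) := (Subgroup.mem_centralizer_singleton_iff.1 w.2).symm
  obtain ⟨R, hR, hRC, -⟩ := exists_twentythree hG
  have := Sections.dvd_of_mixed hR (k := 1) (by rw [mul_one]; exact hRC) (q := 2) Nat.prime_two (by norm_num)
    (g := v * (w : G)) (by
      rw [hc.orderOf_mul_eq_mul_orderOf_of_coprime (by rw [hv, Subgroup.orderOf_coe, hw]; norm_num), hv,
        Subgroup.orderOf_coe, hw])
  norm_num at this

/-- The part of the order at five is five. -/
theorem fac_five (hG : Nat.card G = 244823040) : (Nat.card G).factorization 5 = 1 := by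
  rw [hG, show (244823040 : ℕ) = 5 * 48964608 from rfl, Nat.factorization_mul (by norm_num) (by norm_num),
    Finsupp.add_apply, Nat.Prime.factorization_self (by norm_num),
    Nat.factorization_eq_zero_of_not_dvd (by norm_num)]

/-- The part of the order at seven is seven. -/
theorem fac_seven (hG : Nat.card G = 244823040) : (Nat.card G).factorization 7 = 1 := by
  rw [hG, show (244823040 : ℕ) = 7 * 34974720 from rfl, Nat.factorization_mul (by norm_num) (by norm_num),
    Finsupp.add_apply, Nat.Prime.factorization_self (by norm_num),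
    Nat.factorization_eq_zero_of_not_dvd (by norm_num)]

/-- The values at an involution of the centraliser commuting with an element of order five. -/
theorem value_facts (D : Ctx P e k M X Y a δ) {v f : G}
    (hvC : v ∈ Subgroup.centralizer ((P : Subgroup G) : Set G)) (hv : orderOf v = 2) (hf : orderOf f = 5)
    (hfv : f * v = v * f) {χ : IrrCharacter G} (hne : χ ≠ oneChar) (hχ : χ ∈ X ∨ χ ∈ Y) :
    ∃ z : ℤ, (χ : G → ℂ) v = z ∧ z.natAbs < charDegree (χ : G → ℂ) ∧
      ((charDegree (χ : G → ℂ) : ℤ) - z) % 44 = 0 ∧ (5 ∣ charDegree (χ : G → ℂ) → z % 5 = 0) := by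
  obtain ⟨z, hz, h4, hlt⟩ := SmallOrderGraph.invol_value (na D.order) hne hv
  obtain ⟨y, hy⟩ := SmallOrderGraph.nonOne_nonempty P D.card
  have h22 := Sections.invol_congr D.modular D.frob D.card ((D.pp.mem_iff χ).2 hχ) y.2 (mem_nonOne.1 hy)
    (by norm_num) hv (Subgroup.mem_centralizer_iff.1 hvC _ y.2).symm hz
  refine ⟨z, hz, hlt, by push_cast at h22; omega, fun h5 => ?_⟩
  set g := v * f
  have hc : Commute v f := hfv.symm
  have hg : orderOf g = 10 := by
    rw [hc.orderOf_mul_eq_mul_orderOf_of_coprime (by rw [hv, hf]; norm_num), hv, hf]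
  obtain ⟨T, hT⟩ := mult_nat (irr_isCharacter χ.2) (n := 10) (by norm_num) (hg ▸ pow_orderOf_eq_one g)
    (ζ := 1) (one_pow _)
  have hvan : ∀ i < 10, i ≠ 0 → i ≠ 5 → (χ : G → ℂ) (g ^ i) = 0 := fun i hi h0 hi5 => by
    refine BSW.defect_zero_vanish (p := 5) (by norm_num) ?_ ?_
    · rw [fac_five D.order, pow_one, ← charDegree_eq_deg]; exact h5
    · rw [orderOf_pow, hg]
      have h : ∀ i < 10, i ≠ 0 → i ≠ 5 → 5 ∣ 10 / Nat.gcd 10 i := by decide +kernel
      exact h i hi h0 hi5
  simp only [one_pow, one_mul] at hT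
  rw [← Finset.sum_subset (s₁ := {0, 5}) (by decide) (fun i hi hni => hvan i (Finset.mem_range.1 hi)
    (by simp at hni; exact hni.1) (by simp at hni; exact hni.2)), Finset.sum_pair (by norm_num), pow_zero, val_one,
    show g ^ 5 = v by
      rw [hc.mul_pow, ← hf, pow_orderOf_eq_one, mul_one, hf, show (5 : ℕ) = 2 * 2 + 1 from rfl, pow_succ, pow_mul,
        ← hv, pow_orderOf_eq_one, one_pow, one_mul], hz] at hT
  have h10 : (charDegree (χ : G → ℂ) : ℤ) + z = 10 * T := by exact_mod_cast hT
  omega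

/-- Some member of the block meets the block of twenty-three with the sign opposite to the trivial character. -/
theorem member_twentythree (D : Ctx P e k M X Y a δ) {θ : IrrCharacter G} (hθ : θ ∈ Y) :
    (∃ χ ∈ X.erase oneChar, ∀ r ∈ [0, 1], (a χ * (charDegree (χ : G → ℂ) : ℤ)) % 23 ≠ r) ∨
      ∀ r ∈ [0, 1], (-(δ * (charDegree (θ : G → ℂ) : ℤ))) % 23 ≠ r := by
  obtain ⟨R, hR, hRC, he⟩ := exists_twentythree D.order
  obtain ⟨M', X', Y', a', δ', h', hvan, hdiv⟩ := SmallOrderGraph.exists_data R hR he hRC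
  obtain ⟨w, hw⟩ := SmallOrderGraph.nonOne_nonempty R hR
  have hwo : ¬ 11 ∣ orderOf (w : G) := by
    rw [Sections.order_eq hR w.2 (mem_nonOne.1 hw)]; norm_num
  have key : ∀ (χ : IrrCharacter G) (b : ℤ), (b = 1 ∨ b = -1) →
      (∃ r ∈ [0, 1], (b * (charDegree (χ : G → ℂ) : ℤ)) % 23 = r) →
        ∃ n : ℕ, (b : ℂ) * (χ : G → ℂ) (w : G) = n := by
    intro χ b hb hr
    simp only [List.mem_cons, List.not_mem_nil, or_false, exists_eq_or_imp, exists_eq_left] at hr
    have hY : χ ∉ Y' := fun h => by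
      have h2 := (h'.congrY χ h).eq
      rcases h'.sign with e' | e' <;> rcases hb with rfl | rfl <;> rw [e'] at h2 <;> omega
    by_cases hX : χ ∈ X'
    · refine ⟨1, ?_⟩
      have h2 := (h'.a_congr χ hX).eq
      rw [h'.a_val χ hX w hw]
      rcases h'.a_sign χ hX with e' | e' <;> rcases hb with rfl | rfl <;> rw [e'] at h2 ⊢ <;>
        first | omega | norm_num
    · exact ⟨0, by rw [hvan χ hX hY w hw]; simp⟩
  by_contra hno
  push Not at hno
  obtain ⟨hnX, hnY⟩ := hno
  obtain ⟨c, hc⟩ := key θ (-δ) (by rcases D.pp.sign with e' | e' <;> simp [e'])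
    (by obtain ⟨r, hr, e'⟩ := hnY; exact ⟨r, hr, by rw [neg_mul]; exact e'⟩)
  choose! n hn using fun χ (hχ : χ ∈ X.erase oneChar) => key χ (a χ) (D.pp.a_sign χ (Finset.mem_erase.1 hχ).2) (hnX χ hχ)
  have h2 := rel_erase D.pp D.one_mem D.one_sign hθ hwo
  rw [Finset.sum_congr rfl hn, ← Nat.cast_sum] at h2
  push_cast at hc
  have h3 : ((1 + ∑ χ ∈ X.erase oneChar, n χ + c : ℕ) : ℂ) = 0 := by
    push_cast
    push_cast at h2
    linear_combination -h2 - hc
  rw [Nat.cast_eq_zero] at h3
  omega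

/-- Some member of the block lies in the principal block of another prime, with value congruent to the degree. -/
theorem member_joint (D : Ctx P e k M X Y a δ) {θ : IrrCharacter G} (hθ : θ ∈ Y) {q : ℕ} [Fact q.Prime]
    (hq2 : q ≠ 2) (hq11 : q ≠ 11) (hfac : (Nat.card G).factorization q = 1)
    (hno : ∀ g : G, ¬ q * 11 ∣ orderOf g) {v w : G} (hv : orderOf v = 2) (hw : orderOf w = q)
    (hc : w * v = v * w) :
    ∃ χ, ((χ ∈ X.erase oneChar) ∨ χ = θ) ∧ ¬ q ∣ charDegree (χ : G → ℂ) ∧
      ∀ z : ℤ, (χ : G → ℂ) v = z → ((2 * q : ℕ) : ℤ) ∣ (charDegree (χ : G → ℂ) : ℤ) - z := by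
  have hq : q.Prime := Fact.out
  obtain ⟨Q, hwQ⟩ := (IsPGroup.of_card (p := q) (n := 1)
    (by rw [Nat.card_zpowers, hw, pow_one] : Nat.card (Subgroup.zpowers w) = q ^ 1)).exists_le_sylow
  have hwQ' : w ∈ (Q : Subgroup G) := hwQ (Subgroup.mem_zpowers w)
  have hQ : Nat.card Q = q := by rw [Q.card_eq_multiplicity, hfac, pow_one]
  have hw1 : w ≠ 1 := fun h => by rw [h, orderOf_one] at hw; exact hq.ne_one hw.symm
  obtain ⟨M', hM'⟩ := exists_pModular hq
  have hf := frobSylow_of_prime hQ
  have hrel := Sections.avg_relation hM' hf hwQ' hw1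
    (Sections.regular_of_no_mixed hQ hwQ' hw1 (by norm_num) (Ne.symm hq11) hno)
    (fun g hg => D.pp.rel θ hθ g hg)
  by_contra hall
  push Not at hall
  have hzero : ∀ χ, (χ ∈ X.erase oneChar ∨ χ = θ) →
      (if χ ∈ principalBlock M' G then (χ : G → ℂ) w else 0) = 0 := by
    intro χ hχ
    split
    · rename_i hb
      by_contra hne
      have hnd : ¬ q ∣ charDegree (χ : G → ℂ) := fun hd =>
        hne (BSW.defect_zero_vanish hq (by rw [hfac, pow_one, ← charDegree_eq_deg]; exact hd) (by rw [hw]))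
      obtain ⟨z, hz, hnz⟩ := hall χ hχ hnd
      exact hnz (Sections.invol_congr hM' hf hQ hb hwQ' hw1 hq2 hv hc.symm hz)
    · rfl
  rw [hzero θ (Or.inr rfl), ← Finset.add_sum_erase X _ D.one_mem, D.one_sign,
    Finset.sum_eq_zero fun χ hχ => by rw [hzero χ (Or.inl hχ), mul_zero],
    if_pos (show (oneChar : IrrCharacter G) ∈ principalBlock M' G from one_mem_principal hM')] at hrel
  simp [oneChar] at hrel

/-- The column of the involution on the block. -/
theorem column_block (D : Ctx P e k M X Y a δ) {θ : IrrCharacter G} (hθ : θ ∈ Y) {v : G}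
    (hv : ¬ 11 ∣ orderOf v) {z : IrrCharacter G → ℤ} (hz : ∀ χ ∈ X.erase oneChar, (χ : G → ℂ) v = z χ)
    {zθ : ℤ} (hzθ : (θ : G → ℂ) v = zθ) :
    1 + (∑ χ ∈ X.erase oneChar, z χ * z χ) + Y.card * (zθ * zθ) ≤
      (Nat.card (Subgroup.centralizer ({v} : Set G)) : ℤ) := by
  have hd1 : Disjoint (X.erase oneChar) Y := D.pp.disj.mono_left (Finset.erase_subset _ _)
  have hn : (oneChar : IrrCharacter G) ∉ X.erase oneChar ∪ Y := fun h => by
    rcases Finset.mem_union.1 h with h | h
    · exact (Finset.mem_erase.1 h).1 rfl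
    · exact D.exc_ne h rfl
  set z' : IrrCharacter G → ℤ := fun χ => if χ = oneChar then 1 else if χ ∈ Y then zθ else z χ with hz'
  have h := Sections.column_int (v := v) (insert oneChar (X.erase oneChar ∪ Y)) z' (fun χ hχ => by
    rcases Finset.mem_insert.1 hχ with rfl | hχ
    · simp [hz', oneChar]
    · have hne : χ ≠ oneChar := fun e' => hn (e' ▸ hχ)
      rcases Finset.mem_union.1 hχ with hX | hY
      · simp only [hz', if_neg hne, if_neg (Finset.disjoint_left.1 hd1 hX)]
        exact hz χ hX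
      · simp only [hz', if_neg hne, if_pos hY]
        rw [D.pp.regY χ hY θ hθ v hv, hzθ])
  rw [Finset.sum_insert hn, Finset.sum_union hd1,
    Finset.sum_congr rfl (s₁ := X.erase oneChar) (g := fun χ => z χ * z χ) (fun χ hχ => by
      simp [hz', (Finset.mem_erase.1 hχ).1, Finset.disjoint_left.1 hd1 hχ]),
    Finset.sum_congr rfl (s₁ := Y) (g := fun _ => zθ * zθ) (fun χ hχ => by simp [hz', D.exc_ne hχ, hχ]),
    Finset.sum_const, nsmul_eq_mul] at h
  simp only [hz', if_true, one_mul] at h
  linarith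

end Cfsg.Agent.MTwentyFour.ByOrder.Eleven
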