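import Cfsg.Agent.Lib.Spor.MTwentyFourOrder.SylowElevenFiveArith

/-!
Numerical facts for the Sylow subgroup of order eleven with automiser of order ten and centraliser index twelve, in a
group of the order of the Mathieu group of degree twenty-four.
-/

set_option autoImplicit false
set_option maxRecDepth 100000

namespace Cfsg.Agent.MTwentyFour.ByOrder.Eleven

/-- the greatest absolute value of a first component -/
def topAbs : List (ℤ × ℤ × ℕ) → ℕ
  | [] => 0
  | v :: l => max v.1.natAbs (topAbs l)

theorem le_topAbs : ∀ {l : List (ℤ × ℤ × ℕ)} {v : ℤ × ℤ × ℕ}, v ∈ l → v.1.natAbs ≤ topAbs l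
  | [], _, h => by simp at h
  | u :: l, v, h => by
    rcases List.mem_cons.1 h with rfl | h
    · exact le_max_left _ _
    · exact (le_topAbs h).trans (le_max_right _ _)

theorem natAbs_sum_le : ∀ (s : Multiset (ℤ × ℤ × ℕ)) (b : ℕ), (∀ v ∈ s, v.1.natAbs ≤ b) →
    (s.map fun v : ℤ × ℤ × ℕ => v.1).sum.natAbs ≤ Multiset.card s * b := by
  intro s b
  induction s using Multiset.induction with
  | empty => simp
  | cons v s ih =>
    intro h
    rw [Multiset.map_cons, Multiset.sum_cons, Multiset.card_cons, Nat.succ_mul]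
    have h1 := h v (Multiset.mem_cons_self v s)
    have h2 := ih fun u hu => h u (Multiset.mem_cons_of_mem hu)
    have h3 := Int.natAbs_add_le v.1 (s.map fun v => v.1).sum
    omega

/-- Is there a choice of the given number of items with the given sums, within the budget? -/
def pick : List (ℤ × ℤ × ℕ) → ℕ → ℤ → ℤ → ℕ → Bool
  | [], m, p, q, _ => m == 0 && decide (p = 0) && decide (q = 0)
  | v :: l, m, p, q, b => decide (p.natAbs ≤ m * topAbs (v :: l)) && (List.range (m + 1)).any fun c =>
      decide (c * v.2.2 ≤ b) && pick l (m - c) (p - c * v.1) (q - c * v.2.1) (b - c * v.2.2)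

theorem pick_of_multiset : ∀ (l : List (ℤ × ℤ × ℕ)) (s : Multiset (ℤ × ℤ × ℕ)) (b : ℕ), (∀ v ∈ s, v ∈ l) →
    (s.map fun v => v.2.2).sum ≤ b →
      pick l (Multiset.card s) (s.map fun v => v.1).sum (s.map fun v => v.2.1).sum b = true
  | [], s, b, h, _ => by
    have hs : s = 0 := Multiset.eq_zero_of_forall_notMem fun x hx => by simpa using h x hx
    simp [pick, hs]
  | v :: l, s, b, h, hb => by
    simp only [pick, Bool.and_eq_true, decide_eq_true_eq, List.any_eq_true, List.mem_range]
    refine ⟨natAbs_sum_le s _ fun u hu => le_topAbs (h u hu),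
      s.count v, Nat.lt_succ_of_le (Multiset.count_le_card v s), ?_⟩
    have h1 := Multiset.filter_add_not (fun x => v = x) s
    rw [Multiset.filter_eq] at h1
    set t := s.filter fun x => ¬ v = x
    have hc : Multiset.card s = s.count v + Multiset.card t := by
      conv_lhs => rw [← h1]
      rw [Multiset.card_add, Multiset.card_replicate]
    have hsum : ∀ {A : Type} [AddCommMonoid A] (F : ℤ × ℤ × ℕ → A),
        (s.map F).sum = s.count v • F v + (t.map F).sum := by
      intro A _ F
      conv_lhs => rw [← h1]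
      rw [Multiset.map_add, Multiset.sum_add, Multiset.map_replicate, Multiset.sum_replicate]
    rw [hsum fun v => v.2.2, smul_eq_mul] at hb
    refine ⟨by omega, ?_⟩
    have ih := pick_of_multiset l t (b - s.count v * v.2.2) (fun u hu => by
      obtain ⟨hu1, hu2⟩ := Multiset.mem_filter.1 hu
      exact (List.mem_cons.1 (h u hu1)).resolve_left (Ne.symm hu2)) (by omega)
    rw [hsum fun v => v.1, hsum fun v => v.2.1, nsmul_eq_mul, nsmul_eq_mul, hc, Nat.add_sub_cancel_left]
    simpa using ih

/-- the members other than the one of degree three thousand eight hundred and forty, for the least centraliser -/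
def tenItems : List (ℤ × ℤ × ℕ) :=
  (((sdeg 11 (degs 12) 1).flatMap fun x => (zlist 15456 1439 37 x.natAbs).map fun z =>
    (x, sv x z, z.natAbs * z.natAbs))).insertionSort fun a b => b.1.natAbs ≤ a.1.natAbs

theorem mem_tenItems {x z : ℤ} (hx : x ∈ sdeg 11 (degs 12) 1) (hz : zok 15456 1439 x.natAbs z = true) :
    (x, sv x z, z.natAbs * z.natAbs) ∈ tenItems :=
  (List.mem_insertionSort _).2 (List.mem_flatMap.2 ⟨x, hx, List.mem_map.2 ⟨z, mem_zlist (by norm_num) hz, rfl⟩⟩)

theorem ten_pick : pick tenItems 9 (-3841) 119 1439 = false := by decide +kernel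

/-- Only the degree three thousand eight hundred and forty meets the block of twenty-three. -/
theorem ten_flag : ∀ x ∈ sdeg 11 (degs 12) 1, flag x = true →
    (zlist 2225664 10644480 3262 x.natAbs).isEmpty = false → x = 3840 := by
  decide +kernel

/-- the divisors of the greatest possible order of the centraliser, over four hundred and forty -/
def tenDivs : List ℕ :=
  (List.range 8).flatMap fun a => (List.range 4).flatMap fun b => (List.range 2).map fun d => 2 ^ a * 3 ^ b * 7 ^ d

theorem mem_tenDivs {n : ℕ} (h : n ∣ 24192) : n ∈ tenDivs := by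
  rw [show (24192 : ℕ) = 2 ^ 7 * 3 ^ 3 * 7 ^ 1 by norm_num] at h
  obtain ⟨x, d', hx, hd, rfl⟩ := Nat.dvd_mul.1 h
  obtain ⟨a', b', ha, hb, rfl⟩ := Nat.dvd_mul.1 hx
  obtain ⟨i, hi, rfl⟩ := (Nat.dvd_prime_pow Nat.prime_two).1 ha
  obtain ⟨j, hj, rfl⟩ := (Nat.dvd_prime_pow (by norm_num)).1 hb
  obtain ⟨l, hl, rfl⟩ := (Nat.dvd_prime_pow (by norm_num)).1 hd
  simp only [tenDivs, List.mem_flatMap, List.mem_map, List.mem_range]
  exact ⟨i, by omega, j, by omega, l, by omega, rfl⟩

/-- The orders of the centraliser of the involution, with the value of the great member. -/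
theorem ten_cent : ∀ f ∈ tenDivs, f % 11 = 1 → ∀ r ∈ [440, 1320], 10644480 % (r * f) = 0 →
    ∀ z ∈ zlist (244823040 / (r * f)) (r * f) 3262 3840,
      (r * f = 15840 ∧ z = -120) ∨ ((r * f = 295680 ∨ r * f = 887040) ∧ z = 320) := by
  decide +kernel

/-- the budgets for the block of seven -/
def budgets : List (ℕ × ℕ × ℕ) := [(295680, 172543, 415), (887040, 763903, 874)]

theorem budgets_spec : ∀ c ∈ budgets, 244823040 % c.1 = 0 ∧ c.2.1 + 123137 = c.1 ∧
    c.2.1 < (c.2.2 + 1) * (c.2.2 + 1) := by
  decide +kernel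

/-- The member with sign four modulo five: its value is great, and it is not in the block of seven. -/
theorem ten_five : ∀ c ∈ budgets, ∀ x ∈ sdeg 11 (degs 12) 1, x % 5 = 4 →
    ∀ z ∈ zlist (244823040 / c.1) c.1 942 x.natAbs, ((x.natAbs : ℤ) - z) % 10 = 0 →
      z * z + 102401 ≤ c.1 → 20736 ≤ z * z ∧ x.natAbs ≠ 3840 ∧ sevenOk x.natAbs z = false := by
  decide +kernel

/-- the conditions on the value of a character of the block of seven -/
def zokSeven (cl B d : ℕ) (z : ℤ) : Bool :=
  decide (z.natAbs < d) && decide (z.natAbs * z.natAbs ≤ B) && decide (((d : ℤ) - z) % 28 = 0) &&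
    decide (((cl : ℤ) * z) % (d : ℤ) = 0)

theorem zokSeven_iff {cl B d : ℕ} {z : ℤ} :
    zokSeven cl B d z = true ↔ z.natAbs < d ∧ z.natAbs * z.natAbs ≤ B ∧ ((d : ℤ) - z) % 28 = 0 ∧
      ((cl : ℤ) * z) % (d : ℤ) = 0 := by
  simp only [zokSeven, Bool.and_eq_true, decide_eq_true_eq, and_assoc]

/-- the candidates for a value in the block of seven -/
def zlistSeven (cl B R d : ℕ) : List ℤ :=
  ((List.range (2 * (R.min d / 28 + 1) + 1)).map fun i : ℕ =>
    ((d % 28 : ℕ) : ℤ) + 28 * ((i : ℤ) - ((R.min d / 28 + 1 : ℕ) : ℤ))).filter (zokSeven cl B d)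

theorem mem_zlistSeven {cl B R d : ℕ} (hR : B < (R + 1) * (R + 1)) {z : ℤ} (h : zokSeven cl B d z = true) :
    z ∈ zlistSeven cl B R d := by
  obtain ⟨h1, h2, h3, -⟩ := zokSeven_iff.1 h
  have hzR : z.natAbs ≤ R := by
    by_contra hb
    have : (R + 1) * (R + 1) ≤ z.natAbs * z.natAbs := Nat.mul_le_mul (by omega) (by omega)
    omega
  have hzm : z.natAbs ≤ R.min d := le_min hzR h1.le
  refine List.mem_filter.2 ⟨List.mem_map.2 ⟨((z - ((d % 28 : ℕ) : ℤ)) / 28 + ((R.min d / 28 + 1 : ℕ) : ℤ)).toNat,
    List.mem_range.2 ?_, ?_⟩, h⟩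
  · generalize R.min d = m at hzm ⊢
    omega
  · generalize R.min d = m at hzm ⊢
    omega

/-- the conditions on a common member of the blocks of seven and eleven -/
def memSeven (d : ℕ) (z : ℤ) : Bool :=
  1854720 % d == 0 && (d % 11 == 1 || d % 11 == 10) && decide (((d : ℤ) - z) % 44 = 0) &&
    (d % 5 != 0 || decide (z % 5 = 0))

/-- the search over the values of the rest of a row, the last one determined by the relation -/
def scan (cl B R : ℕ) : List (ℤ × ℕ) → ℤ → ℕ → Bool
  | [], _, _ => true
  | [(x, t)], q, w =>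
    !(zokSeven cl B x.natAbs (sv x (-1 - q)) &&
      decide (w + t * ((sv x (-1 - q)).natAbs * (sv x (-1 - q)).natAbs) ≤ B))
  | (x, t) :: l, q, w => (zlistSeven cl B R x.natAbs).all fun z =>
      decide (B < w + t * (z.natAbs * z.natAbs)) || scan cl B R l (q + sv x z) (w + t * (z.natAbs * z.natAbs))

theorem scan_sound {cl B R : ℕ} (hR : B < (R + 1) * (R + 1)) : ∀ (l : List ((ℤ × ℕ) × ℤ)), l ≠ [] →
    ∀ (q : ℤ) (w : ℕ), scan cl B R (l.map fun u => u.1) q w = true →
      (∀ u ∈ l, zokSeven cl B u.1.1.natAbs u.2 = true) →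
        q + (l.map fun u => sv u.1.1 u.2).sum = -1 →
          w + (l.map fun u => u.1.2 * (u.2.natAbs * u.2.natAbs)).sum ≤ B → False
  | [], hne, _, _, _, _, _, _ => hne rfl
  | [((x, t), z)], _, q, w, hk, hz, hq, hw => by
    have e' : sv x (-1 - q) = z := by
      simp at hq
      by_cases hx : 0 < x <;> simp [sv, hx] at hq ⊢ <;> omega
    have hz' := hz ((x, t), z) (by simp)
    simp only at hz'
    simp at hw
    simp only [List.map_cons, List.map_nil, scan, e', hz', Bool.true_and, Bool.not_eq_true',
      decide_eq_false_iff_not] at hk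
    omega
  | ((x, t), z) :: u :: l, _, q, w, hk, hz, hq, hw => by
    simp only [List.map_cons, List.sum_cons] at hq hw
    simp only [List.map_cons, scan, List.all_eq_true, Bool.or_eq_true, decide_eq_true_eq] at hk
    have hz' := hz ((x, t), z) (by simp)
    simp only at hz'
    have h1 := (hk z (mem_zlistSeven hR hz')).resolve_left (by omega)
    refine scan_sound hR (u :: l) (by simp) (q + sv x z) (w + t * (z.natAbs * z.natAbs)) ?_
      (fun v hv => hz v (List.mem_cons_of_mem _ hv)) ?_ ?_
    · simpa using h1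
    · simp only [List.map_cons, List.sum_cons]; omega
    · simp only [List.map_cons, List.sum_cons]; omega

/-- the values of a common member -/
def memList (cl B R d : ℕ) : List ℤ := (zlistSeven cl B R d).filter (memSeven d)

/-- the search over a row with its common member in front -/
def scanHead (cl B R : ℕ) : List (ℤ × ℕ) → Bool
  | [] => true
  | (x, t) :: l => (memList cl B R x.natAbs).all fun z =>
      decide (B < t * (z.natAbs * z.natAbs)) || scan cl B R l (sv x z) (t * (z.natAbs * z.natAbs))

theorem scanHead_sound {cl B R : ℕ} (hR : B < (R + 1) * (R + 1)) {x : ℤ} {t : ℕ} {z : ℤ}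
    {l : List ((ℤ × ℕ) × ℤ)} (hl : l ≠ []) (hk : scanHead cl B R ((x, t) :: l.map fun u => u.1) = true)
    (hz : zokSeven cl B x.natAbs z = true) (hm : memSeven x.natAbs z = true)
    (hzl : ∀ u ∈ l, zokSeven cl B u.1.1.natAbs u.2 = true)
    (hq : sv x z + (l.map fun u => sv u.1.1 u.2).sum = -1)
    (hw : t * (z.natAbs * z.natAbs) + (l.map fun u => u.1.2 * (u.2.natAbs * u.2.natAbs)).sum ≤ B) : False := by
  simp only [scanHead, List.all_eq_true, Bool.or_eq_true, decide_eq_true_eq] at hk
  exact scan_sound hR l hl _ _ ((hk z (List.mem_filter.2 ⟨mem_zlistSeven hR hz, hm⟩)).resolve_left (by omega))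
    hzl hq hw

/-- the signed degrees of the block of seven with a possible value -/
def sevenVals (cl B R k : ℕ) (r : ℤ) : List ℤ :=
  ((sdeg 7 (degsSeven k) r).filter fun x => !(zlistSeven cl B R x.natAbs).isEmpty).insertionSort
    fun a b => a.natAbs ≤ b.natAbs

theorem mem_sevenVals {cl B R k : ℕ} (hR : B < (R + 1) * (R + 1)) {r x : ℤ} (hx : x ∈ sdeg 7 (degsSeven k) r)
    {z : ℤ} (hz : zokSeven cl B x.natAbs z = true) : x ∈ sevenVals cl B R k r := by
  refine (List.mem_insertionSort _).2 (List.mem_filter.2 ⟨hx, ?_⟩)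
  have hm := mem_zlistSeven hR hz
  cases h : zlistSeven cl B R x.natAbs with
  | nil => rw [h] at hm; simp at hm
  | cons => rfl

/-- the rows with a non-exceptional common member -/
def killX (cl B R e k : ℕ) : Bool :=
  let vals := sevenVals cl B R k 1
  let ys := sevenVals cl B R k (-(e : ℤ))
  let cs := combs vals (e - 2)
  (vals.filter fun x => !(memList cl B R x.natAbs).isEmpty).all fun x => cs.all fun c =>
    !ys.contains (-1 - x - c.sum) ||
      scanHead cl B R ((x, 1) :: c.map (fun v => (v, 1)) ++ [(-1 - x - c.sum, 6 / e)])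

/-- the rows with an exceptional common member -/
def killY (cl B R e k : ℕ) : Bool :=
  let vals := sevenVals cl B R k 1
  let ys := sevenVals cl B R k (-(e : ℤ))
  let cs := combs vals (e - 2)
  (ys.filter fun y => !(memList cl B R y.natAbs).isEmpty).all fun y => cs.all fun c =>
    !vals.contains (-1 - y - c.sum) ||
      scanHead cl B R ((y, 6 / e) :: c.map (fun v => (v, 1)) ++ [(-1 - y - c.sum, 1)])

/-- the selections of the given number of items with the given sum, the greatest in absolute value first -/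
def findSums : List ℤ → ℕ → ℤ → List (List ℤ)
  | _, 0, p => if p = 0 then [[]] else []
  | [], _ + 1, _ => []
  | v :: vs, m + 1, p => if (m + 1) * v.natAbs < p.natAbs then [] else (List.range (m + 2)).flatMap fun c =>
      (findSums vs (m + 1 - c) (p - c * v)).map fun l => List.replicate c v ++ l

theorem natAbs_multiset_sum_le : ∀ (s : Multiset ℤ) (b : ℕ), (∀ v ∈ s, v.natAbs ≤ b) →
    s.sum.natAbs ≤ Multiset.card s * b := by
  intro s b
  induction s using Multiset.induction with
  | empty => simp
  | cons v s ih =>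
    intro h
    rw [Multiset.sum_cons, Multiset.card_cons, Nat.succ_mul]
    have h1 := h v (Multiset.mem_cons_self v s)
    have h2 := ih fun u hu => h u (Multiset.mem_cons_of_mem hu)
    have h3 := Int.natAbs_add_le v s.sum
    omega

theorem mem_findSums : ∀ (l : List ℤ) (s : Multiset ℤ), l.Pairwise (fun a b => b.natAbs ≤ a.natAbs) →
    (∀ v ∈ s, v ∈ l) → ∃ c ∈ findSums l (Multiset.card s) s.sum, (c : Multiset ℤ) = s
  | [], s, _, h => by
    have hs : s = 0 := Multiset.eq_zero_of_forall_notMem fun x hx => by simpa using h x hx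
    subst hs
    exact ⟨[], by simp [findSums], rfl⟩
  | v :: vs, s, hp, h => by
    obtain ⟨hp1, hp2⟩ := List.pairwise_cons.1 hp
    rcases hm : Multiset.card s with _ | m
    · rw [Multiset.card_eq_zero] at hm
      subst hm
      exact ⟨[], by simp [findSums], rfl⟩
    have hb := natAbs_multiset_sum_le s v.natAbs fun u hu => by
      rcases List.mem_cons.1 (h u hu) with rfl | hu'
      · exact le_rfl
      · exact hp1 u hu'
    rw [hm] at hb
    simp only [findSums, if_neg (not_lt.2 hb), List.mem_flatMap, List.mem_map, List.mem_range]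
    have h1 := Multiset.filter_add_not (fun x => v = x) s
    rw [Multiset.filter_eq] at h1
    set t := s.filter fun x => ¬ v = x
    obtain ⟨c, hc, hct⟩ := mem_findSums vs t hp2 fun u hu => by
      obtain ⟨hu1, hu2⟩ := Multiset.mem_filter.1 hu
      exact (List.mem_cons.1 (h u hu1)).resolve_left (Ne.symm hu2)
    have hcnt : s.count v + Multiset.card t = m + 1 := by
      rw [← hm]
      conv_rhs => rw [← h1]
      rw [Multiset.card_add, Multiset.card_replicate]
    have hsum : s.sum = s.count v * v + t.sum := by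
      conv_lhs => rw [← h1]
      rw [Multiset.sum_add, Multiset.sum_replicate, nsmul_eq_mul]
    refine ⟨List.replicate (s.count v) v ++ c, ⟨s.count v, by omega, c, ?_, rfl⟩, ?_⟩
    · rw [show m + 1 - s.count v = Multiset.card t by omega, show s.sum - s.count v * v = t.sum by omega]
      exact hc
    · rw [← Multiset.coe_add, hct, Multiset.coe_replicate, h1]

/-- the signed degrees, the greatest first -/
def sixVals (cl B R k : ℕ) : List ℤ := (sevenVals cl B R k 1).reverse

theorem sixVals_pairwise (cl B R k : ℕ) :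
    (sixVals cl B R k).Pairwise fun a b => b.natAbs ≤ a.natAbs := by
  haveI : Std.Total fun a b : ℤ => a.natAbs ≤ b.natAbs := ⟨fun a b => le_total _ _⟩
  haveI : IsTrans ℤ fun a b : ℤ => a.natAbs ≤ b.natAbs := ⟨fun a b c => le_trans⟩
  rw [sixVals, List.pairwise_reverse]
  exact List.pairwise_insertionSort (fun a b : ℤ => a.natAbs ≤ b.natAbs) _

/-- the rows for an automiser of order six, where all members are alike -/
def killSix (cl B R k : ℕ) : Bool :=
  let vals := sixVals cl B R k
  (vals.filter fun x => !(memList cl B R x.natAbs).isEmpty).all fun x =>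
    (findSums vals 5 (-1 - x)).all fun c => scanHead cl B R ((x, 1) :: c.map fun v => (v, 1))

/-- the possible indices of the centraliser of a Sylow subgroup of order seven and of its automiser -/
def sevenPairs : List (ℕ × ℕ) :=
  [2, 3, 6].flatMap fun e => (divsSeven.filter fun k => k % 2 == 0 && k % 11 != 0 && k % 23 != 0 &&
    34974720 % (e * k) == 0 && 34974720 / (e * k) % 7 == 1).map fun k => (e, k)

theorem mem_sevenPairs {e k : ℕ} (he : e = 2 ∨ e = 3 ∨ e = 6) (hk : k ∈ divsSeven) (h2 : 2 ∣ k)
    (h11 : ¬ 11 ∣ k) (h23 : ¬ 23 ∣ k) (hm : 34974720 % (e * k) = 0) (hn : 34974720 / (e * k) % 7 = 1) :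
    (e, k) ∈ sevenPairs := by
  refine List.mem_flatMap.2 ⟨e, by simp; omega, List.mem_map.2 ⟨k, List.mem_filter.2 ⟨hk, ?_⟩, rfl⟩⟩
  simp only [Bool.and_eq_true, beq_iff_eq, bne_iff_ne, ne_eq]
  exact ⟨⟨⟨⟨Nat.mod_eq_zero_of_dvd h2, fun h => h11 (Nat.dvd_of_mod_eq_zero h)⟩,
    fun h => h23 (Nat.dvd_of_mod_eq_zero h)⟩, hm⟩, hn⟩

end Cfsg.Agent.MTwentyFour.ByOrder.Eleven
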