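import Cfsg.Agent.Lib.Spor.MTwentyFourOrder.SylowElevenCtx
import Cfsg.Agent.Lib.Spor.MTwentyThreeOrder.SylowEleven

/-!
The Sylow subgroup of order eleven of a simple group of the order of the Mathieu group of degree twenty-four does not
have an automiser of order two: the pairs of conjugate involutions inverting it would make seven occur to an odd
power in a square.
-/

set_option autoImplicit false
set_option linter.unusedSectionVars false
set_option maxHeartbeats 1000000

namespace Cfsg.Agent.MTwentyFour.ByOrder.Eleven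

open Cfsg Cfsg.Agent.Char Cfsg.Agent.Small.Order459648 Cfsg.Agent.Char.PrimeSylowCount
open Cfsg.Agent.MTwelve.OrderFront (val_one mult_nat)
open Cfsg.Agent.MTwentyFour.ByOrder (na)
open scoped ComplexConjugate Classical

universe u

variable {G : Type u} [Group G] [Fintype G]

local instance fact_elevenTwo : Fact (Nat.Prime 11) := ⟨by norm_num⟩

namespace Two

variable {P : Sylow 11 G}

/-- An exponent which is one modulo eleven and a multiple of the index. -/
theorem exists_proj {k : ℕ} (hk : ¬ 11 ∣ k) : ∃ q : ℕ, k ∣ q ∧ q % 11 = 1 := by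
  obtain ⟨x, hx1, hx2⟩ := Nat.chineseRemainder
    (((show Nat.Prime 11 by norm_num).coprime_iff_not_dvd.2 hk).symm) 0 1
  exact ⟨x, Nat.modEq_zero_iff_dvd.1 hx1, hx2⟩

/-- The products of a power of the element and a regular element of its centraliser exhaust it, once. -/
theorem split_bijective {k : ℕ} (hP : Nat.card P = 11) {y : G} (hy : y ∈ (P : Subgroup G)) (hy1 : y ≠ 1)
    (hC : Nat.card (Subgroup.centralizer ({y} : Set G)) = 11 * k) (hk : ¬ 11 ∣ k) :
    (∀ c : G, c * y = y * c → ∃ (j : Fin 11) (w : Subgroup.centralizer ({y} : Set G)),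
      w ∈ Sections.regs 11 y ∧ c = y ^ (j : ℕ) * (w : G)) ∧
    (∀ (i j : ℕ) (w w' : Subgroup.centralizer ({y} : Set G)), w ∈ Sections.regs 11 y → w' ∈ Sections.regs 11 y →
      y ^ i * (w : G) = y ^ j * (w' : G) → i % 11 = j % 11) ∧
    (Sections.regs 11 y).card = k := by
  have hoy : orderOf y = 11 := Sections.order_eq hP hy hy1
  obtain ⟨q, hkq, hq⟩ := exists_proj hk
  have hk0 : k ≠ 0 := fun h => hk (h ▸ dvd_zero 11)
  have hord : ∀ c : Subgroup.centralizer ({y} : Set G), orderOf c ∣ 11 * k := fun c => hC ▸ orderOf_dvd_natCard c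
  have hreg : ∀ c : Subgroup.centralizer ({y} : Set G), c ∈ Sections.regs 11 y ↔ (c : G) ^ q = 1 := by
    intro c
    rw [Sections.mem_regs, ← SubmonoidClass.coe_pow, OneMemClass.coe_eq_one, ← orderOf_dvd_iff_pow_eq_one]
    refine ⟨fun h => (((show Nat.Prime 11 by norm_num).coprime_iff_not_dvd.2 h).symm.dvd_of_dvd_mul_left
      (hord c)).trans hkq, fun h h11 => ?_⟩
    have := Nat.mod_eq_zero_of_dvd (h11.trans h)
    omega
  -- the elements of order dividing eleven
  have hsy : ∀ c : G, c * y = y * c → c ^ 11 = 1 → c ∈ Subgroup.zpowers y := by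
    intro c hc hc11
    set C := Subgroup.centralizer ({y} : Set G)
    let y' : C := ⟨y, Subgroup.mem_centralizer_singleton_iff.2 rfl⟩
    let c' : C := ⟨c, Subgroup.mem_centralizer_singleton_iff.2 hc⟩
    haveI : (Subgroup.zpowers y').Normal := ⟨by
      rintro z ⟨j, rfl⟩ g
      have hg : Commute y' g := Subtype.ext (Subgroup.mem_centralizer_singleton_iff.1 g.2).symm
      exact ⟨j, by simp [((hg).zpow_left j).eq.symm]⟩⟩
    have hcard : Nat.card (Subgroup.zpowers y') = 11 := by rw [Nat.card_zpowers, ← Subgroup.orderOf_coe]; exact hoy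
    have hquot : Nat.card (C ⧸ Subgroup.zpowers y') = k := by
      have := Subgroup.card_eq_card_quotient_mul_card_subgroup (Subgroup.zpowers y')
      rw [hC, hcard] at this
      omega
    have hmem : c' ∈ Subgroup.zpowers y' := by
      rw [← QuotientGroup.eq_one_iff]
      refine orderOf_eq_one_iff.1 (Nat.eq_one_of_dvd_coprimes
        ((show Nat.Prime 11 by norm_num).coprime_iff_not_dvd.2 hk) (orderOf_dvd_of_pow_eq_one ?_)
        (hquot ▸ orderOf_dvd_natCard _))
      rw [← QuotientGroup.mk_pow, show c' ^ 11 = 1 from Subtype.ext hc11, QuotientGroup.mk_one]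
    obtain ⟨j, hj⟩ := hmem
    exact ⟨j, by simpa [y', c'] using congrArg Subtype.val hj⟩
  have hpow : ∀ (i : ℕ) (w : Subgroup.centralizer ({y} : Set G)), w ∈ Sections.regs 11 y →
      (y ^ i * (w : G)) ^ q = y ^ i := by
    intro i w hw
    have hc : Commute y (w : G) := (Subgroup.mem_centralizer_singleton_iff.1 w.2).symm
    rw [(hc.pow_left i).mul_pow, (hreg w).1 hw, mul_one, ← pow_mul, pow_eq_pow_mod _ (hoy ▸ pow_orderOf_eq_one y),
      Nat.mul_mod, hq, mul_one, Nat.mod_mod, ← pow_eq_pow_mod _ (hoy ▸ pow_orderOf_eq_one y)]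
  have hdec : ∀ c : G, c * y = y * c → ∃ (j : Fin 11) (w : Subgroup.centralizer ({y} : Set G)),
      w ∈ Sections.regs 11 y ∧ c = y ^ (j : ℕ) * (w : G) := by
    intro c hc
    have hcq : (c ^ q) ^ 11 = 1 := by
      have h1 : c ^ (11 * k) = 1 := by
        have h := hord ⟨c, Subgroup.mem_centralizer_singleton_iff.2 hc⟩
        rw [Subgroup.orderOf_mk] at h
        exact orderOf_dvd_iff_pow_eq_one.1 h
      obtain ⟨s, hs⟩ := hkq
      rw [← pow_mul, show q * 11 = 11 * k * s by rw [hs]; ring, pow_mul, h1, one_pow]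
    obtain ⟨j, hj⟩ := hsy _ (((show Commute c y from hc).pow_left q).eq) hcq
    have hjn : c ^ q = y ^ (j % 11).toNat := by
      rw [← zpow_natCast y, Int.toNat_of_nonneg (Int.emod_nonneg _ (by norm_num)), ← hj]
      exact (hoy ▸ (zpow_mod_orderOf y j)).symm
    set n := (j % 11).toNat
    have hn : n < 11 := by omega
    have hcy : Commute c y := hc
    let w : Subgroup.centralizer ({y} : Set G) :=
      ⟨(y ^ n)⁻¹ * c, Subgroup.mem_centralizer_singleton_iff.2
        ((((Commute.refl y).pow_left n).inv_left.mul_left hcy).eq)⟩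
    refine ⟨⟨n, hn⟩, w, (hreg w).2 ?_, (mul_inv_cancel_left _ _).symm⟩
    show ((y ^ n)⁻¹ * c) ^ q = 1
    rw [((hcy.pow_right n).inv_right.symm).mul_pow, hjn, inv_pow, ← pow_mul,
      pow_eq_pow_mod _ (hoy ▸ pow_orderOf_eq_one y), Nat.mul_mod, hq, mul_one, Nat.mod_mod,
      Nat.mod_eq_of_lt hn, inv_mul_cancel]
  have hinj : ∀ (i j : ℕ) (w w' : Subgroup.centralizer ({y} : Set G)), w ∈ Sections.regs 11 y →
      w' ∈ Sections.regs 11 y → y ^ i * (w : G) = y ^ j * (w' : G) → i % 11 = j % 11 := by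
    intro i j w w' hw hw' he
    have h := congrArg (fun x => x ^ q) he
    simp only [hpow i w hw, hpow j w' hw'] at h
    rw [pow_eq_pow_iff_modEq, hoy] at h
    exact h
  refine ⟨hdec, hinj, ?_⟩
  let f : Fin 11 × {w // w ∈ Sections.regs 11 y} → Subgroup.centralizer ({y} : Set G) := fun p =>
    ⟨y ^ (p.1 : ℕ) * (p.2.1 : G), mul_mem (pow_mem (Subgroup.mem_centralizer_singleton_iff.2 rfl) _) p.2.1.2⟩
  have hf : Function.Bijective f := by
    refine ⟨fun ⟨i, w⟩ ⟨j, w'⟩ h => ?_, fun c => ?_⟩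
    · have h' : y ^ (i : ℕ) * (w.1 : G) = y ^ (j : ℕ) * (w'.1 : G) := congrArg Subtype.val h
      have hij : i = j := Fin.ext (by have := hinj _ _ _ _ w.2 w'.2 h'; omega)
      subst hij
      exact Prod.ext rfl (Subtype.ext (Subtype.ext (mul_left_cancel h')))
    · obtain ⟨j, w, hw, he⟩ := hdec c (Subgroup.mem_centralizer_singleton_iff.1 c.2)
      exact ⟨(j, ⟨w, hw⟩), Subtype.ext he.symm⟩
  have h := Nat.card_eq_of_bijective f hf
  rw [Nat.card_prod, Nat.card_fin, Nat.card_eq_fintype_card (α := {w // w ∈ Sections.regs 11 y}),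
    Fintype.card_coe, hC] at h
  omega

/-- The conjugates of an involution inverting the element. -/
noncomputable def inverters (v y : G) : Finset G :=
  Finset.univ.filter fun g => IsConj v g ∧ g * y * g⁻¹ = y⁻¹

theorem mem_inverters {v y g : G} : g ∈ inverters v y ↔ IsConj v g ∧ g * y * g⁻¹ = y⁻¹ := by
  simp [inverters]

/-- The factorisations over a section are one eleventh of the pairs of inverters. -/
theorem pairs_count {k : ℕ} (hP : Nat.card P = 11) {y : G} (hy : y ∈ (P : Subgroup G)) (hy1 : y ≠ 1)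
    (hC : Nat.card (Subgroup.centralizer ({y} : Set G)) = 11 * k) (hk : ¬ 11 ∣ k) {v : G} (hv : v * v = 1) :
    11 * (∑ w ∈ Sections.regs 11 y, (GTwoSpectrum.pairs v (y * (w : G))).card) =
      (inverters v y).card * (inverters v y).card := by
  obtain ⟨hdec, hinj, -⟩ := split_bijective hP hy hy1 hC hk
  have hoy : orderOf y = 11 := Sections.order_eq hP hy hy1
  have hy11 : y ^ 11 = 1 := hoy ▸ pow_orderOf_eq_one y
  have hinvol : ∀ g : G, IsConj v g → g * g = 1 := by
    intro g hg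
    obtain ⟨c, rfl⟩ := isConj_iff.1 hg
    rw [show c * v * c⁻¹ * (c * v * c⁻¹) = c * (v * v) * c⁻¹ by group, hv, mul_one, mul_inv_cancel]
  have hshift : ∀ g : G, g ∈ inverters v y → ∀ n : ℕ, y ^ n * g ∈ inverters v y := by
    intro g hg n
    obtain ⟨hgc, hgy⟩ := mem_inverters.1 hg
    have hn : g * y ^ (6 * n) * g⁻¹ = (y ^ (6 * n))⁻¹ := by rw [← conj_pow, hgy, inv_pow]
    have e : y ^ n * g = y ^ (6 * n) * g * (y ^ (6 * n))⁻¹ := by
      have h1 : g * (y ^ (6 * n))⁻¹ = y ^ (6 * n) * g := by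
        rw [← hn]
        have := hinvol g hgc
        calc g * (g * y ^ (6 * n) * g⁻¹) = (g * g) * y ^ (6 * n) * g⁻¹ := by group
          _ = y ^ (6 * n) * g := by rw [this, one_mul, inv_eq_of_mul_eq_one_right this]
      rw [mul_assoc, h1, ← mul_assoc, ← pow_add, pow_eq_pow_mod (6 * n + 6 * n) hy11,
        show (6 * n + 6 * n) % 11 = n % 11 by omega, ← pow_eq_pow_mod n hy11]
    refine mem_inverters.2 ⟨hgc.trans (isConj_iff.2 ⟨y ^ (6 * n), e.symm⟩), ?_⟩
    calc y ^ n * g * y * (y ^ n * g)⁻¹ = y ^ n * (g * y * g⁻¹) * (y ^ n)⁻¹ := by group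
      _ = y⁻¹ := by rw [hgy]; group
  have hpair : ∀ (w : Subgroup.centralizer ({y} : Set G)), w ∈ Sections.regs 11 y → ∀ g : G,
      g ∈ GTwoSpectrum.pairs v (y * (w : G)) →
        g ∈ inverters v y ∧ g⁻¹ * (y * (w : G)) ∈ inverters v y := by
    intro w hw g hg
    obtain ⟨hgg, hinv⟩ := GTwoSpectrum.pairs_invert hv hg
    obtain ⟨q, hkq, hq⟩ := exists_proj hk
    have hcw : Commute y (w : G) := (Subgroup.mem_centralizer_singleton_iff.1 w.2).symm
    have hwq : (w : G) ^ q = 1 := by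
      rw [← SubmonoidClass.coe_pow, OneMemClass.coe_eq_one, ← orderOf_dvd_iff_pow_eq_one]
      exact (((show Nat.Prime 11 by norm_num).coprime_iff_not_dvd.2 (Sections.mem_regs.1 hw)).symm.dvd_of_dvd_mul_left
        (hC ▸ orderOf_dvd_natCard w)).trans hkq
    have hxq : (y * (w : G)) ^ q = y := by
      rw [hcw.mul_pow, hwq, mul_one, pow_eq_pow_mod q hy11, hq, pow_one]
    have hgy : g * y * g⁻¹ = y⁻¹ := by
      conv_lhs => rw [← hxq]
      rw [← conj_pow, hinv, inv_pow, hxq]
    have hgi : g⁻¹ = g := inv_eq_of_mul_eq_one_right hgg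
    refine ⟨mem_inverters.2 ⟨(GTwoSpectrum.mem_pairs.1 hg).1, hgy⟩, mem_inverters.2
      ⟨(GTwoSpectrum.mem_pairs.1 hg).2, ?_⟩⟩
    calc g⁻¹ * (y * (w : G)) * y * (g⁻¹ * (y * (w : G)))⁻¹
        = g⁻¹ * (y * ((w : G) * y) * (w : G)⁻¹ * y⁻¹) * g := by group
      _ = g⁻¹ * y * g := by rw [← hcw.eq]; group
      _ = y⁻¹ := by nth_rewrite 2 [← hgi]; rw [hgi]; rw [hgi] at hgy; exact hgy
  rw [← Finset.card_sigma, ← Fintype.card_fin 11, ← Finset.card_univ, ← Finset.card_product, ← Finset.card_product]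
  refine Finset.card_bij (fun p _ => (p.2.2, y ^ (p.1 : ℕ) * (p.2.2⁻¹ * (y * (p.2.1 : G))))) ?_ ?_ ?_
  · rintro ⟨i, w, g⟩ hp
    simp only [Finset.mem_product, Finset.mem_univ, true_and, Finset.mem_sigma] at hp
    obtain ⟨h1, h2⟩ := hpair w hp.1 g hp.2
    exact Finset.mem_product.2 ⟨h1, hshift _ h2 _⟩
  · rintro ⟨i, w, g⟩ hp ⟨j, w', g'⟩ hp' he
    simp only [Finset.mem_product, Finset.mem_univ, true_and, Finset.mem_sigma] at hp hp'
    simp only [Prod.mk.injEq] at he
    obtain ⟨rfl, he⟩ := he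
    obtain ⟨hgy, -⟩ := hpair w hp.1 g hp.2
    obtain ⟨hgc, hgy⟩ := mem_inverters.1 hgy
    have hmv : ∀ n : ℕ, g * y ^ n = y ^ (10 * n) * g := by
      intro n
      have h1 : g * y ^ n * g⁻¹ = y ^ (10 * n) := by
        rw [← conj_pow, hgy, pow_mul, ← show y⁻¹ = y ^ 10 from inv_eq_of_mul_eq_one_right (by rw [← pow_succ']; exact hy11)]
      rw [← h1, inv_mul_cancel_right]
    have hgi : g⁻¹ = g := inv_eq_of_mul_eq_one_right (hinvol g hgc)
    have key : ∀ (n : ℕ) (x : G), g * (y ^ n * (g⁻¹ * (y * x))) = y ^ (10 * n + 1) * x := by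
      intro n x
      rw [← mul_assoc g, hmv, mul_assoc, mul_inv_cancel_left, ← mul_assoc, ← pow_succ]
    have h1 := congrArg (fun x => g * x) he
    simp only [key] at h1
    have hij : i = j := Fin.ext (by
      have := hinj _ _ w w' hp.1 hp'.1 h1
      omega)
    subst hij
    have hww : w = w' := Subtype.ext (mul_left_cancel h1)
    subst hww
    rfl
  · rintro ⟨g, h⟩ hgh
    obtain ⟨hg, hh⟩ := Finset.mem_product.1 hgh
    obtain ⟨hgc, hgy⟩ := mem_inverters.1 hg
    obtain ⟨hhc, hhy⟩ := mem_inverters.1 hh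
    have hgi : g⁻¹ = g := inv_eq_of_mul_eq_one_right (hinvol g hgc)
    have hghy : g * h * y = y * (g * h) := by
      have h1 : h * y = y⁻¹ * h := by rw [← hhy, inv_mul_cancel_right]
      have h2 : g * y⁻¹ = y * g := by
        have h3 := congrArg (·⁻¹) hgy
        simp only [mul_inv_rev, inv_inv] at h3
        rw [← mul_assoc] at h3
        exact eq_mul_inv_iff_mul_eq.1 h3.symm |>.symm
      rw [mul_assoc, h1, ← mul_assoc, h2, mul_assoc]
    obtain ⟨j, w, hw, he⟩ := hdec _ hghy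
    set i : Fin 11 := ⟨((12 - (j : ℕ)) % 11), Nat.mod_lt _ (by norm_num)⟩ with hi
    set h0 := g⁻¹ * (y * (w : G)) with hh0
    have hh' : y ^ (i : ℕ) * h0 = h := by
      have hyg : y ^ (i : ℕ) * g⁻¹ = g⁻¹ * y ^ (10 * (i : ℕ)) := by
        rw [hgi]
        have h1 : g * y ^ (10 * (i : ℕ)) * g⁻¹ = y ^ (i : ℕ) := by
          rw [← conj_pow, hgy, inv_pow, pow_mul, ← inv_pow,
            show (y ^ 10)⁻¹ = y from inv_eq_of_mul_eq_one_right (by rw [← pow_succ]; exact hy11)]
        rw [← h1, inv_mul_cancel_right]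
      rw [hh0, ← mul_assoc, hyg, mul_assoc, ← mul_assoc (y ^ _), ← pow_succ, pow_eq_pow_mod _ hy11,
        show (10 * (i : ℕ) + 1) % 11 = (j : ℕ) by rw [hi]; simp only; omega, ← he, inv_mul_cancel_left]
    have hh0i : h0 ∈ inverters v y := by
      have := hshift h hh (11 - (i : ℕ))
      rwa [← hh', ← mul_assoc, ← pow_add, show 11 - (i : ℕ) + (i : ℕ) = 11 by omega, hy11, one_mul] at this
    refine ⟨⟨i, w, g⟩, ?_, Prod.ext rfl hh'⟩
    simp only [Finset.mem_product, Finset.mem_univ, true_and, Finset.mem_sigma]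
    exact ⟨hw, GTwoSpectrum.mem_pairs.2 ⟨hgc, (mem_inverters.1 hh0i).1⟩⟩

/-- Seven cannot occur to an odd power in a square. -/
theorem no_square {K M b c : ℕ} (hM : ¬ 7 ∣ M) (hK : ¬ 7 ∣ K) (h : b * b * (7 * M) = K * (c * c)) : b = 0 := by
  by_contra hb
  have hM0 : M ≠ 0 := fun e => hM (e ▸ dvd_zero 7)
  have hK0 : K ≠ 0 := fun e => hK (e ▸ dvd_zero 7)
  have hc : c ≠ 0 := fun e => by
    rw [e] at h
    simp [hb, hM0] at h
  have h1 := congrArg (fun n => n.factorization 7) h
  have h77 : Nat.factorization 7 7 = 1 := (show Nat.Prime 7 by norm_num).factorization_self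
  rw [Nat.factorization_mul (mul_ne_zero hb hb) (mul_ne_zero (by norm_num) hM0),
    Nat.factorization_mul hb hb, Nat.factorization_mul (show (7 : ℕ) ≠ 0 by norm_num) hM0,
    Nat.factorization_mul hK0 (mul_ne_zero hc hc), Nat.factorization_mul hc hc] at h1
  simp only [Finsupp.add_apply, h77, Nat.factorization_eq_zero_of_not_dvd hM,
    Nat.factorization_eq_zero_of_not_dvd hK] at h1
  omega

end Two

variable [IsSimpleGroup G] {P : Sylow 11 G} {k : ℕ} {M : Ideal AlgInt} {X Y : Finset (IrrCharacter G)}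
  {a : IrrCharacter G → ℤ} {δ : ℤ}

/-- The automiser does not have order two. -/
theorem not_two (D : Ctx P 2 k M X Y a δ) : False := by
  have hcase := D.case_mem
  simp only [cases, List.mem_cons, List.not_mem_nil, or_false, Prod.mk.injEq] at hcase
  have hk : k ∈ [5, 16, 27, 60, 192, 720, 2304, 8640] := by
    simp only [List.mem_cons, List.not_mem_nil, or_false]
    omega
  have hk7 : ¬ 7 ∣ k ∧ ¬ 11 ∣ k := by
    simp only [List.mem_cons, List.not_mem_nil, or_false] at hk
    omega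
  obtain ⟨χ, hsing⟩ : ∃ χ, X.erase oneChar = {χ} :=
    Finset.card_eq_one.1 ((Finset.card_erase_of_mem D.one_mem).trans (by rw [D.pp.cardX]))
  have hχ : χ ∈ X.erase oneChar := by rw [hsing]; simp
  obtain ⟨hne, hχX⟩ := Finset.mem_erase.1 hχ
  obtain ⟨θ, hθ⟩ := D.exc_nonempty
  set d := charDegree (χ : G → ℂ) with hd
  set g := charDegree (θ : G → ℂ) with hg
  have hrel := rel_one D.pp D.one_mem D.one_sign hθ
  rw [hsing, Finset.sum_singleton, ← hd, ← hg] at hrel
  have hx := two_table k hk _ (D.sdeg_X hχ) _ (by simpa using D.sdeg_Y hθ) hrel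
  rw [← hd] at hx
  obtain ⟨ha, hδ, hgd, hd2⟩ : a χ = 1 ∧ δ = 1 ∧ g = d + 1 ∧ (d = 23 ∨ d = 45) := by
    rcases D.pp.a_sign χ hχX with e' | e' <;> rw [e'] at hx hrel ⊢ <;>
      rcases D.pp.sign with e'' | e'' <;> rw [e''] at hrel ⊢ <;> omega
  -- an involution
  haveI : Fact (Nat.Prime 2) := ⟨Nat.prime_two⟩
  obtain ⟨v, hv⟩ := exists_prime_orderOf_dvd_card' (G := G) 2 (D.order ▸ by norm_num)
  have hv2 : v ^ 2 = 1 := by rw [← hv]; exact pow_orderOf_eq_one v
  have hvv : v * v = 1 := by rw [← pow_two, hv2]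
  obtain ⟨z, hz, -, hlt⟩ := SmallOrderGraph.invol_value (na D.order) hne hv
  rw [← hd] at hlt
  have hθv : (θ : G → ℂ) v = 1 + (z : ℂ) := by
    have h2 := rel_erase D.pp D.one_mem D.one_sign hθ (g := v) (by rw [hv]; norm_num)
    rw [hsing, Finset.sum_singleton, hδ, ha, hz] at h2
    simpa using h2
  obtain ⟨y, hyn⟩ := SmallOrderGraph.nonOne_nonempty P D.card
  have hy1 : (y : G) ≠ 1 := mem_nonOne.1 hyn
  have hCy : Nat.card (Subgroup.centralizer ({(y : G)} : Set G)) = 11 * k := by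
    rw [Sections.cent_eq D.card y.2 hy1, D.cent]
  obtain ⟨-, -, hregs⟩ := Two.split_bijective D.card y.2 hy1 hCy hk7.2
  have hcount := Two.pairs_count D.card y.2 hy1 hCy hk7.2 hvv
  have hsc := MTwentyThree.ByOrder.Eleven.section_count D.modular D.card D.pp ⟨θ, hθ⟩ D.frob hyn hv2 hθ
  rw [show MTwentyThree.ByOrder.Eleven.regs (y : G) = Sections.regs 11 (y : G) from rfl, hregs,
    ← Finset.add_sum_erase X _ D.one_mem, hsing, Finset.sum_singleton, D.one_sign, hδ, ha, hz, hθv, D.order,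
    val_one χ, val_one θ, ← hd, ← hg, hgd] at hsc
  set S := ∑ w ∈ Sections.regs 11 (y : G), (GTwoSpectrum.pairs v ((y : G) * (w : G))).card
  set cl := Nat.card {x : G // IsConj v x}
  set A := (Two.inverters v (y : G)).card
  have hdz : (d : ℤ) - z ≠ 0 := by omega
  have hd0 : ((d : ℂ)) ≠ 0 := Nat.cast_ne_zero.2 (by omega)
  have hd1 : ((d : ℂ)) + 1 ≠ 0 := by exact_mod_cast Nat.succ_ne_zero d
  have hint : (22256640 : ℤ) * ((A : ℤ) * A) * ((d : ℤ) * ((d : ℤ) + 1)) =
      (k : ℤ) * ((cl : ℤ) * ((d : ℤ) - z)) ^ 2 := by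
    have h11 : (11 : ℂ) * (S : ℂ) = (A : ℂ) * A := by exact_mod_cast hcount
    apply (Int.cast_injective (α := ℂ))
    simp only [oneChar] at hsc
    push_cast at hsc ⊢
    field_simp at hsc
    linear_combination hsc - 22256640 * ((d : ℂ) * ((d : ℂ) + 1)) * h11
  have hA : A ≠ 0 := by
    intro hA
    rw [hA] at hint
    simp only [Nat.cast_zero, mul_zero, zero_mul] at hint
    rcases mul_eq_zero.1 hint.symm with h | h
    · exact D.k_ne_zero (by exact_mod_cast h)
    · rcases mul_eq_zero.1 (pow_eq_zero_iff (two_ne_zero) |>.1 h) with h | h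
      · exact card_conjClass_ne_zero v (by exact_mod_cast h)
      · exact hdz h
  have hnat := congrArg Int.natAbs hint
  simp only [Int.natAbs_mul, Int.natAbs_pow, Int.natAbs_natCast] at hnat
  refine hA (Two.no_square (M := 3179520 * (d * (d + 1))) (K := k) (c := cl * ((d : ℤ) - z).natAbs) ?_ hk7.1 ?_)
  · rcases hd2 with e' | e' <;> rw [e'] <;> norm_num
  · rw [show ((d : ℤ) + 1).natAbs = d + 1 by omega, show Int.natAbs 22256640 = 7 * 3179520 from rfl] at hnat
    rw [← pow_two (cl * _), ← hnat]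
    ring

end Cfsg.Agent.MTwentyFour.ByOrder.Eleven
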