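import Cfsg.Agent.Lib.Spor.MTwentyFourOrder.SylowEleven
import Cfsg.Agent.Lib.Spor.MathieuByGraph.TwentyThree

/-!
A simple group of the order of the Mathieu group of degree twenty-four: the degrees modulo eleven, an element of
order ten, and the Sylow subgroup of order five.
-/

set_option autoImplicit false
set_option linter.unusedSectionVars false
set_option maxRecDepth 100000
set_option maxHeartbeats 1000000

namespace Cfsg.Agent.MTwentyFour.ByOrder

open Cfsg Cfsg.Agent.Char Cfsg.Agent.Small.Order459648 Cfsg.Agent.Char.PrimeSylowCount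
open scoped ComplexConjugate Classical

universe u

namespace Five

/-- the residues modulo eleven allowed by the block of that prime -/
def resEleven : List ℕ := [0, 1, 10]

/-- the possible degrees of the non-trivial characters of the principal block of five -/
def degs (k : ℕ) : List ℕ :=
  (Eleven.degsFive k).filter fun d => resEleven.contains (d % 11) && decide (d ≠ 11)

theorem mem_degs {k d : ℕ} (hd : d ∈ Eleven.degsFive k) (h11 : d % 11 ∈ resEleven) (hne : d ≠ 11) :
    d ∈ degs k :=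
  List.mem_filter.2 ⟨hd, by simp [h11, hne]⟩

/-- The linear relation of the principal block of five leaves four centraliser indices. -/
theorem table : ∀ k ∈ Eleven.divsFive, k % 11 ≠ 0 → k % 23 ≠ 0 → k % 2 = 0 → ∀ e ∈ [2, 4],
    48964608 % (e * k) = 0 → 48964608 / (e * k) % 5 = 1 →
      ∀ y ∈ Eleven.sdeg 5 (degs k) e, Eleven.linOk (Eleven.sdeg 5 (degs k) 1) (e - 1) (y - 1) = true →
        e = 4 ∧ k ∈ [2, 12, 32, 192] := by
  decide +kernel

end Five

variable {G : Type u} [Group G] [Fintype G] [IsSimpleGroup G]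

local instance fact_fiveFive : Fact (Nat.Prime 5) := ⟨by norm_num⟩
local instance fact_elevenFive : Fact (Nat.Prime 11) := ⟨by norm_num⟩
local instance fact_twentyThreeFive : Fact (Nat.Prime 23) := ⟨by norm_num⟩

/-- The degrees modulo eleven. -/
theorem deg_res_eleven (hG : Nat.card G = 244823040) (χ : IrrCharacter G) :
    charDegree (χ : G → ℂ) % 11 ∈ Five.resEleven := by
  obtain ⟨P, hP, hC, he⟩ := exists_eleven hG
  obtain ⟨M, X, Y, a, δ, h, -, hdiv⟩ := SmallOrderGraph.exists_data P hP he hC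
  simp only [Five.resEleven, List.mem_cons, List.not_mem_nil, or_false]
  by_cases hX : χ ∈ X
  · have h2 := (h.a_congr χ hX).eq
    rcases h.a_sign χ hX with e' | e' <;> rw [e'] at h2 <;> omega
  by_cases hY : χ ∈ Y
  · have h2 := (h.congrY χ hY).eq
    rcases h.sign with e' | e' <;> rw [e'] at h2 <;> omega
  have := Nat.mod_eq_zero_of_dvd (hdiv χ hX hY)
  omega

/-- No element has as order a multiple of eleven times another prime. -/
theorem no_mixed_eleven (hG : Nat.card G = 244823040) {q : ℕ} (hq : q.Prime) (hq11 : q ≠ 11) (g : G) :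
    ¬ 11 * q ∣ orderOf g := by
  intro hg
  obtain ⟨P, hP, hC, -⟩ := exists_eleven hG
  have := Sections.dvd_of_mixed hP (k := 1) (by rw [mul_one]; exact hC) hq hq11 hg
  have := Nat.le_of_dvd (by norm_num) this
  have := hq.two_le
  omega

/-- No element has as order a multiple of twenty-three times another prime. -/
theorem no_mixed_twentythree (hG : Nat.card G = 244823040) {q : ℕ} (hq : q.Prime) (hq23 : q ≠ 23) (g : G) :
    ¬ 23 * q ∣ orderOf g := by
  intro hg
  obtain ⟨P, hP, hC, -⟩ := exists_twentythree hG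
  have := Sections.dvd_of_mixed hP (k := 1) (by rw [mul_one]; exact hC) hq hq23 hg
  have := Nat.le_of_dvd (by norm_num) this
  have := hq.two_le
  omega

/-- An element of order ten normalising a Sylow subgroup of order eleven. -/
theorem exists_ten (hG : Nat.card G = 244823040) :
    ∃ (P : Sylow 11 G) (g : G), Nat.card P = 11 ∧ orderOf g = 10 ∧
      g ∈ Subgroup.normalizer ((P : Subgroup G) : Set G) ∧
      ∀ x ∈ (P : Subgroup G), g ^ 5 * x * (g ^ 5)⁻¹ = x⁻¹ := by
  obtain ⟨P, hP, hC, he⟩ := exists_eleven hG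
  set C := Subgroup.centralizer ((P : Subgroup G) : Set G) with hCdef
  set N := Subgroup.normalizer ((P : Subgroup G) : Set G) with hNdef
  obtain ⟨y, hy, -⟩ : ∃ y : G, y ∈ (P : Subgroup G) ∧ orderOf y = 11 := by
    obtain ⟨y, hy⟩ := exists_prime_orderOf_dvd_card' (G := (P : Subgroup G)) 11 (dvd_of_eq hP.symm)
    exact ⟨y, y.2, by rw [Subgroup.orderOf_coe, hy]⟩
  haveI : IsCyclic (P : Subgroup G) := isCyclic_of_prime_card hP
  -- the action on the Sylow subgroup
  let f : N →* MulAut (P : Subgroup G) := (P : Subgroup G).normalizerMonoidHom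
  have hker : f.ker = C.subgroupOf N := Subgroup.normalizerMonoidHom_ker _
  have hidx : f.ker.index = 10 := by rw [hker]; exact he
  have hrange : Nat.card f.range = 10 := by rw [← Subgroup.index_ker]; exact hidx
  have hAut : Nat.card (MulAut (P : Subgroup G)) = 10 := by
    rw [IsCyclic.card_mulAut, hP]; decide
  have htop : f.range = ⊤ := Subgroup.eq_top_of_card_eq _ (by rw [hrange, hAut])
  haveI : IsCyclic (MulAut (P : Subgroup G)) := isCyclic_iff_exists_natCard_le_orderOf.2 (by
    obtain ⟨u, hu⟩ : ∃ u : (ZMod (Nat.card (P : Subgroup G)))ˣ, orderOf u = 10 := by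
      rw [hP]
      exact ⟨⟨2, 6, by decide, by decide⟩, orderOf_eq_iff (by norm_num) |>.2 ⟨by decide, by decide⟩⟩
    exact ⟨IsCyclic.mulAutMulEquiv (P : Subgroup G) |>.symm u, by rw [MulEquiv.orderOf_eq, hu, hAut]⟩)
  obtain ⟨σ, hσ⟩ := IsCyclic.exists_ofOrder_eq_natCard (α := MulAut (P : Subgroup G))
  rw [hAut] at hσ
  obtain ⟨n, rfl⟩ : σ ∈ f.range := htop ▸ Subgroup.mem_top σ
  have hdvd : 10 ∣ orderOf (n : G) := by
    rw [Subgroup.orderOf_coe, ← hσ]
    exact orderOf_map_dvd f n
  set m := orderOf (n : G) with hm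
  obtain ⟨c, hc⟩ : ∃ c, m = 10 * c := hdvd
  have hc1 : c = 1 := by
    have h10 : f (n ^ 10) = 1 := by rw [map_pow, ← hσ, pow_orderOf_eq_one]
    have hmem : (n : G) ^ 10 ∈ C := by
      have := (MonoidHom.mem_ker (f := f)).2 h10
      rw [hker, Subgroup.mem_subgroupOf] at this
      simpa using this
    have h1 : ((n : G) ^ 10) ^ 11 = 1 := by
      have := (C.orderOf_dvd_natCard hmem)
      rw [hC] at this
      exact orderOf_dvd_iff_pow_eq_one.1 this
    have hd : m ∣ 10 * 11 := orderOf_dvd_of_pow_eq_one (by rw [pow_mul, h1])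
    rw [hc] at hd
    rcases (Nat.dvd_prime (by norm_num : Nat.Prime 11)).1 (Nat.dvd_of_mul_dvd_mul_left (by norm_num) hd) with
      e' | e'
    · exact e'
    · exfalso
      refine no_mixed_eleven hG Nat.prime_two (by norm_num) (n : G) ?_
      rw [← hm, hc, e']
      norm_num
  refine ⟨P, n, hP, by rw [← hm, hc, hc1], n.2, fun x hx => ?_⟩
  -- the involution inverts
  set τ := f (n ^ 5) with hτ
  have hτ2 : τ * τ = 1 := by
    rw [hτ, ← map_mul, ← pow_add, map_pow, show 5 + 5 = orderOf (f n) by rw [hσ], pow_orderOf_eq_one]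
  have hτ1 : τ ≠ 1 := by
    rw [hτ, map_pow]
    intro h
    have := Nat.le_of_dvd (by norm_num) (hσ ▸ orderOf_dvd_of_pow_eq_one h)
    omega
  have hinv : ∀ z : (P : Subgroup G), τ z = z⁻¹ := by
    intro z
    obtain ⟨j, hj⟩ := MonoidHom.map_cyclic τ.toMonoidHom
    have hz11 : ∀ w : (P : Subgroup G), w ^ 11 = 1 := fun w => by
      have h := pow_card_eq_one' (x := w)
      rwa [hP] at h
    have hj2 : ∀ w : (P : Subgroup G), w ^ (j * j) = w := fun w => by
      have h := congrArg (fun φ : MulAut (P : Subgroup G) => φ w) hτ2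
      simp only [MulAut.mul_apply, MulAut.one_apply] at h
      rw [show τ w = w ^ j from hj w, show τ (w ^ j) = (w ^ j) ^ j from hj _, ← zpow_mul] at h
      exact h
    have hyne : ∃ w : (P : Subgroup G), orderOf w = 11 := exists_prime_orderOf_dvd_card' 11 (dvd_of_eq hP.symm)
    obtain ⟨w, hw⟩ := hyne
    have h11 : (11 : ℤ) ∣ j * j - 1 := by
      rw [show (11 : ℤ) = ((orderOf w : ℕ) : ℤ) by rw [hw]; rfl, orderOf_dvd_iff_zpow_eq_one, zpow_sub,
        hj2, zpow_one, mul_inv_cancel]
    have hjne : ¬ (11 : ℤ) ∣ j - 1 := by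
      rintro ⟨i, hi⟩
      refine hτ1 (MulEquiv.ext fun v => ?_)
      rw [show τ v = v ^ j from hj v, show j = 1 + 11 * i by omega, zpow_add, zpow_one, zpow_mul,
        show v ^ (11 : ℤ) = 1 by exact_mod_cast hz11 v, one_zpow, mul_one]
      rfl
    rcases (Int.Prime.dvd_mul' (show Nat.Prime 11 by norm_num)
      (show ((11 : ℕ) : ℤ) ∣ (j - 1) * (j + 1) by
        rw [show (j - 1) * (j + 1) = j * j - 1 by ring]; exact h11)) with h | h
    · exact (hjne h).elim
    · obtain ⟨i, hi⟩ := h
      rw [show τ z = z ^ j from hj z, show j = -1 + 11 * i by push_cast at hi; omega, zpow_add, zpow_mul,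
        show z ^ (11 : ℤ) = 1 by exact_mod_cast hz11 z, one_zpow, mul_one, zpow_neg, zpow_one]
  have h := congrArg Subtype.val (hinv ⟨x, hx⟩)
  have hval : ∀ (u : N) (z : (P : Subgroup G)), ((f u z : (P : Subgroup G)) : G) = (u : G) * z * (u : G)⁻¹ :=
    fun u z => rfl
  rw [hτ, hval, SubmonoidClass.coe_pow] at h
  simpa using h

/-- The Sylow subgroup of order five: automiser four, four possible centraliser indices. -/
theorem exists_five (hG : Nat.card G = 244823040) :
    ∃ (Q : Sylow 5 G) (k : ℕ), Nat.card Q = 5 ∧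
      Nat.card (Subgroup.centralizer ((Q : Subgroup G) : Set G)) = 5 * k ∧ k ∈ [2, 12, 32, 192] ∧
      (Subgroup.centralizer ((Q : Subgroup G) : Set G)).relIndex
        (Subgroup.normalizer ((Q : Subgroup G) : Set G)) = 4 := by
  obtain ⟨Q, n, e, k, hQ, -, hk, hnek, hn1, -, he4, he1, he⟩ :=
    data (G := G) (p := 5) (m := 48964608) (by rw [hG]) (by norm_num) (by norm_num)
  have hC : Nat.card (Subgroup.centralizer ((Q : Subgroup G) : Set G)) = 5 * k := hk
  have hk0 : k ≠ 0 := by rintro rfl; simp at hnek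
  have hkM : k ∣ 48964608 := ⟨n * e, by linarith⟩
  have hel : e = 2 ∨ e = 4 := by
    have : e ≤ 4 := Nat.le_of_dvd (by norm_num) he4
    interval_cases e <;> simp_all
  have hpart : ∀ q : ℕ, q.Prime → q ≠ 5 → q ∣ k → ∃ g : G, orderOf g = 5 * q := by
    intro q hq hq5 hqk
    haveI : Fact q.Prime := ⟨hq⟩
    obtain ⟨v, hv⟩ := exists_prime_orderOf_dvd_card'
      (G := Subgroup.centralizer ((Q : Subgroup G) : Set G)) q (hC ▸ dvd_mul_of_dvd_right hqk 5)
    obtain ⟨y, hy⟩ := SmallOrderGraph.nonOne_nonempty Q hQ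
    have hc : Commute (y : G) (v : G) := Subgroup.mem_centralizer_iff.1 v.2 _ y.2
    refine ⟨(y : G) * (v : G), ?_⟩
    rw [hc.orderOf_mul_eq_mul_orderOf_of_coprime
      (by rw [Sections.order_eq hQ y.2 (mem_nonOne.1 hy), Subgroup.orderOf_coe, hv]
          exact (Nat.coprime_primes (by norm_num) hq).2 (Ne.symm hq5)),
      Sections.order_eq hQ y.2 (mem_nonOne.1 hy), Subgroup.orderOf_coe, hv]
  have h11 : ¬ 11 ∣ k := fun h => by
    obtain ⟨g, hg⟩ := hpart 11 (by norm_num) (by norm_num) h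
    exact no_mixed_eleven hG (q := 5) (by norm_num) (by norm_num) g (by rw [hg])
  have h23 : ¬ 23 ∣ k := fun h => by
    obtain ⟨g, hg⟩ := hpart 23 (by norm_num) (by norm_num) h
    exact no_mixed_twentythree hG (q := 5) (by norm_num) (by norm_num) g (by rw [hg])
  have h2 : 2 ∣ k := by
    obtain ⟨-, g, -, hg, -, -⟩ := exists_ten hG
    exact Sections.dvd_of_mixed hQ hC (q := 2) Nat.prime_two (by norm_num) (g := g) (by rw [hg])
  obtain ⟨M, hM⟩ := exists_pModular (show Nat.Prime 5 by norm_num)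
  obtain ⟨t, ht, het⟩ : ∃ t, 0 < t ∧ e * t + 1 = 5 := by
    rcases hel with rfl | rfl
    exacts [⟨2, by norm_num⟩, ⟨1, by norm_num⟩]
  obtain ⟨X, Y, a, δ, h, h1X, hone, hYc⟩ := Solv.BReyn.exists_principal_one_mem hM hQ he (by omega) ht het
  change (oneChar : IrrCharacter G) ∈ X at h1X
  change a (oneChar : IrrCharacter G) = 1 at hone
  obtain ⟨y, hyn⟩ := SmallOrderGraph.nonOne_nonempty Q hQ
  obtain ⟨θ, hθ⟩ : Y.Nonempty := Finset.card_pos.1 (by omega)
  have hθne : θ ≠ oneChar := fun e1 => Finset.disjoint_left.1 h.disj h1X (e1 ▸ hθ)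
  have hG' : Nat.card G = 5 * 48964608 := by rw [hG]
  have hdeg : ∀ χ : IrrCharacter G, χ ≠ oneChar → charDegree (χ : G → ℂ) ∣ 48964608 / k →
      charDegree (χ : G → ℂ) ∈ Five.degs k := fun χ hne hd =>
    Five.mem_degs (Eleven.mem_degsFive hd (hd.trans (Nat.div_dvd_of_dvd hkM)) (Eleven.deg_range hG hne).1
      (Eleven.deg_range hG hne).2 (Eleven.deg_res hG χ)) (deg_res_eleven hG χ)
      (MathieuByGraph.deg_ne_eleven (na hG) (by rw [hG]; norm_num) (by rw [hG]; norm_num)
        (by rw [hG]; norm_num) hne)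
  have hlin := Eleven.lin_test h h1X hone (l := Five.degs k)
    (fun d hd => by
      have := (List.mem_filter.1 (List.mem_filter.1 hd).1).2
      simp at this
      omega)
    (fun χ hχ => hdeg χ (Finset.mem_erase.1 hχ).1
      (Eleven.dvd_X hQ h hG' hC hyn (Finset.mem_erase.1 hχ).2)) hθ
  have hek : 0 < e * k := Nat.mul_pos (by omega) (Nat.pos_of_ne_zero hk0)
  obtain ⟨he4', hkl⟩ := Five.table k (Eleven.mem_divsFive hkM) (fun h' => h11 (Nat.dvd_of_mod_eq_zero h'))
    (fun h' => h23 (Nat.dvd_of_mod_eq_zero h')) (Nat.mod_eq_zero_of_dvd h2) e (by simp; omega)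
    (by rw [← hnek, mul_assoc, Nat.mul_mod_left])
    (by rw [← hnek, mul_assoc, Nat.mul_div_cancel _ hek]; exact hn1) _
    (Eleven.mem_sdeg (hdeg θ hθne (Eleven.dvd_Y hQ hM h hG' hC hyn hθ)) h.sign (Eleven.congr_Y h hθ)) hlin
  exact ⟨Q, k, hQ, hC, hkl, he.trans he4'⟩

end Cfsg.Agent.MTwentyFour.ByOrder
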